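import Mathlib.AlgebraicGeometry.Morphisms.FlatDescent
import Mathlib.AlgebraicGeometry.Morphisms.Descent
import Mathlib.AlgebraicGeometry.QuasiAffine

/-!
Affineness of a qcqs morphism descends along flat surjective quasi-compact morphisms.
-/

universe u

open CategoryTheory CategoryTheory.Limits AlgebraicGeometry TopologicalSpace

namespace Groth.L22.AffDesc

variable {X S T Y : Scheme.{u}} {f : T ⟶ S} {g : Y ⟶ X} {iX : X ⟶ S} {iY : Y ⟶ T}

/-- Flat base change for global sections of a qcqs scheme over an affine base. -/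
theorem isPushout_appTop (H : IsPullback g iY iX f) [IsAffine S] [IsAffine T] [Flat f]
    [CompactSpace X] [QuasiSeparatedSpace X] :
    IsPushout iX.appTop f.appTop g.appTop iY.appTop := by
  have h := (isIso_pushoutSection_iff H (US := ⊤) (UT := ⊤) (UX := ⊤) (UY := ⊤)
    (by simp) (by simp) (by simp)).1
    (isIso_pushoutSection_of_isQuasiSeparated_of_flat_right H (by simp) (by simp) (by simp)
      (isAffineOpen_top S) (isAffineOpen_top T) isCompact_univ isQuasiSeparated_univ)
  simp only [Scheme.Hom.appTop, ← Scheme.Hom.app_eq_appLE] at h ⊢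
  simpa [Scheme.Hom.appLE] using h

/-- The square comparing `toSpecΓ` before and after a flat base change is cartesian. -/
theorem isPullback_toSpecΓ (H : IsPullback g iY iX f) [IsAffine S] [IsAffine T] [Flat f]
    [CompactSpace X] [QuasiSeparatedSpace X] :
    IsPullback g Y.toSpecΓ X.toSpecΓ (Spec.map g.appTop) := by
  have hR := ((isPushout_appTop H).op.map Scheme.Spec).flip
  refine IsPullback.of_bot ?_ (Scheme.toSpecΓ_naturality g) hR
  refine H.of_iso (Iso.refl _) (Iso.refl _) T.isoSpec S.isoSpec (by simp) ?_ ?_ ?_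
  · simpa [Scheme.isoSpec] using Scheme.toSpecΓ_naturality iY
  · simpa [Scheme.isoSpec] using Scheme.toSpecΓ_naturality iX
  · simpa [Scheme.isoSpec] using Scheme.toSpecΓ_naturality f

theorem isAffine_of_isPullback (H : IsPullback g iY iX f) [IsAffine S] [IsAffine T] [Flat f]
    [Surjective f] [CompactSpace X] [QuasiSeparatedSpace X] [IsAffine Y] : IsAffine X := by
  have hR := ((isPushout_appTop H).op.map Scheme.Spec).flip
  have hS : MorphismProperty.isomorphisms Scheme.{u} X.toSpecΓ := by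
    refine MorphismProperty.of_isPullback_of_descendsAlong
      (Q := @Surjective ⊓ @Flat ⊓ @QuasiCompact) (isPullback_toSpecΓ H).flip ?_
      (inferInstanceAs (IsIso Y.toSpecΓ))
    have hfs' : (@Surjective ⊓ @Flat : MorphismProperty Scheme.{u}) (Spec.map f.appTop) :=
      (MorphismProperty.arrow_mk_iso_iff _
        (Arrow.isoMk T.isoSpec S.isoSpec (by
          simpa [Scheme.isoSpec] using (Scheme.toSpecΓ_naturality f).symm) :
          Arrow.mk f ≅ Arrow.mk (Spec.map f.appTop))).1 ⟨inferInstance, inferInstance⟩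
    refine ⟨⟨?_, ?_⟩, inferInstance⟩
    · exact MorphismProperty.of_isPullback hR.flip hfs'.1
    · exact MorphismProperty.of_isPullback hR.flip hfs'.2
  exact ⟨hS⟩

theorem isAffineHom_of_isPullback (H : IsPullback g iY iX f) [Flat f] [Surjective f]
    [QuasiCompact f] [QuasiCompact iX] [QuasiSeparated iX] [IsAffineHom iY] : IsAffineHom iX := by
  refine ⟨fun U hU => ?_⟩
  haveI : IsAffine U.toScheme := hU
  have hc : IsCompact (f ⁻¹ᵁ U : Set T) := QuasiCompact.isCompact_preimage _ U.2 hU.isCompact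
  haveI : CompactSpace (f ⁻¹ᵁ U).toScheme := isCompact_iff_compactSpace.mp hc
  let 𝒰 := (f ⁻¹ᵁ U).toScheme.affineCover.finiteSubcover
  let p : (∐ fun i => 𝒰.X i) ⟶ (f ⁻¹ᵁ U).toScheme := Sigma.desc fun i => 𝒰.f i
  haveI : ∀ i, IsAffine (𝒰.X i) := fun i => by dsimp [𝒰]; infer_instance
  haveI : Surjective p := by
    refine ⟨fun y => ?_⟩
    obtain ⟨i, z, hz⟩ := 𝒰.exists_eq y
    exact ⟨Sigma.ι (fun i => 𝒰.X i) i z, by
      rw [← Scheme.Hom.comp_apply, Sigma.ι_desc]; exact hz⟩
  haveI : Flat p := IsZariskiLocalAtSource.sigmaDesc fun i => inferInstance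
  let q := p ≫ (f ∣_ U)
  haveI : Surjective (f ∣_ U) :=
    MorphismProperty.of_isPullback (P := @Surjective) (isPullback_morphismRestrict f U).flip
      inferInstance
  haveI : Surjective q := inferInstanceAs (Surjective (p ≫ (f ∣_ U)))
  haveI : Flat q := inferInstanceAs (Flat (p ≫ (f ∣_ U)))
  have hsq := IsPullback.of_hasPullback (iX ∣_ U) q
  haveI : QuasiCompact (iX ∣_ U) :=
    MorphismProperty.of_isPullback (P := @QuasiCompact) (isPullback_morphismRestrict iX U).flip
      inferInstance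
  haveI : QuasiSeparated (iX ∣_ U) :=
    MorphismProperty.of_isPullback (P := @QuasiSeparated) (isPullback_morphismRestrict iX U).flip
      inferInstance
  haveI : CompactSpace (iX ⁻¹ᵁ U).toScheme := QuasiCompact.compactSpace_of_compactSpace (iX ∣_ U)
  haveI : QuasiSeparatedSpace (iX ⁻¹ᵁ U).toScheme :=
    quasiSeparatedSpace_of_quasiSeparated (iX ∣_ U)
  have hbig := hsq.paste_horiz (isPullback_morphismRestrict iX U).flip
  have hbig' : IsPullback (pullback.fst (iX ∣_ U) q ≫ (iX ⁻¹ᵁ U).ι) (pullback.snd (iX ∣_ U) q) iX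
      ((p ≫ (f ⁻¹ᵁ U).ι) ≫ f) := by
    have : (p ≫ (f ⁻¹ᵁ U).ι) ≫ f = q ≫ U.ι := by
      simp [q, morphismRestrict_ι]
    rw [this]; exact hbig
  let l := H.lift (pullback.fst (iX ∣_ U) q ≫ (iX ⁻¹ᵁ U).ι)
    (pullback.snd (iX ∣_ U) q ≫ p ≫ (f ⁻¹ᵁ U).ι) (by
      rw [hbig'.w]; simp only [Category.assoc])
  have hl : IsPullback l (pullback.snd (iX ∣_ U) q) iY (p ≫ (f ⁻¹ᵁ U).ι) := by
    refine IsPullback.of_right ?_ (H.lift_snd _ _ _) H
    rw [H.lift_fst]; exact hbig'
  haveI : IsAffineHom (pullback.snd (iX ∣_ U) q) :=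
    MorphismProperty.of_isPullback (P := @IsAffineHom) hl inferInstance
  haveI : IsAffine (pullback (iX ∣_ U) q) := isAffine_of_isAffineHom (pullback.snd (iX ∣_ U) q)
  exact isAffine_of_isPullback hsq

end Groth.L22.AffDesc
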