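import Groth.Agent.L22.Mero
import Groth.Prelude.Def_BlowUp2
import Mathlib.AlgebraicGeometry.IdealSheaf.Functorial

/-!
Inverse image ideal sheaves on affine opens, and effective Cartier ideals.
-/

universe u

open CategoryTheory AlgebraicGeometry TopologicalSpace Opposite

namespace Groth.L22.Ideals

variable {X Y : Scheme.{u}}

theorem comap_ideal_top [IsAffine X] [IsAffine Y] (f : X ⟶ Y) (I : Y.IdealSheafData) :
    (I.comap f).ideal ⟨⊤, isAffineOpen_top X⟩ =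
      (I.ideal ⟨⊤, isAffineOpen_top Y⟩).map f.appTop.hom := by
  let J : X.IdealSheafData :=
    Scheme.IdealSheafData.ofIdealTop ((I.ideal ⟨⊤, isAffineOpen_top Y⟩).map f.appTop.hom)
  have hJ : J.ideal ⟨⊤, isAffineOpen_top X⟩ =
      (I.ideal ⟨⊤, isAffineOpen_top Y⟩).map f.appTop.hom :=
    Scheme.IdealSheafData.equivOfIsAffine.apply_symm_apply _
  refine le_antisymm ?_ ?_
  · rw [← hJ]
    have h : I.comap f ≤ J := by
      refine Scheme.IdealSheafData.le_map_iff_comap_le.1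
        (Scheme.IdealSheafData.le_of_isAffine ?_)
      rw [Scheme.IdealSheafData.ideal_map_of_isAffineHom, ← Ideal.map_le_iff_le_comap]
      exact hJ.ge
    exact h _
  · rw [Ideal.map_le_iff_le_comap]
    have h := Scheme.IdealSheafData.le_map_comap I f ⟨⊤, isAffineOpen_top Y⟩
    rw [Scheme.IdealSheafData.ideal_map_of_isAffineHom] at h
    exact h

theorem comap_ideal_ι (I : X.IdealSheafData) (V : X.affineOpens) :
    (I.comap V.1.ι).ideal ⟨⊤, @isAffineOpen_top _ V.2⟩ =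
      (I.ideal V).map V.1.topIso.inv.hom := by
  haveI : IsAffine V.1.toScheme := V.2
  rw [Scheme.IdealSheafData.ideal_comap_of_isOpenImmersion, Scheme.Opens.ι_appIso,
    Iso.refl_inv]
  refine (Ideal.comap_id _).trans ?_
  rw [Scheme.Opens.topIso_inv]
  exact (Scheme.IdealSheafData.map_ideal' I _).symm

theorem map_hom_inj {A B : CommRingCat.{u}} (e : A ≅ B) {I J : Ideal A}
    (h : I.map e.hom.hom = J.map e.hom.hom) : I = J := by
  have h' := congrArg (Ideal.map e.inv.hom) h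
  simpa only [Ideal.map_map, ← CommRingCat.hom_comp, e.hom_inv_id, CommRingCat.hom_id,
    Ideal.map_id] using h'

/-- The inverse image ideal on an affine open `V ≤ f⁻¹ U`. -/
theorem comap_ideal (f : X ⟶ Y) (I : Y.IdealSheafData) (U : Y.affineOpens) (V : X.affineOpens)
    (e : V.1 ≤ f ⁻¹ᵁ U.1) :
    (I.comap f).ideal V = (I.ideal U).map (f.appLE U.1 V.1 e).hom := by
  haveI : IsAffine V.1.toScheme := V.2
  haveI : IsAffine U.1.toScheme := U.2
  have h1 : (I.comap f).comap V.1.ι = (I.comap U.1.ι).comap (f.resLE U.1 V.1 e) := by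
    rw [← Scheme.IdealSheafData.comap_comp, ← Scheme.IdealSheafData.comap_comp,
      Scheme.Hom.resLE_comp_ι]
  have h2 := congrArg (fun J : V.1.toScheme.IdealSheafData =>
    J.ideal ⟨⊤, isAffineOpen_top _⟩) h1
  simp only [comap_ideal_top, comap_ideal_ι, Scheme.Hom.appTop, Scheme.Hom.resLE_app_top,
    Ideal.map_map, ← CommRingCat.hom_comp, Iso.inv_hom_id_assoc] at h2
  refine map_hom_inj V.1.topIso.symm ?_
  rw [Iso.symm_hom, h2, Ideal.map_map, ← CommRingCat.hom_comp]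

/-- Affine opens `V ≤ f⁻¹ U` with `U` affine cover `X`. -/
theorem exists_affine_pair (f : X ⟶ Y) (x : X) {W : X.Opens} (hxW : x ∈ W) {W' : Y.Opens}
    (hxW' : f x ∈ W') :
    ∃ (U : Y.affineOpens) (V : X.affineOpens) (_ : V.1 ≤ f ⁻¹ᵁ U.1),
      x ∈ V.1 ∧ V.1 ≤ W ∧ U.1 ≤ W' := by
  obtain ⟨_, ⟨U, hU, rfl⟩, hxU, hUW⟩ :=
    Y.isBasis_affineOpens.exists_subset_of_mem_open hxW' W'.2
  obtain ⟨_, ⟨V, hV, rfl⟩, hxV, hVW⟩ :=
    X.isBasis_affineOpens.exists_subset_of_mem_open (a := x)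
      (show x ∈ f ⁻¹ᵁ U ⊓ W from ⟨hxU, hxW⟩) (f ⁻¹ᵁ U ⊓ W).2
  exact ⟨⟨U, hU⟩, ⟨V, hV⟩, fun y hy => (hVW hy).1, hxV, fun y hy => (hVW hy).2, hUW⟩

theorem comap_mul (f : X ⟶ Y) (I J : Y.IdealSheafData) :
    (I * J).comap f = I.comap f * J.comap f := by
  choose U V e hxV _ _ using fun x : X =>
    exists_affine_pair f x (W := ⊤) trivial (W' := ⊤) trivial
  refine Scheme.IdealSheafData.ext_of_iSup_eq_top V
    (eq_top_iff.2 fun x _ => Opens.mem_iSup.2 ⟨x, hxV x⟩) fun x => ?_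
  rw [Scheme.IdealSheafData.ideal_mul, Pi.mul_apply, comap_ideal f _ (U x) (V x) (e x),
    comap_ideal f _ (U x) (V x) (e x), comap_ideal f _ (U x) (V x) (e x),
    Scheme.IdealSheafData.ideal_mul, Pi.mul_apply, Ideal.map_mul]

theorem map_mem_nonZeroDivisors {U V : X.affineOpens} (h : V.1 ≤ U.1) {f : Γ(X, U.1)}
    (hf : f ∈ nonZeroDivisors Γ(X, U.1)) :
    X.presheaf.map (homOfLE h).op f ∈ nonZeroDivisors Γ(X, V.1) :=
  Mero.mem_nonZeroDivisors_of_mem_regSub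
    (_root_.Mero.regSub_res _ (Mero.mem_regSub_of_mem_nonZeroDivisors U.2 hf))

/-- Near every point an effective Cartier ideal is principal on every smaller affine open. -/
theorem exists_generator {I : X.IdealSheafData} (hI : BlowUp.IsEffCartierIdeal I) (x : X) :
    ∃ U : X.affineOpens, x ∈ U.1 ∧ ∃ f : Γ(X, U.1), f ∈ nonZeroDivisors Γ(X, U.1) ∧
      I.ideal U = Ideal.span {f} ∧ ∀ (V : X.affineOpens) (h : V.1 ≤ U.1),
        X.presheaf.map (homOfLE h).op f ∈ nonZeroDivisors Γ(X, V.1) ∧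
          I.ideal V = Ideal.span {X.presheaf.map (homOfLE h).op f} := by
  obtain ⟨U, hxU, f, hf, hUI⟩ := hI x
  refine ⟨U, hxU, f, hf, hUI, fun V h => ⟨map_mem_nonZeroDivisors h hf, ?_⟩⟩
  rw [← Scheme.IdealSheafData.map_ideal I (U := V) (V := U) h, hUI, Ideal.map_span,
    Set.image_singleton]
  rfl

theorem isEffCartier_mul {I J : X.IdealSheafData} (hI : BlowUp.IsEffCartierIdeal I)
    (hJ : BlowUp.IsEffCartierIdeal J) : BlowUp.IsEffCartierIdeal (I * J) := by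
  intro x
  obtain ⟨U, hxU, f, -, -, hU⟩ := exists_generator hI x
  obtain ⟨U', hxU', g, -, -, hU'⟩ := exists_generator hJ x
  obtain ⟨_, ⟨W, hW, rfl⟩, hxW, hWle⟩ := X.isBasis_affineOpens.exists_subset_of_mem_open
    (show x ∈ U.1 ⊓ U'.1 from ⟨hxU, hxU'⟩) (U.1 ⊓ U'.1).2
  obtain ⟨h1, h2⟩ := hU ⟨W, hW⟩ (fun y hy => (hWle hy).1)
  obtain ⟨h3, h4⟩ := hU' ⟨W, hW⟩ (fun y hy => (hWle hy).2)
  exact ⟨⟨W, hW⟩, hxW, _, mul_mem h1 h3,
    by rw [Scheme.IdealSheafData.ideal_mul, Pi.mul_apply, h2, h4,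
      Ideal.span_singleton_mul_span_singleton]⟩

/-- If `f · g` generates `I · J` with `f ∈ I`, `g ∈ J` locally, both factors are principal. -/
theorem isEffCartier_left_of_mul {I J : X.IdealSheafData}
    (h : BlowUp.IsEffCartierIdeal (I * J)) : BlowUp.IsEffCartierIdeal I := by
  intro x
  obtain ⟨U, hxU, f, hf, hIJ, hV⟩ := exists_generator h x
  rw [Scheme.IdealSheafData.ideal_mul, Pi.mul_apply] at hIJ
  -- `f = Σ aᵢ bᵢ`, so the cofactors `cᵢ` with `aᵢ bᵢ = f cᵢ` generate the unit ideal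
  let S : Ideal Γ(X, U.1) := Ideal.span {c | ∃ a ∈ I.ideal U, ∃ b ∈ J.ideal U, a * b = f * c}
  have hS : ∀ y ∈ I.ideal U * J.ideal U, ∃ c ∈ S, y = f * c := by
    intro y hy
    refine Submodule.mul_induction_on hy (fun a ha b hb => ?_) ?_
    · obtain ⟨c, hc⟩ := Ideal.mem_span_singleton'.1 (hIJ ▸ Ideal.mul_mem_mul ha hb)
      exact ⟨c, Ideal.subset_span ⟨a, ha, b, hb, by rw [← hc, mul_comm]⟩, by rw [← hc, mul_comm]⟩
    · rintro y z ⟨c, hc, rfl⟩ ⟨d, hd, rfl⟩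
      exact ⟨c + d, add_mem hc hd, (mul_add _ _ _).symm⟩
  obtain ⟨c, hc, hfc⟩ := hS f (hIJ ▸ Ideal.mem_span_singleton_self f)
  have hc1 : c = 1 := (mul_cancel_left_mem_nonZeroDivisors hf).1 (by rw [mul_one]; exact hfc.symm)
  subst hc1
  -- some cofactor is a unit at `x`
  obtain ⟨c, ⟨a, ha, b, hb, hab⟩, hcx⟩ :
      ∃ c ∈ {c | ∃ a ∈ I.ideal U, ∃ b ∈ J.ideal U, a * b = f * c}, x ∈ X.basicOpen c := by
    by_contra hcon
    push Not at hcon
    have hle : S ≤ (U.2.primeIdealOf ⟨x, hxU⟩).asIdeal := Ideal.span_le.2 fun c hc => by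
      by_contra hnot
      refine hcon c hc ((X.mem_basicOpen c x hxU).2 ?_)
      letI : Algebra Γ(X, U.1) (X.presheaf.stalk x) :=
        TopCat.Presheaf.algebra_section_stalk X.presheaf ⟨x, hxU⟩
      haveI := U.2.isLocalization_stalk ⟨x, hxU⟩
      exact IsLocalization.map_units (X.presheaf.stalk x)
        (⟨c, hnot⟩ : (U.2.primeIdealOf ⟨x, hxU⟩).asIdeal.primeCompl)
    exact (U.2.primeIdealOf ⟨x, hxU⟩).2.ne_top ((Ideal.eq_top_iff_one _).2 (hle hc))
  let W : X.affineOpens := ⟨X.basicOpen c, U.2.basicOpen c⟩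
  have hWU : W.1 ≤ U.1 := X.basicOpen_le c
  obtain ⟨hfW, hIJW⟩ := hV W hWU
  let res := (X.presheaf.map (homOfLE hWU).op).hom
  have hcu : IsUnit (res c) := X.toRingedSpace.isUnit_res_basicOpen c
  have hab' : res a * res b = res f * res c := by rw [← map_mul, hab, map_mul]
  have haI : res a ∈ I.ideal W := by
    rw [← Scheme.IdealSheafData.map_ideal I (U := W) (V := U) hWU]
    exact Ideal.mem_map_of_mem _ ha
  have hbJ : res b ∈ J.ideal W := by
    rw [← Scheme.IdealSheafData.map_ideal J (U := W) (V := U) hWU]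
    exact Ideal.mem_map_of_mem _ hb
  have hnzd : res a * res b ∈ nonZeroDivisors Γ(X, W.1) := by
    rw [hab']; exact mul_mem hfW hcu.mem_nonZeroDivisors
  refine ⟨W, hcx, res a, (mul_mem_nonZeroDivisors.1 hnzd).1, le_antisymm (fun i hi => ?_)
    ((Ideal.span_singleton_le_iff_mem _).2 haI)⟩
  rw [Scheme.IdealSheafData.ideal_mul, Pi.mul_apply] at hIJW
  obtain ⟨t, ht⟩ := Ideal.mem_span_singleton'.1 (hIJW ▸ Ideal.mul_mem_mul hi hbJ)
  obtain ⟨cu, hcu'⟩ := hcu
  refine Ideal.mem_span_singleton'.2 ⟨t * ↑cu⁻¹, ?_⟩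
  apply (mul_cancel_right_mem_nonZeroDivisors (mul_mem_nonZeroDivisors.1 hnzd).2).1
  rw [mul_assoc _ (res a) (res b), hab', ← ht, ← hcu']
  change t * ↑cu⁻¹ * (res f * ↑cu) = t * res f
  rw [mul_comm (res f), mul_assoc, Units.inv_mul_cancel_left]

end Groth.L22.Ideals
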