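import Groth.Agent.L22.Ideal
import Mathlib.RingTheory.Ideal.MinimalPrime.Localization

/-!
Maximal points (points without proper generizations) of schemes and minimal primes.
-/

universe u

open CategoryTheory AlgebraicGeometry TopologicalSpace Opposite

namespace Groth.L22

variable {X : Scheme.{u}}

theorem primeIdealOf_mem_minimalPrimes {U : X.Opens} (hU : IsAffineOpen U) {x : X} (hxU : x ∈ U)
    (hx : ∀ y : X, y ⤳ x → y = x) :
    (hU.primeIdealOf ⟨x, hxU⟩).asIdeal ∈ minimalPrimes Γ(X, U) := by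
  let p : Spec Γ(X, U) := hU.primeIdealOf ⟨x, hxU⟩
  have hp : hU.fromSpec p = x := hU.fromSpec_primeIdealOf ⟨x, hxU⟩
  obtain ⟨q, hq, hqp⟩ := Ideal.exists_minimalPrimes_le (bot_le : (⊥ : Ideal Γ(X, U)) ≤ p.asIdeal)
  let qp : Spec Γ(X, U) := ⟨q, hq.1.1⟩
  have hsp : hU.fromSpec qp ⤳ x := by
    have hsp' : qp ⤳ p := (PrimeSpectrum.le_iff_specializes qp p).1 hqp
    exact hp ▸ hsp'.map hU.fromSpec.continuous
  have h := hU.fromSpec.isOpenEmbedding.injective
    ((hx _ hsp).trans hp.symm)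
  exact (congrArg PrimeSpectrum.asIdeal h).symm ▸ hq

theorem maximal_fromSpec {U : X.Opens} (hU : IsAffineOpen U) (q : Spec Γ(X, U))
    (hq : q.asIdeal ∈ minimalPrimes Γ(X, U)) : ∀ y : X, y ⤳ hU.fromSpec q → y = hU.fromSpec q := by
  intro y hy
  have hyU : y ∈ U := hy.mem_open U.2 (hU.range_fromSpec.subset ⟨q, rfl⟩)
  have hp : hU.fromSpec (hU.primeIdealOf ⟨y, hyU⟩) = y := hU.fromSpec_primeIdealOf ⟨y, hyU⟩
  rw [← hp] at hy ⊢
  congr 1
  have hle := (PrimeSpectrum.le_iff_specializes _ q).2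
    ((hU.fromSpec.isOpenEmbedding.isInducing.specializes_iff).1 hy)
  exact PrimeSpectrum.ext (le_antisymm hle (hq.2 ⟨(hU.primeIdealOf ⟨y, hyU⟩).2, bot_le⟩ hle))

/-- Maximal points avoid effective Cartier divisors. -/
theorem notMem_support_of_maximal {D : X.IdealSheafData} (hD : BlowUp.IsEffCartierIdeal D) {x : X}
    (hx : ∀ y : X, y ⤳ x → y = x) : x ∉ D.support := by
  obtain ⟨U, hxU, f, hf, hDU⟩ := hD x
  intro hmem
  rw [Scheme.IdealSheafData.mem_support_iff_of_mem (U := U) hxU, hDU, Scheme.zeroLocus_span,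
    Scheme.zeroLocus_singleton] at hmem
  refine notMem_nonZeroDivisors_of_mem_mem_minimalPrimes ?_
    (primeIdealOf_mem_minimalPrimes U.2 hxU hx) hf
  by_contra hnot
  refine hmem ?_
  have hp : U.2.fromSpec (U.2.primeIdealOf ⟨x, hxU⟩) = x := U.2.fromSpec_primeIdealOf ⟨x, hxU⟩
  rw [← hp]
  change U.2.primeIdealOf ⟨x, hxU⟩ ∈ U.2.fromSpec ⁻¹ᵁ X.basicOpen f
  rw [U.2.fromSpec_preimage_basicOpen]
  exact hnot

end Groth.L22
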