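import Groth.Agent.L22.Punctured
import Groth.Agent.L22.MaximalPoints
import Groth.Prelude.Def_CurvBase
import Mathlib.AlgebraicGeometry.Noetherian
import Mathlib.AlgebraicGeometry.Morphisms.Affine
import Mathlib.RingTheory.Ideal.KrullsHeightTheorem

/-!
Dimension of local rings at generic points of complements of affine open subschemes and of
locally principal closed subschemes.
-/

universe u

open CategoryTheory AlgebraicGeometry TopologicalSpace Opposite

namespace Groth.L22.LocalDim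

variable {X : Scheme.{u}}

theorem fromSpec_prime {W : X.Opens} (hW : IsAffineOpen W) {x : X} (hx : x ∈ W) :
    hW.fromSpec (hW.primeIdealOf ⟨x, hx⟩) = x := hW.fromSpec_primeIdealOf ⟨x, hx⟩

theorem mem_basicOpen_iff {W : X.Opens} (hW : IsAffineOpen W) {z : X} (hz : z ∈ W) (a : Γ(X, W)) :
    z ∈ X.basicOpen a ↔ a ∉ (hW.primeIdealOf ⟨z, hz⟩).asIdeal := by
  conv_lhs => rw [← fromSpec_prime hW hz]
  change hW.primeIdealOf ⟨z, hz⟩ ∈ hW.fromSpec ⁻¹ᵁ X.basicOpen a ↔ _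
  rw [hW.fromSpec_preimage_basicOpen]
  rfl

theorem fromSpec_mem {W : X.Opens} (hW : IsAffineOpen W) (q : Spec Γ(X, W)) :
    hW.fromSpec q ∈ W := hW.range_fromSpec.subset ⟨q, rfl⟩

theorem primeIdealOf_fromSpec {W : X.Opens} (hW : IsAffineOpen W) (q : Spec Γ(X, W))
    (h : hW.fromSpec q ∈ W) : hW.primeIdealOf ⟨hW.fromSpec q, h⟩ = q :=
  hW.fromSpec.isOpenEmbedding.injective (hW.fromSpec_primeIdealOf _)

theorem fromSpec_specializes {W : X.Opens} (hW : IsAffineOpen W) {q q' : Spec Γ(X, W)}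
    (h : q.asIdeal ≤ q'.asIdeal) : hW.fromSpec q ⤳ hW.fromSpec q' :=
  ((PrimeSpectrum.le_iff_specializes q q').1 h).map hW.fromSpec.continuous

theorem le_of_specializes {W : X.Opens} (hW : IsAffineOpen W) {y x : X} (hy : y ∈ W) (hx : x ∈ W)
    (h : y ⤳ x) :
    (hW.primeIdealOf ⟨y, hy⟩).asIdeal ≤ (hW.primeIdealOf ⟨x, hx⟩).asIdeal := by
  refine (PrimeSpectrum.le_iff_specializes _ _).2 ?_
  rw [← fromSpec_prime hW hy, ← fromSpec_prime hW hx] at h
  exact (hW.fromSpec.isOpenEmbedding.isInducing.specializes_iff).1 h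

theorem dim_stalk_eq_height {W : X.Opens} (hW : IsAffineOpen W) {x : X} (hx : x ∈ W) :
    ringKrullDim (X.presheaf.stalk x) = (hW.primeIdealOf ⟨x, hx⟩).asIdeal.height := by
  letI : Algebra Γ(X, W) (X.presheaf.stalk x) :=
    TopCat.Presheaf.algebra_section_stalk X.presheaf ⟨x, hx⟩
  haveI := hW.isLocalization_stalk ⟨x, hx⟩
  exact IsLocalization.AtPrime.ringKrullDim_eq_height _ _

/-- A proper generization makes the dimension of the local ring positive. -/
theorem one_le_dim_of_specializes {x y : X} (h : y ⤳ x) (hne : y ≠ x) :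
    1 ≤ ringKrullDim (X.presheaf.stalk x) := by
  obtain ⟨_, ⟨W, hW, rfl⟩, hxW, -⟩ :=
    X.isBasis_affineOpens.exists_subset_of_mem_open (Set.mem_univ x) isOpen_univ
  change X.Opens at W
  replace hW : IsAffineOpen W := hW
  have hyW : y ∈ W := h.mem_open W.2 hxW
  rw [dim_stalk_eq_height hW hxW]
  have hlt : (hW.primeIdealOf ⟨y, hyW⟩).asIdeal < (hW.primeIdealOf ⟨x, hxW⟩).asIdeal := by
    refine lt_of_le_of_ne (le_of_specializes hW hyW hxW h) fun e => hne ?_
    rw [← fromSpec_prime hW hyW, ← fromSpec_prime hW hxW, PrimeSpectrum.ext e]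
  exact_mod_cast le_trans le_add_self (Ideal.height_add_one_le_of_lt_of_isPrime hlt)

/-- A maximal point has a neighbourhood consisting of its specializations. -/
theorem exists_open_of_maximal [IsLocallyNoetherian X] {x : X} (hx : ∀ y, y ⤳ x → y = x) :
    ∃ O : X.Opens, x ∈ O ∧ ∀ z ∈ O, x ⤳ z := by
  obtain ⟨_, ⟨W, hW, rfl⟩, hxW, -⟩ :=
    X.isBasis_affineOpens.exists_subset_of_mem_open (Set.mem_univ x) isOpen_univ
  change X.Opens at W
  replace hW : IsAffineOpen W := hW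
  haveI : IsNoetherianRing Γ(X, W) := IsLocallyNoetherian.component_noetherian ⟨W, hW⟩
  let p : Spec Γ(X, W) := hW.primeIdealOf ⟨x, hxW⟩
  have hp : p.asIdeal ∈ minimalPrimes Γ(X, W) := primeIdealOf_mem_minimalPrimes hW hxW hx
  let F : Set (PrimeSpectrum Γ(X, W)) :=
    ⋃ q ∈ {q ∈ minimalPrimes Γ(X, W) | q ≠ p.asIdeal}, PrimeSpectrum.zeroLocus (q : Set Γ(X, W))
  have hF : IsClosed F :=
    ((minimalPrimes.finite_of_isNoetherianRing _).subset fun q hq => hq.1).isClosed_biUnion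
      fun q _ => PrimeSpectrum.isClosed_zeroLocus _
  let O : (Spec Γ(X, W)).Opens := ⟨Fᶜ, hF.isOpen_compl⟩
  have hpO : p ∈ O := by
    intro hmem
    obtain ⟨q, ⟨hq, hqp⟩, hle⟩ := Set.mem_iUnion₂.1 hmem
    exact hqp (le_antisymm hle (hp.2 ⟨hq.1.1, bot_le⟩ hle))
  refine ⟨hW.fromSpec ''ᵁ O, ⟨p, hpO, hW.fromSpec_primeIdealOf ⟨x, hxW⟩⟩, ?_⟩
  rintro _ ⟨z, hz, rfl⟩
  rw [← fromSpec_prime hW hxW]
  refine fromSpec_specializes hW ?_
  obtain ⟨q, hq, hqz⟩ := Ideal.exists_minimalPrimes_le (bot_le : (⊥ : Ideal Γ(X, W)) ≤ z.asIdeal)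
  by_contra hnot
  refine hz ?_
  exact Set.mem_iUnion₂.2 ⟨q, ⟨hq, fun e => hnot (e ▸ hqz)⟩, hqz⟩

theorem one_le_dim_of_mem_closure [IsLocallyNoetherian X] {U : X.Opens} {ξ : X} (hξ : ξ ∉ U)
    (hcl : ξ ∈ closure (U : Set X)) : 1 ≤ ringKrullDim (X.presheaf.stalk ξ) := by
  by_contra h
  obtain ⟨O, hξO, hO⟩ := exists_open_of_maximal (x := ξ) fun y hy => by
    by_contra hne; exact h (one_le_dim_of_specializes hy hne)
  obtain ⟨u, huO, huU⟩ := mem_closure_iff.1 hcl O O.2 hξO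
  exact hξ ((hO u huO).mem_open U.2 huU)

/-- The complement of an affine open immersion has codimension at most one. -/
theorem dim_le_one_of_isAffineHom [IsLocallyNoetherian X] (U : X.Opens) [IsAffineHom U.ι] {ξ : X}
    (hξ : ξ ∉ U) (hgen : ∀ y : X, y ∉ U → y ⤳ ξ → y = ξ) :
    ringKrullDim (X.presheaf.stalk ξ) ≤ 1 := by
  refine Punctured.dim_le_one_of_isAffine _ ?_
  obtain ⟨_, ⟨W, hW, rfl⟩, hξW, -⟩ :=
    X.isBasis_affineOpens.exists_subset_of_mem_open (Set.mem_univ ξ) isOpen_univ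
  change X.Opens at W
  replace hW : IsAffineOpen W := hW
  have hUW : IsAffineOpen (U ⊓ W) := by
    have h := (hW.preimage U.ι).image_of_isOpenImmersion U.ι
    rwa [U.ι.image_preimage_eq_opensRange_inf, Scheme.Opens.opensRange_ι] at h
  have h1 := hUW.preimage_of_isOpenImmersion hW.fromSpec
    (hW.opensRange_fromSpec.symm ▸ inf_le_right)
  let g := Spec.map (X.presheaf.germ W ξ hξW)
  have h2 := h1.preimage g
  rw [← Scheme.Hom.comp_preimage] at h2
  change IsAffineOpen (FEt.puncturedSpec (X.presheaf.stalk ξ))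
  have hg : g ≫ hW.fromSpec = X.fromSpecStalk ξ := hW.fromSpecStalk_eq_fromSpecStalk hξW
  rw [hg] at h2
  suffices e : X.fromSpecStalk ξ ⁻¹ᵁ (U ⊓ W) = FEt.puncturedSpec (X.presheaf.stalk ξ) from
    e ▸ h2
  refine Opens.ext (Set.ext fun (z : Spec (X.presheaf.stalk ξ)) => ?_)
  change X.fromSpecStalk ξ z ∈ U ⊓ W ↔ z ≠ IsLocalRing.closedPoint (X.presheaf.stalk ξ)
  have hsp : X.fromSpecStalk ξ z ⤳ ξ := by
    have : X.fromSpecStalk ξ z ∈ Set.range (X.fromSpecStalk ξ) := ⟨z, rfl⟩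
    rwa [Scheme.range_fromSpecStalk] at this
  symm
  constructor
  · intro hz
    refine ⟨?_, hsp.mem_open W.2 hξW⟩
    by_contra hnot
    refine hz ((X.fromSpecStalk ξ).isEmbedding.injective ?_)
    rw [hgen _ hnot hsp, Scheme.fromSpecStalk_closedPoint]
  · rintro hz rfl
    rw [Scheme.fromSpecStalk_closedPoint] at hz
    exact hξ hz.1

theorem dim_le_one_of_minimal_span {W : X.Opens} (hW : IsAffineOpen W) [IsNoetherianRing Γ(X, W)]
    {x : X} (hx : x ∈ W) (f : Γ(X, W))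
    (h : (hW.primeIdealOf ⟨x, hx⟩).asIdeal ∈ (Ideal.span {f}).minimalPrimes) :
    ringKrullDim (X.presheaf.stalk x) ≤ 1 := by
  rw [dim_stalk_eq_height hW hx]
  exact_mod_cast Ideal.height_le_one_of_isPrincipal_of_mem_minimalPrimes _ _ h

/-- At a maximal point of the support, the ideal has the point's prime as a minimal prime. -/
theorem primeIdealOf_mem_minimalPrimes_ideal {D : X.IdealSheafData} {ξ : X} (U : X.affineOpens)
    (hξU : ξ ∈ U.1) (hξ : ξ ∈ (D.support : Set X))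
    (hgen : ∀ y ∈ (D.support : Set X), y ⤳ ξ → y = ξ) :
    (U.2.primeIdealOf ⟨ξ, hξU⟩).asIdeal ∈ (D.ideal U).minimalPrimes := by
  let p := U.2.primeIdealOf ⟨ξ, hξU⟩
  have hmem : ∀ (z : X) (hz : z ∈ U.1),
      z ∈ (D.support : Set X) ↔ D.ideal U ≤ (U.2.primeIdealOf ⟨z, hz⟩).asIdeal := by
    intro z hz
    rw [SetLike.mem_coe, Scheme.IdealSheafData.mem_support_iff_of_mem (U := U) hz,
      Scheme.mem_zeroLocus_iff]
    constructor
    · intro h a ha
      by_contra hnot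
      exact h a ha ((mem_basicOpen_iff U.2 hz a).2 hnot)
    · intro h a ha hz'
      exact (mem_basicOpen_iff U.2 hz a).1 hz' (h ha)
  refine ⟨⟨(U.2.primeIdealOf ⟨ξ, hξU⟩).2, (hmem ξ hξU).1 hξ⟩, fun q ⟨hq, hle⟩ hqp => ?_⟩
  let qp : Spec Γ(X, U.1) := ⟨q, hq⟩
  have hsp : U.2.fromSpec qp ⤳ ξ := by
    conv_rhs => rw [← fromSpec_prime U.2 hξU]
    exact fromSpec_specializes U.2 hqp
  have hqD : U.2.fromSpec qp ∈ (D.support : Set X) := by
    rw [hmem _ (fromSpec_mem U.2 qp), primeIdealOf_fromSpec]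
    exact hle
  have heq : qp = p := U.2.fromSpec.isOpenEmbedding.injective
    ((hgen _ hqD hsp).trans (U.2.fromSpec_primeIdealOf ⟨ξ, hξU⟩).symm)
  exact (congrArg PrimeSpectrum.asIdeal heq).ge

theorem dim_le_one_of_locPrincipal [IsLocallyNoetherian X] {D : X.IdealSheafData}
    (hD : Curv2.IsLocPrincipal D) {ξ : X} (hξ : ξ ∈ (D.support : Set X))
    (hgen : ∀ y ∈ (D.support : Set X), y ⤳ ξ → y = ξ) :
    ringKrullDim (X.presheaf.stalk ξ) ≤ 1 := by
  obtain ⟨U, hξU, f, hf⟩ := hD ξ hξ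
  haveI : IsNoetherianRing Γ(X, U.1) := IsLocallyNoetherian.component_noetherian U
  refine dim_le_one_of_minimal_span U.2 hξU f ?_
  rw [← hf]
  exact primeIdealOf_mem_minimalPrimes_ideal U hξU hξ hgen

end Groth.L22.LocalDim
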