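import Groth.Prelude.Def_MeroSh
import Groth.Prelude.Def_MeroDiv
import Mathlib.AlgebraicGeometry.AffineScheme
import Mathlib.RingTheory.Localization.AtPrime.Basic

/-!
Elementary facts on regular sections and meromorphic functions.
-/

universe u

open CategoryTheory AlgebraicGeometry TopologicalSpace Opposite

namespace Groth.L22.Mero

variable {X : Scheme.{u}}

theorem mem_regSub_of_mem_nonZeroDivisors {U : X.Opens} (hU : IsAffineOpen U) {f : Γ(X, U)}
    (hf : f ∈ nonZeroDivisors Γ(X, U)) : f ∈ _root_.Mero.regSub X U := by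
  intro x
  letI : Algebra Γ(X, U) (X.presheaf.stalk x.1) :=
    TopCat.Presheaf.algebra_section_stalk X.presheaf x
  haveI := hU.isLocalization_stalk x
  exact IsLocalization.map_nonZeroDivisors_le (hU.primeIdealOf x).asIdeal.primeCompl
    (X.presheaf.stalk x.1) ⟨f, hf, rfl⟩

theorem mem_nonZeroDivisors_of_mem_regSub {U : X.Opens} {f : Γ(X, U)}
    (hf : f ∈ _root_.Mero.regSub X U) : f ∈ nonZeroDivisors Γ(X, U) := by
  rw [mem_nonZeroDivisors_iff_right]
  intro a ha
  refine TopCat.Presheaf.section_ext X.sheaf U a 0 fun x hx => ?_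
  change X.presheaf.germ U x hx a = X.presheaf.germ U x hx 0
  rw [map_zero]
  have := congrArg (X.presheaf.germ U x hx) ha
  rw [map_mul, map_zero] at this
  exact (hf ⟨x, hx⟩).2 _ this

/-- A section whose restriction to the open where a regular section is invertible vanishes, is
zero. -/
theorem eq_zero_of_germ_eq_zero {U : X.Opens} (hU : IsAffineOpen U) {b : Γ(X, U)}
    (hb : b ∈ _root_.Mero.regSub X U) (s : Γ(X, U))
    (h : ∀ (x : X) (hx : x ∈ U), IsUnit (X.presheaf.germ U x hx b) →
      X.presheaf.germ U x hx s = 0) : s = 0 := by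
  haveI := hU.isLocalization_basicOpen b
  have h0 : algebraMap Γ(X, U) Γ(X, X.basicOpen b) s = 0 := by
    refine TopCat.Presheaf.section_ext X.sheaf _ _ 0 fun x hx => ?_
    change X.presheaf.germ _ x hx (X.presheaf.map (homOfLE (X.basicOpen_le b)).op s) =
      X.presheaf.germ _ x hx 0
    rw [TopCat.Presheaf.germ_res_apply, map_zero]
    exact h x (X.basicOpen_le b hx) ((X.mem_basicOpen b x (X.basicOpen_le b hx)).1 hx)
  obtain ⟨⟨m, n, rfl⟩, hm⟩ := (IsLocalization.map_eq_zero_iff (Submonoid.powers b)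
    Γ(X, X.basicOpen b) s).1 h0
  exact (pow_mem (mem_nonZeroDivisors_of_mem_regSub hb) n).1 _ hm

theorem kmod_ext {U : X.Opens} {s t : Γ(_root_.Mero.kmod X, U)} (h : ∀ x : U, s.1 x = t.1 x) :
    s = t :=
  Subtype.ext (funext h)

/-- `a/b = a'/b'` in `K_{X,x}` iff `a b' = a' b`. -/
theorem mk_eq_mk_iff {x : X} (a a' : X.presheaf.stalk x) (b b' : _root_.Mero.regStalk X x) :
    (LocalizedModule.mk a b : _root_.Mero.KStalk X x) = LocalizedModule.mk a' b' ↔
      a * b' = a' * b := by
  rw [LocalizedModule.mk_eq]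
  constructor
  · rintro ⟨c, hc⟩
    simp only [Submonoid.smul_def, smul_eq_mul] at hc
    refine (mul_cancel_left_mem_nonZeroDivisors
      (_root_.Mero.regStalk_le_nonZeroDivisors x c.2)).1 ?_
    rw [mul_comm a, mul_comm a']
    exact hc
  · intro h
    refine ⟨1, ?_⟩
    simp only [one_smul, Submonoid.smul_def, smul_eq_mul]
    rw [mul_comm (b' : X.presheaf.stalk x), h, mul_comm]

theorem algebraMap_eq_mk {x : X} (a : X.presheaf.stalk x) :
    algebraMap (X.presheaf.stalk x) (_root_.Mero.KStalk X x) a = LocalizedModule.mk a 1 := rfl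

end Groth.L22.Mero
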