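import Groth.Agent.L22.MaximalPoints
import Groth.Agent.L22.Mero
import Groth.Agent.L03.WeakAss
import Groth.Prelude.Def_CurvBase
import Groth.Prelude.Def_Coh

/-!
Weakly associated points of the structure sheaf of a scheme.
-/

universe u

open CategoryTheory AlgebraicGeometry TopologicalSpace Opposite

namespace Groth.L22

variable {X : Scheme.{u}}

/-- A section of the structure module, read as a function. -/
noncomputable def unitSec {U : X.Opens} (r : Γ(X, U)) : Γ(Coh.structureModule X, U) := r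

theorem unitSec_surjective (U : X.Opens) : Function.Surjective (unitSec (X := X) (U := U)) :=
  fun s => ⟨s, rfl⟩

theorem unitSec_mul {U : X.Opens} (r s : Γ(X, U)) : r • unitSec s = unitSec (r * s) := rfl

theorem map_unitSec {U V : X.Opens} (h : V ≤ U) (r : Γ(X, U)) :
    (Coh.structureModule X).presheaf.map (homOfLE h).op (unitSec r) =
      unitSec (X.presheaf.map (homOfLE h).op r) := rfl

/-- The germ of `1` in the stalk of the structure module. -/
noncomputable def oneGerm (x : X) : (Coh.structureModule X).presheaf.stalk x :=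
  (Coh.structureModule X).presheaf.germ ⊤ x trivial (unitSec 1)

theorem germ_smul_oneGerm {U : X.Opens} {x : X} (hx : x ∈ U) (r : Γ(X, U)) :
    X.presheaf.germ U x hx r • oneGerm x =
      (Coh.structureModule X).presheaf.germ U x hx (unitSec r) := by
  have h1 : oneGerm x = (Coh.structureModule X).presheaf.germ U x hx (unitSec 1) := by
    rw [oneGerm, ← TopCat.Presheaf.germ_res_apply _ (homOfLE (le_top : U ≤ ⊤)) x hx]
    rw [map_unitSec, map_one]
  rw [h1, ← _root_.Mero.germ_smul, unitSec_mul, mul_one]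

theorem stalk_smul_oneGerm_surjective (x : X) :
    Function.Surjective fun a : X.presheaf.stalk x => a • oneGerm x := by
  intro m
  obtain ⟨U, hx, s, rfl⟩ := TopCat.Presheaf.exists_germ_eq _ m
  obtain ⟨r, rfl⟩ := unitSec_surjective U s
  exact ⟨X.presheaf.germ U x hx r, germ_smul_oneGerm hx r⟩

theorem eq_zero_of_smul_oneGerm {x : X} {a : X.presheaf.stalk x} (h : a • oneGerm x = 0) :
    a = 0 := by
  obtain ⟨U, hx, r, rfl⟩ := TopCat.Presheaf.exists_germ_eq _ a
  rw [germ_smul_oneGerm hx] at h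
  have h' : (Coh.structureModule X).presheaf.germ U x hx (unitSec r) =
      (Coh.structureModule X).presheaf.germ U x hx (unitSec 0) := by
    rw [h]
    exact (map_zero ((Coh.structureModule X).presheaf.germ U x hx).hom).symm
  obtain ⟨W, hxW, iU, iV, e⟩ := (Coh.structureModule X).presheaf.germ_eq x hx hx _ _ h'
  have e' : X.presheaf.map iU.op r = X.presheaf.map iV.op 0 := e
  have := congrArg (X.presheaf.germ W x hxW) e'
  rwa [TopCat.Presheaf.germ_res_apply, TopCat.Presheaf.germ_res_apply, map_zero] at this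

/-- Weakly associated points of `O_X`, inside the local rings. -/
theorem isWeakAssPoint_iff (x : X) :
    Curv2.IsWeakAssPoint (Coh.structureModule X) x ↔ ∃ a : X.presheaf.stalk x,
      (Groth.L03.WeakAss.annE (X.presheaf.stalk x) a).radical =
        IsLocalRing.maximalIdeal (X.presheaf.stalk x) := by
  have key : ∀ a : X.presheaf.stalk x,
      LinearMap.ker (LinearMap.toSpanSingleton (X.presheaf.stalk x)
        ((Coh.structureModule X).presheaf.stalk x) (a • oneGerm x)) =
      Groth.L03.WeakAss.annE (X.presheaf.stalk x) a := by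
    intro a
    ext r
    rw [LinearMap.mem_ker, LinearMap.toSpanSingleton_apply, Groth.L03.WeakAss.mem_annE, smul_smul,
      smul_eq_mul]
    exact ⟨eq_zero_of_smul_oneGerm, fun h => by rw [h, zero_smul]⟩
  constructor
  · rintro ⟨m, hm⟩
    obtain ⟨a, rfl⟩ := stalk_smul_oneGerm_surjective x m
    exact ⟨a, (key a) ▸ hm⟩
  · rintro ⟨a, ha⟩
    exact ⟨a • oneGerm x, by rw [key a]; exact ha⟩

/-- At a weakly associated point every nonzerodivisor is a unit. -/
theorem isUnit_of_weakAss {x : X} (hx : Curv2.IsWeakAssPoint (Coh.structureModule X) x)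
    {g : X.presheaf.stalk x} (hg : g ∈ nonZeroDivisors (X.presheaf.stalk x)) : IsUnit g := by
  obtain ⟨a, ha⟩ := (isWeakAssPoint_iff x).1 hx
  by_contra hu
  have hmem : g ∈ (Groth.L03.WeakAss.annE (X.presheaf.stalk x) a).radical := by
    rw [ha, IsLocalRing.mem_maximalIdeal]; exact hu
  obtain ⟨n, hn⟩ := hmem
  rw [Groth.L03.WeakAss.mem_annE, smul_eq_mul, mul_comm] at hn
  have ha0 : a = 0 := (pow_mem hg n).2 _ hn
  subst ha0
  have h1 : (1 : X.presheaf.stalk x) ∈
      (Groth.L03.WeakAss.annE (X.presheaf.stalk x) (0 : X.presheaf.stalk x)).radical :=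
    Ideal.le_radical (Groth.L03.WeakAss.mem_annE.2 (smul_zero _))
  rw [ha, IsLocalRing.mem_maximalIdeal] at h1
  exact h1 isUnit_one

/-- A prime of the coordinate ring minimal over an annihilator gives a weakly associated point. -/
theorem isWeakAssPoint_of_mem_minimalPrimes {U : X.Opens} (hU : IsAffineOpen U) {x : X}
    (hxU : x ∈ U) {a : Γ(X, U)}
    (h : (hU.primeIdealOf ⟨x, hxU⟩).asIdeal ∈
      (Groth.L03.WeakAss.annE Γ(X, U) a).minimalPrimes) :
    Curv2.IsWeakAssPoint (Coh.structureModule X) x := by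
  obtain ⟨hp, hle, hloc⟩ := Groth.L03.WeakAss.minimalPrimes_iff.1 h
  rw [isWeakAssPoint_iff]
  letI : Algebra Γ(X, U) (X.presheaf.stalk x) :=
    TopCat.Presheaf.algebra_section_stalk X.presheaf ⟨x, hxU⟩
  haveI := hU.isLocalization_stalk ⟨x, hxU⟩
  set p := (hU.primeIdealOf ⟨x, hxU⟩).asIdeal
  refine ⟨algebraMap Γ(X, U) _ a, le_antisymm ?_ fun r hr => ?_⟩
  · refine ((IsLocalRing.maximalIdeal.isMaximal (X.presheaf.stalk x)).isPrime.radical_le_iff).2
      (IsLocalRing.le_maximalIdeal ?_)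
    rw [Ideal.ne_top_iff_one, Groth.L03.WeakAss.mem_annE, one_smul,
      IsLocalization.map_eq_zero_iff p.primeCompl]
    rintro ⟨s, hs⟩
    exact s.2 (hle (Groth.L03.WeakAss.mem_annE.2 hs))
  · obtain ⟨b, s, rfl⟩ := IsLocalization.exists_mk'_eq p.primeCompl r
    have hb : b ∈ p := by
      by_contra hb
      exact (IsLocalRing.mem_maximalIdeal _).1 hr
        ((IsLocalization.AtPrime.isUnit_mk'_iff (X.presheaf.stalk x) p b s).2 hb)
    obtain ⟨t, ht, n, hn⟩ := hloc b hb
    refine ⟨n, ?_⟩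
    rw [Groth.L03.WeakAss.mem_annE, smul_eq_mul] at hn ⊢
    rw [← IsLocalization.mk'_pow, IsLocalization.mk'_eq_mul_mk'_one, mul_right_comm, ← map_mul,
      show algebraMap Γ(X, U) (X.presheaf.stalk x) (b ^ n * a) = 0 from
        (IsLocalization.map_eq_zero_iff p.primeCompl _ _).2 ⟨⟨t, ht⟩, by rw [← mul_assoc]; exact hn⟩,
      zero_mul]

/-- A function invertible at all weakly associated points is a nonzerodivisor. -/
theorem mem_nonZeroDivisors_of_weakAss {U : X.Opens} (hU : IsAffineOpen U) {t : Γ(X, U)}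
    (h : ∀ (x : X) (hx : x ∈ U), Curv2.IsWeakAssPoint (Coh.structureModule X) x →
      IsUnit (X.presheaf.germ U x hx t)) :
    t ∈ nonZeroDivisors Γ(X, U) := by
  rw [mem_nonZeroDivisors_iff_right]
  intro a ha
  by_contra ha0
  have htop : Groth.L03.WeakAss.annE Γ(X, U) a ≠ ⊤ := by
    rw [Ideal.ne_top_iff_one, Groth.L03.WeakAss.mem_annE, one_smul]; exact ha0
  obtain ⟨⟨q, hq⟩⟩ := Ideal.nonempty_minimalPrimes htop
  let qp : Spec Γ(X, U) := ⟨q, hq.1.1⟩
  have hxU : hU.fromSpec qp ∈ U := hU.range_fromSpec.subset ⟨qp, rfl⟩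
  have hpq : hU.primeIdealOf ⟨_, hxU⟩ = qp :=
    hU.fromSpec.isOpenEmbedding.injective (hU.fromSpec_primeIdealOf ⟨_, hxU⟩)
  have hwa := isWeakAssPoint_of_mem_minimalPrimes hU hxU (a := a) (by rw [hpq]; exact hq)
  have hb : qp ∈ hU.fromSpec ⁻¹ᵁ X.basicOpen t := (X.mem_basicOpen t _ hxU).2 (h _ hxU hwa)
  rw [hU.fromSpec_preimage_basicOpen] at hb
  refine hb (hq.le (Groth.L03.WeakAss.mem_annE.2 ?_))
  rw [smul_eq_mul, mul_comm]
  exact ha

theorem mem_regSub_of_weakAss {U : X.Opens} {t : Γ(X, U)}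
    (h : ∀ (x : X) (hx : x ∈ U), Curv2.IsWeakAssPoint (Coh.structureModule X) x →
      IsUnit (X.presheaf.germ U x hx t)) :
    t ∈ _root_.Mero.regSub X U := by
  intro y
  obtain ⟨_, ⟨V, hV, rfl⟩, hyV, hVU⟩ :=
    X.isBasis_affineOpens.exists_subset_of_mem_open y.2 U.2
  have hnzd := mem_nonZeroDivisors_of_weakAss hV
    (t := X.presheaf.map (homOfLE (show V ≤ U from hVU)).op t) fun x hx hwa => by
      rw [TopCat.Presheaf.germ_res_apply]; exact h x (hVU hx) hwa
  have := Mero.mem_regSub_of_mem_nonZeroDivisors hV hnzd ⟨y.1, hyV⟩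
  rwa [TopCat.Presheaf.germ_res_apply] at this

/-- Maximal points are weakly associated. -/
theorem isWeakAssPoint_of_maximal {x : X} (hx : ∀ y : X, y ⤳ x → y = x) :
    Curv2.IsWeakAssPoint (Coh.structureModule X) x := by
  obtain ⟨_, ⟨U, hU, rfl⟩, hxU, -⟩ :=
    X.isBasis_affineOpens.exists_subset_of_mem_open (Set.mem_univ x) isOpen_univ
  refine isWeakAssPoint_of_mem_minimalPrimes hU hxU (a := 1) ?_
  have hbot : Groth.L03.WeakAss.annE Γ(X, U) (1 : Γ(X, U)) = ⊥ := by
    ext r
    rw [Groth.L03.WeakAss.mem_annE, smul_eq_mul, mul_one, Ideal.mem_bot]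
  rw [hbot]
  exact primeIdealOf_mem_minimalPrimes hU hxU hx

/-- The germ of a regular section at a maximal point is invertible. -/
theorem isUnit_germ_of_maximal {U : X.Opens} {x : X} (hxU : x ∈ U)
    (hx : ∀ y : X, y ⤳ x → y = x) {s : Γ(X, U)} (hs : s ∈ _root_.Mero.regSub X U) :
    IsUnit (X.presheaf.germ U x hxU s) :=
  isUnit_of_weakAss (isWeakAssPoint_of_maximal hx) (hs ⟨x, hxU⟩)

theorem maximal_of_weakAss [IsReduced X] {x : X}
    (hx : Curv2.IsWeakAssPoint (Coh.structureModule X) x) : ∀ y : X, y ⤳ x → y = x := by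
  obtain ⟨a, ha⟩ := (isWeakAssPoint_iff x).1 hx
  obtain ⟨_, ⟨U, hU, rfl⟩, hxU, -⟩ :=
    X.isBasis_affineOpens.exists_subset_of_mem_open (Set.mem_univ x) isOpen_univ
  letI : Algebra Γ(X, U) (X.presheaf.stalk x) :=
    TopCat.Presheaf.algebra_section_stalk X.presheaf ⟨x, hxU⟩
  haveI := hU.isLocalization_stalk ⟨x, hxU⟩
  set p := hU.primeIdealOf ⟨x, hxU⟩ with hp
  have ha0 : a ≠ 0 := by
    rintro rfl
    have h1 : (1 : X.presheaf.stalk x) ∈
        (Groth.L03.WeakAss.annE (X.presheaf.stalk x) (0 : X.presheaf.stalk x)).radical :=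
      Ideal.le_radical (Groth.L03.WeakAss.mem_annE.2 (smul_zero _))
    rw [ha, IsLocalRing.mem_maximalIdeal] at h1
    exact h1 isUnit_one
  have hmin : IsLocalRing.maximalIdeal (X.presheaf.stalk x) ∈
      minimalPrimes (X.presheaf.stalk x) := by
    by_contra hcon
    refine ha0 (_root_.IsReduced.eq_zero a ?_)
    rw [← mem_nilradical, nilradical, Ideal.zero_eq_bot, ← Ideal.sInf_minimalPrimes,
      Submodule.mem_sInf]
    intro q hq
    by_contra haq
    refine hcon ?_
    haveI := hq.1.1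
    have hle : IsLocalRing.maximalIdeal (X.presheaf.stalk x) ≤ q := by
      rw [← ha, (hq.1.1).radical_le_iff]
      intro r hr
      rw [Groth.L03.WeakAss.mem_annE, smul_eq_mul] at hr
      exact (hq.1.1.mem_or_mem (hr ▸ zero_mem q)).resolve_right haq
    rwa [← le_antisymm (IsLocalRing.le_maximalIdeal hq.1.1.ne_top) hle]
  have hpmin : p.asIdeal ∈ minimalPrimes Γ(X, U) := by
    refine ⟨⟨p.2, bot_le⟩, fun q hq hqp => ?_⟩
    haveI := hq.1
    have hdis : Disjoint (p.asIdeal.primeCompl : Set Γ(X, U)) q :=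
      Set.disjoint_left.2 fun r hr hrq => hr (hqp hrq)
    have hprime := IsLocalization.isPrime_of_isPrime_disjoint p.asIdeal.primeCompl
      (X.presheaf.stalk x) q hq.1 hdis
    have hge := hmin.2 ⟨hprime, bot_le⟩ (IsLocalRing.le_maximalIdeal hprime.ne_top)
    intro r hr
    rw [← IsLocalization.under_map_of_isPrime_disjoint p.asIdeal.primeCompl
      (X.presheaf.stalk x) hq.1 hdis]
    exact Ideal.mem_comap.2 (hge ((IsLocalization.AtPrime.to_map_mem_maximal_iff
      (X.presheaf.stalk x) p.asIdeal r).2 hr))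
  have hfs : hU.fromSpec p = x := hU.fromSpec_primeIdealOf ⟨x, hxU⟩
  intro y hy
  exact (maximal_fromSpec hU p hpmin y (hfs.symm ▸ hy)).trans hfs

end Groth.L22
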