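import Mathlib.RingTheory.NoetherNormalization
import Mathlib.RingTheory.KrullDimension.Polynomial
import Mathlib.RingTheory.KrullDimension.NonZeroDivisors
import Mathlib.RingTheory.IntegralClosure.GoingDown
import Mathlib.RingTheory.AlgebraicIndependent.TranscendenceBasis
import Mathlib.RingTheory.KrullDimension.Field
import Mathlib.RingTheory.Ideal.KrullsHeightTheorem
import Mathlib.RingTheory.Localization.FractionRing
import Mathlib.RingTheory.Polynomial.UniqueFactorization
import Mathlib.RingTheory.UniqueFactorizationDomain.Ideal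
import Mathlib.RingTheory.Polynomial.RationalRoot
import Mathlib.Algebra.MvPolynomial.NoZeroDivisors

/-!
Dimension theory of affine domains over a field: dimension equals transcendence degree, height one
primes drop the dimension by one, saturated chains have full length.
-/

universe u v

open Ideal

namespace Groth.L22.AffineDim

theorem ringKrullDim_eq_of_isIntegral {R : Type u} {S : Type v} [CommRing R] [CommRing S]
    [Algebra R S] [Algebra.IsIntegral R S] (hinj : Function.Injective (algebraMap R S)) :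
    ringKrullDim S = ringKrullDim R := by
  refine le_antisymm ?_ ?_
  · refine Order.krullDim_le_of_strictMono (fun Q => PrimeSpectrum.comap (algebraMap R S) Q)
      fun Q Q' h => ?_
    haveI := Q.2
    exact Ideal.IsIntegral.comap_lt_comap (R := R) h
  · refine iSup_le fun l => ?_
    suffices H : ∀ l : LTSeries (PrimeSpectrum R), ∃ L : LTSeries (PrimeSpectrum S),
        L.length = l.length ∧ L.last.asIdeal.comap (algebraMap R S) = l.last.asIdeal by
      obtain ⟨L, hL, -⟩ := H l
      rw [← hL]
      exact le_iSup (fun L : LTSeries (PrimeSpectrum S) => (L.length : WithBot ℕ∞)) L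
    intro l
    induction l using RelSeries.inductionOn' with
    | singleton x =>
      haveI := x.2
      obtain ⟨Q, -, hQ, hQx⟩ := Ideal.exists_ideal_over_prime_of_isIntegral x.asIdeal (⊥ : Ideal S)
        (by intro r hr
            have : r = 0 := hinj (by rw [map_zero]; exact hr)
            rw [this]; exact zero_mem _)
      exact ⟨RelSeries.singleton _ ⟨Q, hQ⟩, rfl, hQx⟩
    | snoc p x hx ih =>
      obtain ⟨L, hL, hLp⟩ := ih
      haveI := x.2
      haveI := L.last.2
      have hx' : p.last < x := hx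
      obtain ⟨Q, hQL, hQ, hQx⟩ := Ideal.exists_ideal_over_prime_of_isIntegral_of_isPrime x.asIdeal
        L.last.asIdeal (hLp.le.trans hx'.le)
      have hlt : L.last < ⟨Q, hQ⟩ := by
        refine lt_of_le_of_ne hQL fun h => hx'.ne (PrimeSpectrum.ext ?_)
        rw [← hLp, ← hQx, h]
      refine ⟨L.snoc ⟨Q, hQ⟩ hlt, by simp [hL], ?_⟩
      rw [RelSeries.last_snoc, RelSeries.last_snoc]
      exact hQx

variable (k : Type u) [Field k]

theorem trdeg_eq_of_isIntegral {n : ℕ} {A : Type u} [CommRing A] [IsDomain A] [Algebra k A]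
    (g : MvPolynomial (Fin n) k →ₐ[k] A) (hinj : Function.Injective g)
    (hint : g.toRingHom.IsIntegral) : Algebra.trdeg k A = n := by
  letI := g.toRingHom.toAlgebra
  haveI : IsScalarTower k (MvPolynomial (Fin n) k) A :=
    IsScalarTower.of_algebraMap_eq fun x => (g.commutes x).symm
  haveI : FaithfulSMul (MvPolynomial (Fin n) k) A :=
    (faithfulSMul_iff_algebraMap_injective _ _).2 hinj
  haveI : Algebra.IsIntegral (MvPolynomial (Fin n) k) A := ⟨hint⟩
  haveI : Algebra.IsAlgebraic (MvPolynomial (Fin n) k) A := Algebra.IsIntegral.isAlgebraic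
  have h := trdeg_add_eq k (MvPolynomial (Fin n) k) (A := A)
  rw [MvPolynomial.trdeg_of_isDomain, trdeg_eq_zero (R := MvPolynomial (Fin n) k),
    add_zero] at h
  simpa using h.symm

/-- An affine domain: Noether normalisation in dimension many variables; `trdeg = dim`. -/
theorem exists_normalization (A : Type u) [CommRing A] [IsDomain A] [Algebra k A]
    [Algebra.FiniteType k A] :
    ∃ (d : ℕ) (g : MvPolynomial (Fin d) k →ₐ[k] A), Function.Injective g ∧
      g.toRingHom.Finite ∧ ringKrullDim A = (d : WithBot ℕ∞) ∧ Algebra.trdeg k A = d := by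
  obtain ⟨d, g, hinj, hfin⟩ := exists_finite_inj_algHom_of_fg k A
  refine ⟨d, g, hinj, hfin, ?_, trdeg_eq_of_isIntegral k g hinj hfin.to_isIntegral⟩
  letI := g.toRingHom.toAlgebra
  haveI : Algebra.IsIntegral (MvPolynomial (Fin d) k) A := ⟨hfin.to_isIntegral⟩
  rw [ringKrullDim_eq_of_isIntegral (R := MvPolynomial (Fin d) k) hinj,
    MvPolynomial.ringKrullDim_of_isNoetherianRing, ringKrullDim_eq_zero_of_field]
  simp

/-- A prime hypersurface in affine `(n+1)`-space has dimension `n`. -/
theorem ringKrullDim_quotient_hypersurface {n : ℕ} {f : MvPolynomial (Fin (n + 1)) k}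
    (hf : Prime f) : ringKrullDim (MvPolynomial (Fin (n + 1)) k ⧸ Ideal.span {f}) = (n : WithBot ℕ∞) := by
  classical
  haveI : (Ideal.span {f}).IsPrime := (Ideal.span_singleton_prime hf.ne_zero).2 hf
  obtain ⟨d, g, -, -, hd, htr⟩ :=
    exists_normalization k (MvPolynomial (Fin (n + 1)) k ⧸ Ideal.span {f})
  have hle : d ≤ n := by
    have h := ringKrullDim_quotient_succ_le_of_nonZeroDivisor
      (mem_nonZeroDivisors_of_ne_zero hf.ne_zero)
    rw [hd, MvPolynomial.ringKrullDim_of_isNoetherianRing, ringKrullDim_eq_zero_of_field] at h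
    simp only [Nat.card_eq_fintype_card, Fintype.card_fin, zero_add] at h
    have : ((d + 1 : ℕ) : WithBot ℕ∞) ≤ ((n + 1 : ℕ) : WithBot ℕ∞) := by
      push_cast; exact_mod_cast h
    have := (Nat.cast_le (α := WithBot ℕ∞)).1 this
    omega
  have hge : n ≤ d := by
    -- some variable occurs in `f`
    obtain ⟨i, hi⟩ : ∃ i, f.degreeOf i ≠ 0 := by
      by_contra hcon
      push Not at hcon
      have hv : f.vars = ∅ := Finset.eq_empty_of_forall_notMem fun i hi => by
        rw [MvPolynomial.mem_vars_iff_degreeOf_ne_zero] at hi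
        exact hi (hcon i)
      obtain ⟨c, hc⟩ : ∃ c, f = MvPolynomial.C c :=
        ⟨_, MvPolynomial.vars_eq_empty_iff_eq_C.1 hv⟩
      have hc0 : c ≠ 0 := fun h => hf.ne_zero (by rw [hc, h, map_zero])
      exact hf.not_unit (hc ▸ (isUnit_iff_ne_zero.2 hc0).map MvPolynomial.C)
    let x : Fin n → MvPolynomial (Fin (n + 1)) k ⧸ Ideal.span {f} :=
      fun j => Ideal.Quotient.mk _ (MvPolynomial.X (i.succAbove j))
    have hx : AlgebraicIndependent k x := by
      rw [algebraicIndependent_iff]
      intro p hp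
      have hcomp : MvPolynomial.aeval x p =
          Ideal.Quotient.mk (Ideal.span {f}) (MvPolynomial.rename i.succAbove p) := by
        rw [← Ideal.Quotient.mkₐ_eq_mk k]
        change _ = ((Ideal.Quotient.mkₐ k (Ideal.span {f})).comp
          (MvPolynomial.rename i.succAbove)) p
        congr 1
        exact MvPolynomial.algHom_ext fun j => by simp [x]
      rw [hcomp, Ideal.Quotient.eq_zero_iff_mem, Ideal.mem_span_singleton'] at hp
      obtain ⟨q, hq⟩ := hp
      by_contra hp0
      have hr : MvPolynomial.rename i.succAbove p ≠ 0 := fun h =>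
        hp0 (MvPolynomial.rename_injective _ (Fin.succAbove_right_injective (p := i))
          (h.trans (map_zero _).symm))
      have hq0 : q ≠ 0 := by rintro rfl; rw [zero_mul] at hq; exact hr hq.symm
      have hdeg : (MvPolynomial.rename i.succAbove p).degreeOf i = 0 := by
        by_contra hne
        have hmem := MvPolynomial.mem_vars_iff_degreeOf_ne_zero.2 hne
        have := MvPolynomial.vars_rename i.succAbove p hmem
        obtain ⟨j, -, hj⟩ := Finset.mem_image.1 this
        exact Fin.succAbove_ne i j hj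
      rw [← hq, MvPolynomial.degreeOf_mul_eq hq0 hf.ne_zero] at hdeg
      omega
    have h := hx.lift_cardinalMk_le_trdeg
    rw [htr, Cardinal.mk_fin] at h
    simpa using h
  rw [hd, le_antisymm hle hge]

/-- A minimal nonzero prime of an affine domain drops the dimension by one. -/
theorem ringKrullDim_quotient_add_one {A : Type u} [CommRing A] [IsDomain A] [Algebra k A]
    [Algebra.FiniteType k A] (P : Ideal A) [P.IsPrime] (hP : P ≠ ⊥)
    (hmin : ∀ Q : Ideal A, Q.IsPrime → Q ≤ P → Q ≠ ⊥ → Q = P) :
    ringKrullDim (A ⧸ P) + 1 = ringKrullDim A := by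
  obtain ⟨d, g, hinj, hfin, hd, -⟩ := exists_normalization k A
  letI := g.toRingHom.toAlgebra
  haveI : Algebra.IsIntegral (MvPolynomial (Fin d) k) A := ⟨hfin.to_isIntegral⟩
  haveI : FaithfulSMul (MvPolynomial (Fin d) k) A :=
    (faithfulSMul_iff_algebraMap_injective _ _).2 hinj
  set q := P.under (MvPolynomial (Fin d) k) with hqdef
  have hq0 : q ≠ ⊥ := fun h => hP (Ideal.eq_bot_of_comap_eq_bot h)
  obtain ⟨f, hfq, hf⟩ := (inferInstance : q.IsPrime).exists_mem_prime_of_ne_bot hq0
  haveI : (Ideal.span {f}).IsPrime := (Ideal.span_singleton_prime hf.ne_zero).2 hf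
  have hqf : Ideal.span {f} = q := by
    haveI : P.LiesOver q := ⟨rfl⟩
    obtain ⟨P', hP'le, hP', hP'f⟩ := Ideal.exists_ideal_le_liesOver_of_le (p := Ideal.span {f})
      (q := q) P ((Ideal.span_singleton_le_iff_mem _).2 hfq)
    have hP'0 : P' ≠ ⊥ := by
      rintro rfl
      have : f ∈ (⊥ : Ideal A).under (MvPolynomial (Fin d) k) :=
        hP'f.over ▸ Ideal.mem_span_singleton_self f
      exact hf.ne_zero (hinj (by rw [map_zero]; exact this))
    rw [hP'f.over, hmin P' hP' hP'le hP'0]
  cases d with
  | zero =>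
    exfalso
    obtain ⟨c, rfl⟩ := MvPolynomial.C_surjective (R := k) (Fin 0) f
    exact hf.not_unit ((isUnit_iff_ne_zero.2 fun h => hf.ne_zero (by rw [h, map_zero])).map _)
  | succ n =>
    have hquot : ringKrullDim (A ⧸ P) = ringKrullDim (MvPolynomial (Fin (n + 1)) k ⧸ q) :=
      ringKrullDim_eq_of_isIntegral Ideal.algebraMap_quotient_injective
    rw [hquot, ← ringKrullDim_eq_of_ringEquiv (Ideal.quotEquivOfEq hqf),
      ringKrullDim_quotient_hypersurface k hf, hd]
    push_cast
    rfl

/-- Saturated chains from the zero ideal to a maximal ideal have length `dim A`. -/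
theorem length_eq_ringKrullDim : ∀ (n : ℕ) (A : Type u) [CommRing A] [IsDomain A] [Algebra k A]
    [Algebra.FiniteType k A] (c : Fin (n + 1) → PrimeSpectrum A), (c 0).asIdeal = ⊥ →
    (c (Fin.last n)).asIdeal.IsMaximal → (∀ i : Fin n, c i.castSucc ⋖ c i.succ) →
    (n : WithBot ℕ∞) = ringKrullDim A := by
  intro n
  induction n with
  | zero =>
    intro A _ _ _ _ c h0 hmax _
    have h0' : (c (Fin.last 0)).asIdeal = ⊥ := h0
    rw [h0'] at hmax
    rw [ringKrullDim_eq_zero_of_isField (Ring.isField_iff_maximal_bot.2 hmax)]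
    rfl
  | succ n ih =>
    intro A _ _ _ _ c h0 hmax hsat
    set P := (c (Fin.succ 0)).asIdeal with hPdef
    haveI : P.IsPrime := (c (Fin.succ 0)).2
    have hcov := hsat 0
    have hP0 : P ≠ ⊥ := fun h => hcov.lt.ne (PrimeSpectrum.ext (h0.trans h.symm))
    have hmin : ∀ Q : Ideal A, Q.IsPrime → Q ≤ P → Q ≠ ⊥ → Q = P := by
      intro Q hQ hle hne
      by_contra hneq
      refine hcov.2 (c := ⟨Q, hQ⟩) (lt_of_le_of_ne (?_ : (c (Fin.castSucc 0)).asIdeal ≤ Q) ?_)
        (lt_of_le_of_ne hle fun h => hneq (congrArg PrimeSpectrum.asIdeal h))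
      · exact h0.le.trans bot_le
      · exact fun h => hne ((congrArg PrimeSpectrum.asIdeal h).symm.trans h0)
    have hmono : StrictMono c := Fin.strictMono_iff_lt_succ.2 fun i => (hsat i).lt
    have hPle : ∀ i : Fin (n + 1), P ≤ (c i.succ).asIdeal := fun i =>
      hmono.monotone (Fin.succ_le_succ_iff.2 (Fin.zero_le i))
    let c' : Fin (n + 1) → PrimeSpectrum (A ⧸ P) := fun i =>
      ⟨(c i.succ).asIdeal.map (Ideal.Quotient.mk P),
        Ideal.map_isPrime_of_surjective Ideal.Quotient.mk_surjective (by simpa using hPle i)⟩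
    have hcomap : ∀ i, (c' i).asIdeal.comap (Ideal.Quotient.mk P) = (c i.succ).asIdeal :=
      fun i => by
      change ((c i.succ).asIdeal.map _).comap _ = _
      rw [Ideal.comap_map_of_surjective _ Ideal.Quotient.mk_surjective, sup_eq_left]
      exact (Ideal.mk_ker (I := P)).le.trans (hPle i)
    have hle_iff : ∀ {X Y : PrimeSpectrum (A ⧸ P)}, X.asIdeal.comap (Ideal.Quotient.mk P) ≤
        Y.asIdeal.comap (Ideal.Quotient.mk P) ↔ X.asIdeal ≤ Y.asIdeal := fun {X Y} =>
      Ideal.comap_le_comap_iff_of_surjective _ Ideal.Quotient.mk_surjective _ _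
    have h := ih (A ⧸ P) c' ?_ ?_ ?_
    · rw [← ringKrullDim_quotient_add_one k P hP0 hmin, ← h]
      push_cast
      rfl
    · change P.map (Ideal.Quotient.mk P) = ⊥
      exact Ideal.map_quotient_self P
    · haveI := hmax
      exact (Ideal.map_eq_top_or_isMaximal_of_surjective _ Ideal.Quotient.mk_surjective
        hmax).resolve_left (c' (Fin.last n)).2.ne_top
    · intro i
      refine ⟨?_, fun X h1 h2 => ?_⟩
      · refine lt_of_le_not_ge (hle_iff.1 ?_) fun hge => ?_
        · rw [hcomap, hcomap]; exact (hmono.monotone (Fin.succ_le_succ_iff.2 (Fin.le_of_lt i.castSucc_lt_succ)))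
        · have := hle_iff.2 hge
          rw [hcomap, hcomap] at this
          refine (hsat i.succ).lt.not_ge ?_
          rw [← Fin.succ_castSucc]
          exact this
      · let X' : PrimeSpectrum A := PrimeSpectrum.comap (Ideal.Quotient.mk P) X
        have hlt : ∀ {Y Z : PrimeSpectrum (A ⧸ P)}, Y < Z →
            PrimeSpectrum.comap (Ideal.Quotient.mk P) Y <
              PrimeSpectrum.comap (Ideal.Quotient.mk P) Z := fun {Y Z} h =>
          lt_of_le_not_ge (hle_iff.2 h.le) fun hge => h.not_ge (hle_iff.1 hge)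
        have e : ∀ j, PrimeSpectrum.comap (Ideal.Quotient.mk P) (c' j) = c j.succ :=
          fun j => PrimeSpectrum.ext (hcomap j)
        have h1' := hlt h1
        have h2' := hlt h2
        rw [e] at h1' h2'
        exact (hsat i.succ).2 (c := X') (by rwa [← Fin.succ_castSucc]) h2'

/-- The transcendence degree of the fraction field is the dimension. -/
theorem trdeg_fractionRing (A : Type u) [CommRing A] [IsDomain A] [Algebra k A]
    [Algebra.FiniteType k A] (K : Type u) [Field K] [Algebra A K] [IsFractionRing A K]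
    [Algebra k K] [IsScalarTower k A K] {d : ℕ} (hd : ringKrullDim A = (d : WithBot ℕ∞)) :
    Algebra.trdeg k K = d := by
  obtain ⟨d', -, -, -, hd', htr⟩ := exists_normalization k A
  have : d' = d := by
    have := hd'.symm.trans hd
    exact_mod_cast this
  subst this
  haveI : Algebra.IsAlgebraic A K := IsLocalization.isAlgebraic _ (nonZeroDivisors A)
  haveI : FaithfulSMul k A :=
    (faithfulSMul_iff_algebraMap_injective _ _).2 (algebraMap k A).injective
  haveI : FaithfulSMul A K :=
    (faithfulSMul_iff_algebraMap_injective _ _).2 (IsFractionRing.injective A K)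
  rw [← trdeg_add_eq k A (A := K), htr, trdeg_eq_zero (R := A), add_zero]

theorem exists_minimal_nonzero_prime_le {A : Type u} [CommRing A] [IsDomain A] [IsNoetherianRing A]
    {P : Ideal A} [P.IsPrime] (hP : P ≠ ⊥) :
    ∃ Q : Ideal A, Q.IsPrime ∧ Q ≤ P ∧ Q ≠ ⊥ ∧
      ∀ Q' : Ideal A, Q'.IsPrime → Q' ≤ Q → Q' ≠ ⊥ → Q' = Q := by
  obtain ⟨a, haP, ha⟩ := Submodule.exists_mem_ne_zero_of_ne_bot hP
  obtain ⟨Q, hQ, hQP⟩ :=
    Ideal.exists_minimalPrimes_le ((Ideal.span_singleton_le_iff_mem P).2 haP)
  haveI := hQ.isPrime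
  refine ⟨Q, hQ.isPrime, hQP, fun h => ha ?_, fun Q' hQ' hle hne => ?_⟩
  · have := hQ.le (Ideal.mem_span_singleton_self a)
    rwa [h, Ideal.mem_bot] at this
  · by_contra hne'
    haveI : (Ideal.span {a}).IsPrincipal := ⟨⟨a, rfl⟩⟩
    have h1 : Q.height ≤ 1 := Ideal.height_le_one_of_isPrincipal_of_mem_minimalPrimes _ _ hQ
    have h2 := Ideal.height_add_one_le_of_lt_of_isPrime (lt_of_le_of_ne hle hne')
    have h3 : (1 : ℕ∞) ≤ Q'.height :=
      ENat.one_le_iff_ne_zero.2 fun h => hne (Ideal.height_eq_zero_iff_eq_bot.1 h)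
    have h4 := (add_le_add h3 le_rfl).trans (h2.trans h1)
    exact absurd h4 (by decide)

theorem exists_dim_formula_ge : ∀ (d : ℕ) (A : Type u) [CommRing A] [IsDomain A] [Algebra k A]
    [Algebra.FiniteType k A], ringKrullDim A = (d : WithBot ℕ∞) → ∀ (P : Ideal A) [P.IsPrime],
    ∃ h e : ℕ, (h : ℕ∞) ≤ P.height ∧ ringKrullDim (A ⧸ P) = (e : WithBot ℕ∞) ∧ h + e = d := by
  intro d
  induction d using Nat.strong_induction_on with
  | _ d ih =>
    intro A _ _ _ _ hd P hPprime
    haveI : IsNoetherianRing A := Algebra.FiniteType.isNoetherianRing k A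
    by_cases hP : P = ⊥
    · subst hP
      refine ⟨0, d, by simp, ?_, zero_add d⟩
      rw [← hd]
      exact ringKrullDim_eq_of_ringEquiv (RingEquiv.quotientBot A)
    obtain ⟨Q, hQprime, hQP, hQ0, hQmin⟩ := exists_minimal_nonzero_prime_le hP
    obtain ⟨d', -, -, -, hd', -⟩ := exists_normalization k (A ⧸ Q)
    have hdd : d' + 1 = d := by
      have := ringKrullDim_quotient_add_one k Q hQ0 hQmin
      rw [hd', hd] at this
      exact_mod_cast this
    haveI : (P.map (Ideal.Quotient.mk Q)).IsPrime :=
      Ideal.map_isPrime_of_surjective Ideal.Quotient.mk_surjective (by simpa using hQP)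
    obtain ⟨h, e, hh, he, hhe⟩ := ih d' (by omega) (A ⧸ Q) hd' (P.map (Ideal.Quotient.mk Q))
    refine ⟨h + 1, e, ?_, ?_, by omega⟩
    · -- lift a chain of length `h`
      let P' : PrimeSpectrum (A ⧸ Q) := ⟨P.map (Ideal.Quotient.mk Q), inferInstance⟩
      have hh' : (h : ℕ∞) ≤ Order.height P' := by
        rwa [← PrimeSpectrum.height_eq_orderHeight]
      obtain ⟨l, hl, hlen⟩ := Order.exists_series_of_le_height P' hh'
      have hmono : StrictMono (PrimeSpectrum.comap (Ideal.Quotient.mk Q)) := fun X Y hXY =>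
        lt_of_le_not_ge (Ideal.comap_mono hXY.le) fun hge => hXY.not_ge
          ((Ideal.comap_le_comap_iff_of_surjective _ Ideal.Quotient.mk_surjective _ _).1 hge)
      let L := l.map _ hmono
      have hhead : (⟨⊥, Ideal.isPrime_bot⟩ : PrimeSpectrum A) < L.head := by
        refine lt_of_le_of_ne bot_le fun heq => hQ0 (le_bot_iff.1 ?_)
        have : Q ≤ L.head.asIdeal := by
          conv_lhs => rw [← Ideal.mk_ker (I := Q)]
          exact Ideal.comap_mono bot_le
        exact this.trans (congrArg PrimeSpectrum.asIdeal heq).ge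
      have hlast : (L.cons _ hhead).last = ⟨P, hPprime⟩ := by
        rw [RelSeries.last_cons, LTSeries.last_map, hl]
        refine PrimeSpectrum.ext ?_
        change (P.map (Ideal.Quotient.mk Q)).comap (Ideal.Quotient.mk Q) = P
        rw [Ideal.comap_map_of_surjective _ Ideal.Quotient.mk_surjective, sup_eq_left]
        exact Ideal.mk_ker.le.trans hQP
      have := Order.length_le_height_last (p := L.cons _ hhead)
      rw [hlast, ← PrimeSpectrum.height_eq_orderHeight] at this
      simpa [L, hlen] using this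
    · rw [← he]
      exact ringKrullDim_eq_of_ringEquiv ((DoubleQuot.quotQuotEquivQuotOfLE hQP).symm)

/-- The dimension formula `height P + dim A/P = dim A`. -/
theorem dim_formula (A : Type u) [CommRing A] [IsDomain A] [Algebra k A]
    [Algebra.FiniteType k A] (P : Ideal A) [P.IsPrime] :
    ∃ h e d : ℕ, P.height = h ∧ ringKrullDim (A ⧸ P) = (e : WithBot ℕ∞) ∧
      ringKrullDim A = (d : WithBot ℕ∞) ∧ h + e = d := by
  obtain ⟨d, -, -, -, hd, -⟩ := exists_normalization k A
  obtain ⟨h, e, hh, he, hhe⟩ := exists_dim_formula_ge k d A hd P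
  refine ⟨h, e, d, le_antisymm ?_ hh, he, hd, hhe⟩
  let x : PrimeSpectrum A := ⟨P, inferInstance⟩
  have hco : (Order.coheight x : WithBot ℕ∞) = (e : WithBot ℕ∞) := by
    rw [Order.coheight_eq_krullDim_Ici, ← he, ringKrullDim_quotient]
    exact Order.krullDim_eq_of_orderIso (OrderIso.setCongr _ _ (by
      ext y; exact ⟨fun hy => hy, fun hy => hy⟩))
  have hsum : ((Order.height x + Order.coheight x : ℕ∞) : WithBot ℕ∞) ≤ ringKrullDim A := by
    haveI : Nonempty (PrimeSpectrum A) := ⟨x⟩
    rw [ringKrullDim, Order.krullDim_eq_iSup_height_add_coheight_of_nonempty]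
    exact WithBot.coe_le_coe.2 (le_iSup (fun a => Order.height a + Order.coheight a) x)
  rw [hd] at hsum
  have hsum' : Order.height x + Order.coheight x ≤ (d : ℕ∞) := WithBot.coe_le_coe.1 hsum
  have hco' : Order.coheight x = (e : ℕ∞) := WithBot.coe_inj.1 hco
  rw [hco', ← hhe, Nat.cast_add] at hsum'
  rw [← PrimeSpectrum.height_eq_orderHeight] at hsum'
  exact WithTop.le_of_add_le_add_right (ENat.natCast_ne_top e) hsum'

theorem height_of_isMaximal (A : Type u) [CommRing A] [IsDomain A] [Algebra k A]
    [Algebra.FiniteType k A] (m : Ideal A) [m.IsMaximal] :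
    (m.height : WithBot ℕ∞) = ringKrullDim A := by
  obtain ⟨h, e, d, hh, he, hd, hhe⟩ := dim_formula k A m
  have : e = 0 := by
    rw [ringKrullDim_eq_zero_of_isField ((Ideal.Quotient.maximal_ideal_iff_isField_quotient m).1
      inferInstance)] at he
    exact_mod_cast he.symm
  subst this
  rw [hh, hd, ← hhe]
  simp

end Groth.L22.AffineDim
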