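import Groth.Agent.L22.AffineDim
import Groth.Agent.L06.Dim
import Groth.Prelude.Def_CurvBase
import Groth.Prelude.Def_Flat
import Mathlib.AlgebraicGeometry.Morphisms.FiniteType
import Mathlib.AlgebraicGeometry.ResidueField
import Mathlib.Topology.KrullDimension

/-!
Dimensions of schemes locally of finite type over a field.
-/

universe u

open CategoryTheory AlgebraicGeometry TopologicalSpace Opposite Topology

namespace Groth.L22.SchemeDim

attribute [local instance] Curv2.resAlgebra

theorem topologicalKrullDim_eq_of_isEmbedding {α β : Type*} [TopologicalSpace α]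
    [TopologicalSpace β] {f : α → β} (hf : IsEmbedding f) {S : Set β} (hS : Set.range f = S) :
    topologicalKrullDim S = topologicalKrullDim α := by
  subst hS
  exact (hf.toHomeomorph.isHomeomorph.topologicalKrullDim_eq).symm

theorem topologicalKrullDim_mono {β : Type*} [TopologicalSpace β] {S T : Set β} (h : S ⊆ T) :
    topologicalKrullDim S ≤ topologicalKrullDim T :=
  (Topology.IsEmbedding.inclusion h).isInducing.topologicalKrullDim_le

theorem topologicalKrullDim_affineOpen {X : Scheme.{u}} {U : X.Opens} (hU : IsAffineOpen U) :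
    topologicalKrullDim (U : Set X) = ringKrullDim Γ(X, U) := by
  rw [topologicalKrullDim_eq_of_isEmbedding hU.fromSpec.isOpenEmbedding.isEmbedding
    hU.range_fromSpec]
  exact PrimeSpectrum.topologicalKrullDim_eq_ringKrullDim _

/-- The closure of a point, inside an affine neighbourhood. -/
theorem topologicalKrullDim_closure_inter {X : Scheme.{u}} {U : X.Opens} (hU : IsAffineOpen U)
    {x : X} (hxU : x ∈ U) :
    topologicalKrullDim (closure ({x} : Set X) ∩ U : Set X) =
      ringKrullDim (Γ(X, U) ⧸ (hU.primeIdealOf ⟨x, hxU⟩).asIdeal) := by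
  let p : Spec Γ(X, U) := hU.primeIdealOf ⟨x, hxU⟩
  have hp : hU.fromSpec p = x := hU.fromSpec_primeIdealOf ⟨x, hxU⟩
  have he := hU.fromSpec.isOpenEmbedding
  have hemb := PrimeSpectrum.isClosedEmbedding_comap_of_surjective (R := Γ(X, U))
    (Γ(X, U) ⧸ p.asIdeal) (Ideal.Quotient.mk p.asIdeal) Ideal.Quotient.mk_surjective
  rw [topologicalKrullDim_eq_of_isEmbedding (he.isEmbedding.comp hemb.isEmbedding)]
  · exact PrimeSpectrum.topologicalKrullDim_eq_ringKrullDim _
  have hr : Set.range (PrimeSpectrum.comap (Ideal.Quotient.mk p.asIdeal)) =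
      PrimeSpectrum.zeroLocus (p.asIdeal : Set Γ(X, U)) :=
    (range_comap_of_surjective _ _ Ideal.Quotient.mk_surjective).trans
      (congrArg (fun I : Ideal Γ(X, U) => PrimeSpectrum.zeroLocus (I : Set Γ(X, U))) Ideal.mk_ker)
  rw [Set.range_comp]
  refine Eq.trans (congrArg (fun s => hU.fromSpec '' s) hr) ?_
  have hcl : PrimeSpectrum.zeroLocus (p.asIdeal : Set Γ(X, U)) = hU.fromSpec ⁻¹' closure {x} := by
    rw [← PrimeSpectrum.closure_singleton, ← hp,
      he.isOpenMap.preimage_closure_eq_closure_preimage he.continuous]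
    congr 1
    ext q
    exact ⟨fun h => congrArg hU.fromSpec h, fun h => he.injective h⟩
  refine Set.ext fun y => ⟨?_, ?_⟩
  · rintro ⟨q, hq, rfl⟩
    refine ⟨?_, hU.range_fromSpec.subset ⟨q, rfl⟩⟩
    have hq' : q ∈ PrimeSpectrum.zeroLocus (p.asIdeal : Set Γ(X, U)) := hq
    rw [hcl] at hq'
    exact hq'
  · rintro ⟨hy, hyU⟩
    obtain ⟨q, hq⟩ := hU.range_fromSpec.ge hyU
    refine ⟨q, ?_, hq⟩
    rw [hcl, Set.mem_preimage, hq]
    exact hy

variable (k : Type u) [Field k] (X : Scheme.{u}) [X.Over (Spec (CommRingCat.of k))]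

/-- The structure map on sections over an open. -/
noncomputable def sectHom (U : X.Opens) : k →+* Γ(X, U) :=
  (X.presheaf.map (homOfLE (le_top : U ≤ ⊤)).op).hom.comp
    (Coh.toGlobal (X ↘ Spec (CommRingCat.of k)))

theorem finiteType_sectHom [LocallyOfFiniteType (X ↘ Spec (CommRingCat.of k))] {U : X.Opens}
    (hU : IsAffineOpen U) : (sectHom k X U).FiniteType := by
  have h := (X ↘ Spec (CommRingCat.of k)).finiteType_appLE (isAffineOpen_top _) hU le_top
  have e : sectHom k X U = ((X ↘ Spec (CommRingCat.of k)).appLE ⊤ U le_top).hom.comp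
      (Scheme.ΓSpecIso (CommRingCat.of k)).inv.hom := rfl
  rw [e]
  exact h.comp (RingHom.FiniteType.of_surjective _
    (Scheme.ΓSpecIso (CommRingCat.of k)).commRingCatIsoToRingEquiv.symm.surjective)

theorem resMap_eq {U : X.Opens} {x : X} (hxU : x ∈ U) :
    Curv2.resMap k X x = (X.evaluation U x hxU).hom.comp (sectHom k X U) := by
  ext c
  change (X.residue x) (X.presheaf.germ ⊤ x trivial _) =
    (X.residue x) (X.presheaf.germ U x hxU (X.presheaf.map _ _))
  rw [TopCat.Presheaf.germ_res_apply]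

/-- `dim Γ(U)/p = trdeg κ(p)`. -/
theorem exists_dim_quotient_eq_trdeg [LocallyOfFiniteType (X ↘ Spec (CommRingCat.of k))]
    {U : X.Opens} (hU : IsAffineOpen U) {x : X} (hxU : x ∈ U) :
    ∃ n : ℕ, ringKrullDim (Γ(X, U) ⧸ (hU.primeIdealOf ⟨x, hxU⟩).asIdeal) = (n : WithBot ℕ∞) ∧
      Algebra.trdeg k (X.residueField x) = n := by
  letI : Algebra k Γ(X, U) := (sectHom k X U).toAlgebra
  haveI : Algebra.FiniteType k Γ(X, U) :=
    RingHom.finiteType_algebraMap.1 (finiteType_sectHom k X hU)
  set p := (hU.primeIdealOf ⟨x, hxU⟩).asIdeal with hpdef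
  haveI : p.IsPrime := (hU.primeIdealOf ⟨x, hxU⟩).2
  have hker : ∀ r : Γ(X, U), X.evaluation U x hxU r = 0 ↔ r ∈ p := by
    intro r
    rw [X.evaluation_eq_zero_iff_notMem_basicOpen x hxU r]
    have hp : hU.fromSpec (hU.primeIdealOf ⟨x, hxU⟩) = x := hU.fromSpec_primeIdealOf ⟨x, hxU⟩
    have : x ∈ X.basicOpen r ↔ hU.primeIdealOf ⟨x, hxU⟩ ∈ hU.fromSpec ⁻¹ᵁ X.basicOpen r :=
      Iff.of_eq (congrArg (· ∈ X.basicOpen r) hp.symm)
    rw [this, hU.fromSpec_preimage_basicOpen]
    exact not_not
  let φ : Γ(X, U) ⧸ p →+* X.residueField x :=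
    Ideal.Quotient.lift p (X.evaluation U x hxU).hom fun r hr => (hker r).2 hr
  letI : Algebra (Γ(X, U) ⧸ p) (X.residueField x) := φ.toAlgebra
  haveI : FaithfulSMul (Γ(X, U) ⧸ p) (X.residueField x) := by
    refine (faithfulSMul_iff_algebraMap_injective _ _).2 ?_
    rw [injective_iff_map_eq_zero]
    intro r hr
    obtain ⟨r, rfl⟩ := Ideal.Quotient.mk_surjective r
    exact Ideal.Quotient.eq_zero_iff_mem.2 ((hker r).1 hr)
  haveI : IsFractionRing (Γ(X, U) ⧸ p) (X.residueField x) := by
    refine IsFractionRing.of_field _ _ fun z => ?_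
    obtain ⟨w, rfl⟩ := X.residue_surjective x z
    letI : Algebra Γ(X, U) (X.presheaf.stalk x) :=
      TopCat.Presheaf.algebra_section_stalk X.presheaf ⟨x, hxU⟩
    haveI := hU.isLocalization_stalk ⟨x, hxU⟩
    obtain ⟨r, s, rfl⟩ := IsLocalization.exists_mk'_eq p.primeCompl w
    refine ⟨Ideal.Quotient.mk p r, Ideal.Quotient.mk p s, ?_⟩
    have hs : X.evaluation U x hxU s ≠ 0 := fun h => s.2 ((hker _).1 h)
    change X.residue x _ = X.evaluation U x hxU r / X.evaluation U x hxU s
    rw [eq_div_iff hs]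
    have e : ∀ t : Γ(X, U), X.evaluation U x hxU t = X.residue x (algebraMap _ _ t) := fun t => rfl
    rw [e, e, ← map_mul, IsLocalization.mk'_spec]
  haveI : IsScalarTower k (Γ(X, U) ⧸ p) (X.residueField x) :=
    IsScalarTower.of_algebraMap_eq fun c => congrArg (fun ψ : k →+* X.residueField x => ψ c)
      (resMap_eq k X hxU)
  obtain ⟨n, -, -, -, hn, -⟩ := AffineDim.exists_normalization k (Γ(X, U) ⧸ p)
  exact ⟨n, hn, AffineDim.trdeg_fractionRing k (Γ(X, U) ⧸ p) (X.residueField x) hn⟩

/-- The closure of a point has dimension the transcendence degree of its residue field. -/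
theorem exists_dim_closure_eq_trdeg [LocallyOfFiniteType (X ↘ Spec (CommRingCat.of k))] (x : X) :
    ∃ n : ℕ, topologicalKrullDim (closure ({x} : Set X)) = (n : WithBot ℕ∞) ∧
      Algebra.trdeg k (X.residueField x) = n := by
  obtain ⟨_, ⟨U, hU, rfl⟩, hxU, -⟩ :=
    X.isBasis_affineOpens.exists_subset_of_mem_open (Set.mem_univ x) isOpen_univ
  obtain ⟨n, hn, htr⟩ := exists_dim_quotient_eq_trdeg k X hU hxU
  refine ⟨n, le_antisymm ?_ ?_, htr⟩
  · refine iSup_le fun l => ?_
    obtain ⟨z, hz⟩ := l.head.isIrreducible.nonempty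
    obtain ⟨_, ⟨W, hW, rfl⟩, hzW, -⟩ :=
      X.isBasis_affineOpens.exists_subset_of_mem_open (Set.mem_univ (z : X)) isOpen_univ
    change X.Opens at W
    have hxW : x ∈ W := by
      obtain ⟨w, hw, hwx⟩ := mem_closure_iff.1 z.2 W W.2 hzW
      exact (Set.mem_singleton_iff.1 hwx) ▸ hw
    obtain ⟨m, hm, htr'⟩ := exists_dim_quotient_eq_trdeg k X hW hxW
    have hmn : m = n := by exact_mod_cast htr'.symm.trans htr
    subst hmn
    refine (Groth.L06.Dim.length_le_of_head_inter l (U := Subtype.val ⁻¹' (W : Set X))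
      (W.2.preimage continuous_subtype_val) ⟨z, hz, hzW⟩).trans ?_
    rw [← hm, ← topologicalKrullDim_closure_inter hW hxW]
    refine le_of_eq ((topologicalKrullDim_eq_of_isEmbedding
      (f := fun w : (Subtype.val ⁻¹' (W : Set X) : Set (closure ({x} : Set X))) => w.1.1) ?_ ?_).symm)
    · exact IsEmbedding.subtypeVal.comp IsEmbedding.subtypeVal
    · ext y
      exact ⟨fun ⟨w, hw⟩ => hw ▸ ⟨w.1.2, w.2⟩, fun hy => ⟨⟨⟨y, hy.1⟩, hy.2⟩, rfl⟩⟩
  · rw [← hn, ← topologicalKrullDim_closure_inter hU hxU]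
    exact topologicalKrullDim_mono Set.inter_subset_left

/-- The irreducible case. -/
theorem exists_dim_eq_trdeg [LocallyOfFiniteType (X ↘ Spec (CommRingCat.of k))]
    [IrreducibleSpace X] :
    ∃ n : ℕ, topologicalKrullDim X = (n : WithBot ℕ∞) ∧
      Algebra.trdeg k (X.residueField (genericPoint X)) = n ∧
      ∀ U : X.Opens, (U : Set X).Nonempty → topologicalKrullDim U = (n : WithBot ℕ∞) := by
  obtain ⟨n, hn, htr⟩ := exists_dim_closure_eq_trdeg k X (genericPoint X)
  have huniv : closure ({genericPoint X} : Set X) = Set.univ := genericPoint_closure _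
  rw [huniv] at hn
  have hX : topologicalKrullDim X = (n : WithBot ℕ∞) := by
    rw [← hn]
    exact (Homeomorph.Set.univ X).isHomeomorph.topologicalKrullDim_eq.symm
  refine ⟨n, hX, htr, fun U hU => le_antisymm ?_ ?_⟩
  · rw [← hX]
    exact topologicalKrullDim_subspace_le X (U : Set X)
  · obtain ⟨y, hy⟩ := hU
    obtain ⟨_, ⟨W, hW, rfl⟩, hyW, hWU⟩ := X.isBasis_affineOpens.exists_subset_of_mem_open hy U.2
    change X.Opens at W
    have hη : genericPoint X ∈ W := ((genericPoint_spec X).mem_open_set_iff W.2).2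
      ⟨y, trivial, hyW⟩
    obtain ⟨m, hm, htr'⟩ := exists_dim_quotient_eq_trdeg k X hW hη
    have hmn : m = n := by exact_mod_cast htr'.symm.trans htr
    subst hmn
    rw [← hm, ← topologicalKrullDim_closure_inter hW hη]
    exact topologicalKrullDim_mono (Set.inter_subset_right.trans hWU)

/-- Immediate specialisations drop the transcendence degree by one. -/
theorem trdeg_covBy [LocallyOfFiniteType (X ↘ Spec (CommRingCat.of k))] {x x' : X} (hne : x ≠ x')
    (hsp : x ⤳ x') (himm : ∀ y : X, x ⤳ y → y ⤳ x' → y = x ∨ y = x') :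
    ∃ n : ℕ, Algebra.trdeg k (X.residueField x') = n ∧
      Algebra.trdeg k (X.residueField x) = (n + 1 : ℕ) := by
  obtain ⟨_, ⟨U, hU, rfl⟩, hxU', -⟩ :=
    X.isBasis_affineOpens.exists_subset_of_mem_open (Set.mem_univ x') isOpen_univ
  change X.Opens at U
  have hxU : x ∈ U := hsp.mem_open U.2 hxU'
  obtain ⟨n, hn, htr⟩ := exists_dim_quotient_eq_trdeg k X hU hxU'
  obtain ⟨m, hm, htr'⟩ := exists_dim_quotient_eq_trdeg k X hU hxU
  refine ⟨n, htr, ?_⟩
  rw [htr']
  norm_cast
  letI : Algebra k Γ(X, U) := (sectHom k X U).toAlgebra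
  haveI : Algebra.FiniteType k Γ(X, U) :=
    RingHom.finiteType_algebraMap.1 (finiteType_sectHom k X hU)
  let p : Spec Γ(X, U) := hU.primeIdealOf ⟨x, hxU⟩
  let q : Spec Γ(X, U) := hU.primeIdealOf ⟨x', hxU'⟩
  have hp : hU.fromSpec p = x := hU.fromSpec_primeIdealOf ⟨x, hxU⟩
  have hq : hU.fromSpec q = x' := hU.fromSpec_primeIdealOf ⟨x', hxU'⟩
  have he := hU.fromSpec.isOpenEmbedding
  have hle : p.asIdeal ≤ q.asIdeal := (PrimeSpectrum.le_iff_specializes p q).2
    (he.isInducing.specializes_iff.1 (hp.symm ▸ hq.symm ▸ hsp))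
  haveI := p.2
  haveI := q.2
  haveI : (q.asIdeal.map (Ideal.Quotient.mk p.asIdeal)).IsPrime :=
    Ideal.map_isPrime_of_surjective Ideal.Quotient.mk_surjective (by simpa using hle)
  have hQ0 : q.asIdeal.map (Ideal.Quotient.mk p.asIdeal) ≠ ⊥ := by
    rw [Ne, Ideal.map_eq_bot_iff_le_ker, Ideal.mk_ker]
    intro h
    refine hne ?_
    rw [← hp, ← hq]
    exact congrArg hU.fromSpec (PrimeSpectrum.ext (le_antisymm hle h))
  have h := AffineDim.ringKrullDim_quotient_add_one k _ hQ0 fun Q hQ hQle hQne => by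
    haveI := hQ
    let Q' : Spec Γ(X, U) :=
      PrimeSpectrum.comap (Ideal.Quotient.mk p.asIdeal) (⟨Q, hQ⟩ : PrimeSpectrum (Γ(X, U) ⧸ p.asIdeal))
    have h1 : p.asIdeal ≤ Q'.asIdeal := by
      conv_lhs => rw [← Ideal.mk_ker (I := p.asIdeal)]
      exact Ideal.comap_mono bot_le
    have h2 : Q'.asIdeal ≤ q.asIdeal := by
      refine (Ideal.comap_mono hQle).trans ?_
      rw [Ideal.comap_map_of_surjective _ Ideal.Quotient.mk_surjective]
      exact sup_le le_rfl (Ideal.mk_ker.le.trans hle)
    have hs1 : p ⤳ Q' := (PrimeSpectrum.le_iff_specializes p Q').1 h1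
    have hs2 : Q' ⤳ q := (PrimeSpectrum.le_iff_specializes Q' q).1 h2
    rcases himm (hU.fromSpec Q') (hp ▸ hs1.map hU.fromSpec.continuous)
      (hq ▸ hs2.map hU.fromSpec.continuous) with h' | h'
    · have hQp : Q' = p := he.injective (h'.trans hp.symm)
      exact absurd (by
        rw [← Ideal.map_comap_of_surjective _ Ideal.Quotient.mk_surjective Q,
          show Q.comap (Ideal.Quotient.mk p.asIdeal) = p.asIdeal from
            congrArg PrimeSpectrum.asIdeal hQp, Ideal.map_quotient_self]) hQne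
    · have hQq : Q' = q := he.injective (h'.trans hq.symm)
      rw [← Ideal.map_comap_of_surjective _ Ideal.Quotient.mk_surjective Q,
        show Q.comap (Ideal.Quotient.mk p.asIdeal) = q.asIdeal from
          congrArg PrimeSpectrum.asIdeal hQq]
  rw [ringKrullDim_eq_of_ringEquiv (DoubleQuot.quotQuotEquivQuotOfLE hle), hn, hm] at h
  exact_mod_cast h.symm

/-- The local dimension at `x` is `trdeg κ(x) + dim O_x`. -/
theorem exists_localDim [LocallyOfFiniteType (X ↘ Spec (CommRingCat.of k))] (x : X) :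
    ∃ a b : ℕ, Algebra.trdeg k (X.residueField x) = a ∧
      ringKrullDim (X.presheaf.stalk x) = (b : WithBot ℕ∞) ∧
      FlatMor.localDim X x = ((a + b : ℕ) : WithBot ℕ∞) := by
  classical
  -- facts in an affine neighbourhood
  have key : ∀ {U : X.Opens} (hU : IsAffineOpen U) (hxU : x ∈ U),
      ∃ a b : ℕ, Algebra.trdeg k (X.residueField x) = a ∧
        ringKrullDim (X.presheaf.stalk x) = (b : WithBot ℕ∞) ∧
        ((a + b : ℕ) : WithBot ℕ∞) ≤ ringKrullDim Γ(X, U) ∧
        ∃ g : Γ(X, U), x ∈ X.basicOpen g ∧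
          topologicalKrullDim (X.basicOpen g : Set X) ≤ ((a + b : ℕ) : WithBot ℕ∞) := by
    intro U hU hxU
    obtain ⟨a, ha, htr⟩ := exists_dim_quotient_eq_trdeg k X hU hxU
    letI : Algebra k Γ(X, U) := (sectHom k X U).toAlgebra
    haveI : Algebra.FiniteType k Γ(X, U) :=
      RingHom.finiteType_algebraMap.1 (finiteType_sectHom k X hU)
    haveI : IsNoetherianRing Γ(X, U) := Algebra.FiniteType.isNoetherianRing k _
    let p : PrimeSpectrum Γ(X, U) := hU.primeIdealOf ⟨x, hxU⟩
    have hstalk : ringKrullDim (X.presheaf.stalk x) = (p.asIdeal.height : WithBot ℕ∞) := by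
      letI : Algebra Γ(X, U) (X.presheaf.stalk x) :=
        TopCat.Presheaf.algebra_section_stalk X.presheaf ⟨x, hxU⟩
      haveI := hU.isLocalization_stalk ⟨x, hxU⟩
      exact IsLocalization.AtPrime.ringKrullDim_eq_height p.asIdeal (X.presheaf.stalk x)
    haveI := p.2
    obtain ⟨b, hb⟩ : ∃ b : ℕ, p.asIdeal.height = b := by
      have h : p.asIdeal.height ≠ ⊤ := Ideal.height_ne_top_of_isPrime
      exact ⟨_, (ENat.coe_toNat h).symm⟩
    -- every minimal prime `q ≤ p` gives a component of dimension at most `a + b`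
    have hcomp : ∀ q : PrimeSpectrum Γ(X, U), q ≤ p → ∃ h d : ℕ,
        h ≤ b ∧ ringKrullDim (Γ(X, U) ⧸ q.asIdeal) = (d : WithBot ℕ∞) ∧ h + a = d ∧
        (p.asIdeal.map (Ideal.Quotient.mk q.asIdeal)).height = h := by
      intro q hq
      haveI := q.2
      haveI : (p.asIdeal.map (Ideal.Quotient.mk q.asIdeal)).IsPrime :=
        Ideal.map_isPrime_of_surjective Ideal.Quotient.mk_surjective
          (by rw [Ideal.mk_ker]; exact hq)
      obtain ⟨h, e, d, hh, he, hd, hhe⟩ :=
        AffineDim.dim_formula k (Γ(X, U) ⧸ q.asIdeal) (p.asIdeal.map (Ideal.Quotient.mk q.asIdeal))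
      rw [ringKrullDim_eq_of_ringEquiv
        (DoubleQuot.quotQuotEquivQuotOfLE (show q.asIdeal ≤ p.asIdeal from hq))] at he
      have hea : e = a := by exact_mod_cast he.symm.trans ha
      subst hea
      refine ⟨h, d, ?_, hd, hhe, hh⟩
      have hmono : StrictMono (PrimeSpectrum.comap (Ideal.Quotient.mk q.asIdeal)) := fun A B hAB =>
        lt_of_le_not_ge (Ideal.comap_mono hAB.le) fun hge => hAB.not_ge
          ((Ideal.comap_le_comap_iff_of_surjective _ Ideal.Quotient.mk_surjective _ _).1 hge)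
      have hle := Order.height_le_height_apply_of_strictMono _ hmono
        ⟨p.asIdeal.map (Ideal.Quotient.mk q.asIdeal), inferInstance⟩
      rw [← PrimeSpectrum.height_eq_orderHeight, ← PrimeSpectrum.height_eq_orderHeight] at hle
      change _ ≤ Ideal.height ((p.asIdeal.map (Ideal.Quotient.mk q.asIdeal)).comap _) at hle
      rw [Ideal.comap_map_of_surjective _ Ideal.Quotient.mk_surjective, ← RingHom.ker_eq_comap_bot,
        sup_eq_left.2 (Ideal.mk_ker.le.trans hq), hh, hb] at hle
      exact_mod_cast hle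
    refine ⟨a, b, htr, by rw [hstalk, hb]; rfl, ?_, ?_⟩
    · -- lower bound
      obtain ⟨l, hl, hlen⟩ := Order.exists_series_of_le_height p
        (n := b) (by rw [← PrimeSpectrum.height_eq_orderHeight, hb])
      have hhead : l.head ≤ p := hl ▸ l.head_le_last
      obtain ⟨h, d, hhb, hd, hha, hh⟩ := hcomp l.head hhead
      have hbh : b ≤ h := by
        -- the chain lives above `l.head`
        haveI := l.head.2
        let l' : LTSeries (PrimeSpectrum (Γ(X, U) ⧸ l.head.asIdeal)) := LTSeries.mk l.length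
          (fun i => ⟨(l i).asIdeal.map (Ideal.Quotient.mk l.head.asIdeal),
            @Ideal.map_isPrime_of_surjective _ _ _ _ _ _ _ _ Ideal.Quotient.mk_surjective _ (l i).2
              (by rw [Ideal.mk_ker]; exact l.monotone (Fin.zero_le i))⟩) (by
            intro i j hij
            refine lt_of_le_not_ge (Ideal.map_mono (l.strictMono hij).le) fun hge =>
              (l.strictMono hij).not_ge ?_
            have := Ideal.comap_mono (f := Ideal.Quotient.mk l.head.asIdeal) hge
            rwa [Ideal.comap_map_of_surjective _ Ideal.Quotient.mk_surjective,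
              Ideal.comap_map_of_surjective _ Ideal.Quotient.mk_surjective,
              ← RingHom.ker_eq_comap_bot,
              sup_eq_left.2 (Ideal.mk_ker.le.trans
                (show l.head.asIdeal ≤ (l j).asIdeal from l.monotone (Fin.zero_le _))),
              sup_eq_left.2 (Ideal.mk_ker.le.trans
                (show l.head.asIdeal ≤ (l i).asIdeal from l.monotone (Fin.zero_le _)))] at this)
        have hlen' := Order.length_le_height_last (p := l')
        rw [← PrimeSpectrum.height_eq_orderHeight] at hlen'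
        have hlast : l'.last.asIdeal = p.asIdeal.map (Ideal.Quotient.mk l.head.asIdeal) := by
          rw [← hl]; rfl
        rw [hlast, hh] at hlen'
        change (l.length : ℕ∞) ≤ _ at hlen'
        rw [hlen] at hlen'
        exact_mod_cast hlen'
      refine le_trans ?_ (ringKrullDim_quotient_le l.head.asIdeal)
      rw [hd]
      exact_mod_cast (show a + b ≤ d by omega)
    · -- upper bound on a small neighbourhood
      let others : Finset (Ideal Γ(X, U)) :=
        (minimalPrimes.finite_of_isNoetherianRing Γ(X, U)).toFinset.filter fun q => ¬ q ≤ p.asIdeal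
      have hnot : ¬ others.inf id ≤ p.asIdeal := by
        rw [p.2.inf_le']
        rintro ⟨q, hq, hle⟩
        exact (Finset.mem_filter.1 hq).2 hle
      obtain ⟨g, hg, hgp⟩ := SetLike.not_le_iff_exists.1 hnot
      refine ⟨g, ?_, ?_⟩
      · have hp : hU.fromSpec (hU.primeIdealOf ⟨x, hxU⟩) = x :=
          hU.fromSpec_primeIdealOf ⟨x, hxU⟩
        rw [← hp]
        change hU.primeIdealOf ⟨x, hxU⟩ ∈ hU.fromSpec ⁻¹ᵁ X.basicOpen g
        rw [hU.fromSpec_preimage_basicOpen]
        exact hgp
      · rw [topologicalKrullDim_affineOpen (hU.basicOpen g)]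
        refine iSup_le fun l => ?_
        haveI := hU.isLocalization_basicOpen g
        have hmono : StrictMono (PrimeSpectrum.comap (algebraMap Γ(X, U) Γ(X, X.basicOpen g))) :=
          fun A B hAB => lt_of_le_not_ge (Ideal.comap_mono hAB.le) fun hge => hAB.not_ge (by
            have := Ideal.map_mono (f := algebraMap Γ(X, U) Γ(X, X.basicOpen g)) hge
            rwa [PrimeSpectrum.comap_asIdeal, PrimeSpectrum.comap_asIdeal, ← Ideal.under_def,
              ← Ideal.under_def, IsLocalization.map_under (Submonoid.powers g),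
              IsLocalization.map_under (Submonoid.powers g)] at this)
        let L := l.map _ hmono
        have hgL : g ∉ L.head.asIdeal := fun h => l.head.2.ne_top (Ideal.eq_top_of_isUnit_mem _ h
          (IsLocalization.map_units Γ(X, X.basicOpen g) (⟨g, Submonoid.mem_powers g⟩ : Submonoid.powers g)))
        haveI := L.head.2
        obtain ⟨q, hq, hqle⟩ := Ideal.exists_minimalPrimes_le (bot_le : ⊥ ≤ L.head.asIdeal)
        haveI := hq.1.1
        have hqp : q ≤ p.asIdeal := by
          by_contra hcon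
          exact hgL (hqle (Finset.inf_le (f := id) (Finset.mem_filter.2
            ⟨(minimalPrimes.finite_of_isNoetherianRing _).mem_toFinset.2 hq, hcon⟩) hg))
        obtain ⟨h, d, hhb, hd, hha, -⟩ := hcomp ⟨q, hq.1.1⟩ hqp
        refine le_trans ?_ (show ((d : ℕ) : WithBot ℕ∞) ≤ ((a + b : ℕ) : WithBot ℕ∞) by
          exact_mod_cast (show d ≤ a + b by omega))
        rw [← hd, ringKrullDim_quotient]
        let L' : LTSeries (PrimeSpectrum.zeroLocus (R := Γ(X, U)) (q : Set Γ(X, U))) :=
          LTSeries.mk L.length (fun i => ⟨L i, fun r hr => L.monotone (Fin.zero_le i) (hqle hr)⟩)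
            (fun i j hij => L.strictMono hij)
        exact Order.LTSeries.length_le_krullDim L'
  obtain ⟨_, ⟨U, hU, rfl⟩, hxU, -⟩ :=
    X.isBasis_affineOpens.exists_subset_of_mem_open (Set.mem_univ x) isOpen_univ
  change X.Opens at U
  obtain ⟨a, b, ha, hb, -, g, hxg, hg⟩ := key hU hxU
  refine ⟨a, b, ha, hb, le_antisymm ?_ ?_⟩
  · exact (iInf_le (fun V : {V : TopologicalSpace.Opens X // x ∈ V} =>
      topologicalKrullDim (V.1 : Set X)) ⟨X.basicOpen g, hxg⟩).trans hg
  · refine le_iInf fun V => ?_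
    obtain ⟨_, ⟨W, hW, rfl⟩, hxW, hWV⟩ :=
      X.isBasis_affineOpens.exists_subset_of_mem_open V.2 V.1.2
    change X.Opens at W
    obtain ⟨a', b', ha', hb', hle, -⟩ := key hW hxW
    have haa : a' = a := by exact_mod_cast ha'.symm.trans ha
    have hbb : b' = b := by exact_mod_cast hb'.symm.trans hb
    subst haa hbb
    exact (hle.trans (topologicalKrullDim_affineOpen hW).ge).trans (topologicalKrullDim_mono hWV)

end Groth.L22.SchemeDim
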