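import Groth.Agent.L22.SchemeDim
import Mathlib.AlgebraicGeometry.Fiber

/-!
Dimensions of fibres of morphisms of schemes locally of finite type over a field: for every point
`x`, `dim closure{x} = dim closure{f x} + dim (closure{x} ∩ fibre)`.
-/

universe u

open CategoryTheory AlgebraicGeometry TopologicalSpace Topology Set

attribute [local instance] Curv2.resAlgebra

namespace Groth.L22.FibreDim

section Top

variable {T : Type*} [TopologicalSpace T] [QuasiSober T]

theorem topologicalKrullDim_eq_iSup_closure :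
    topologicalKrullDim T = ⨆ x : T, topologicalKrullDim (closure ({x} : Set T)) := by
  refine Groth.L06.Dim.eq_iSup (fun x : T => closure ({x} : Set T)) fun p => ?_
  obtain ⟨x, hx⟩ := QuasiSober.sober p.last.isIrreducible p.last.isClosed
  exact ⟨x, Groth.L06.Dim.length_le_of_last_subset p (hx.symm.le)⟩

theorem exists_le_dim_closure {r : ℕ} (h : (r : WithBot ℕ∞) ≤ topologicalKrullDim T) :
    ∃ x : T, (r : WithBot ℕ∞) ≤ topologicalKrullDim (closure ({x} : Set T)) := by
  obtain ⟨p, hp⟩ := Order.le_krullDim_iff.1 h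
  obtain ⟨x, hx⟩ := QuasiSober.sober p.last.isIrreducible p.last.isClosed
  exact ⟨x, hp ▸ Groth.L06.Dim.length_le_of_last_subset p (hx.symm.le)⟩

end Top

theorem SpecMap_resMap (k : Type u) [Field k] (X : Scheme.{u})
    [X.Over (Spec (CommRingCat.of k))] (x : X) :
    Spec.map (CommRingCat.ofHom (Curv2.resMap k X x)) =
      X.fromSpecResidueField x ≫ (X ↘ Spec (CommRingCat.of k)) := by
  have e : CommRingCat.ofHom (Curv2.resMap k X x) =
      ((Scheme.ΓSpecIso (CommRingCat.of k)).inv ≫ (X ↘ Spec (CommRingCat.of k)).appTop ≫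
        X.presheaf.germ ⊤ x trivial) ≫ X.residue x := rfl
  rw [e, Spec.map_comp]
  show _ = (Spec.map (X.residue x) ≫ X.fromSpecStalk x) ≫ _
  rw [Category.assoc]
  congr 1
  have hq : (X ↘ Spec (CommRingCat.of k)) = X.toSpecΓ ≫
      Spec.map ((Scheme.ΓSpecIso (CommRingCat.of k)).inv ≫
        (X ↘ Spec (CommRingCat.of k)).appTop) := by
    rw [Spec.map_comp, ← Scheme.toSpecΓ_naturality_assoc, ← SpecMap_ΓSpecIso_hom, ← Spec.map_comp]
    simp
  conv_rhs => rw [hq]
  rw [Scheme.fromSpecStalk_toSpecΓ_assoc, ← Spec.map_comp, Category.assoc]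

theorem residueFieldMap_bijective {X Y : Scheme.{u}} (f : X ⟶ Y) [IsPreimmersion f] (x : X) :
    Function.Bijective (f.residueFieldMap x).hom := by
  refine ⟨RingHom.injective _, fun b => ?_⟩
  obtain ⟨b', rfl⟩ := X.residue_surjective x b
  obtain ⟨a, rfl⟩ := f.stalkMap_surjective x b'
  exact ⟨Y.residue (f x) a, ConcreteCategory.congr_hom (Scheme.residue_residueFieldMap f x) a⟩

variable (k : Type u) [Field k] {X Y : Scheme.{u}} [X.Over (Spec (CommRingCat.of k))]
  [Y.Over (Spec (CommRingCat.of k))]

theorem trdeg_fiber_add (f : X ⟶ Y)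
    (hf : f ≫ (Y ↘ Spec (CommRingCat.of k)) = (X ↘ Spec (CommRingCat.of k))) (y : Y)
    (z : ↥(f.fiber y)) :
    letI : (f.fiber y).Over (Spec (CommRingCat.of (Y.residueField y))) :=
      ⟨f.fiberToSpecResidueField y⟩
    Algebra.trdeg k (Y.residueField y) +
        Algebra.trdeg (Y.residueField y) ((f.fiber y).residueField z) =
      Algebra.trdeg k (X.residueField (f.fiberι y z)) := by
  letI : (f.fiber y).Over (Spec (CommRingCat.of (Y.residueField y))) :=
    ⟨f.fiberToSpecResidueField y⟩
  letI : Algebra k ((f.fiber y).residueField z) :=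
    ((Curv2.resMap (Y.residueField y) (f.fiber y) z).comp (Curv2.resMap k Y y)).toAlgebra
  haveI : IsScalarTower k (Y.residueField y) ((f.fiber y).residueField z) :=
    IsScalarTower.of_algebraMap_eq fun c => rfl
  have hsq : CommRingCat.ofHom (Curv2.resMap k X (f.fiberι y z)) ≫
      (f.fiberι y).residueFieldMap z =
      CommRingCat.ofHom (Curv2.resMap k Y y) ≫
        CommRingCat.ofHom (Curv2.resMap (Y.residueField y) (f.fiber y) z) := by
    apply Spec.map_injective
    rw [Spec.map_comp, Spec.map_comp, SpecMap_resMap, SpecMap_resMap, SpecMap_resMap,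
      Scheme.Hom.SpecMap_residueFieldMap_fromSpecResidueField_assoc, ← hf]
    show _ = (_ ≫ f.fiberToSpecResidueField y) ≫ _
    simp only [Category.assoc]
    congr 1
    rw [← Category.assoc, ← Category.assoc]
    congr 1
    exact f.fiber_fac y
  let e : (X.residueField (f.fiberι y z)) ≃ₐ[k] ((f.fiber y).residueField z) :=
    AlgEquiv.ofBijective
      { ((f.fiberι y).residueFieldMap z).hom with
        commutes' := fun c => congrArg (fun φ => φ.hom c) hsq }
      (residueFieldMap_bijective (f.fiberι y) z)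
  rw [e.trdeg_eq]
  exact trdeg_add_eq k (Y.residueField y) (A := (f.fiber y).residueField z)

variable [LocallyOfFiniteType (Y ↘ Spec (CommRingCat.of k))]

/-- The dimension formula for a point relative to a morphism of `k`-schemes. -/
theorem exists_dim_closure_add (f : X ⟶ Y) [LocallyOfFiniteType f]
    (hf : f ≫ (Y ↘ Spec (CommRingCat.of k)) = (X ↘ Spec (CommRingCat.of k))) (x : X) :
    ∃ a b : ℕ, topologicalKrullDim (closure ({f x} : Set Y)) = (a : WithBot ℕ∞) ∧
      topologicalKrullDim (closure ({x} : Set X) ∩ f ⁻¹' {f x} : Set X) = (b : WithBot ℕ∞) ∧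
      topologicalKrullDim (closure ({x} : Set X)) = ((a + b : ℕ) : WithBot ℕ∞) := by
  haveI : LocallyOfFiniteType (X ↘ Spec (CommRingCat.of k)) := hf ▸ inferInstance
  let y := f x
  letI : (f.fiber y).Over (Spec (CommRingCat.of (Y.residueField y))) :=
    ⟨f.fiberToSpecResidueField y⟩
  haveI : LocallyOfFiniteType ((f.fiber y) ↘ Spec (CommRingCat.of (Y.residueField y))) :=
    MorphismProperty.pullback_snd f (Y.fromSpecResidueField y) inferInstance
  obtain ⟨a, ha, hat⟩ := SchemeDim.exists_dim_closure_eq_trdeg k Y y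
  obtain ⟨b, hb, hbt⟩ :=
    SchemeDim.exists_dim_closure_eq_trdeg (Y.residueField y) (f.fiber y) (f.asFiber x)
  obtain ⟨c, hc, hct⟩ := SchemeDim.exists_dim_closure_eq_trdeg k X x
  refine ⟨a, b, ha, ?_, ?_⟩
  · rw [← hb]
    refine SchemeDim.topologicalKrullDim_eq_of_isEmbedding
      (f := fun w : (closure ({f.asFiber x} : Set (f.fiber y))) => f.fiberι y w.1)
      ((f.fiberι y).isEmbedding.comp IsEmbedding.subtypeVal) ?_
    have := (f.fiberι y).isEmbedding.isInducing.closure_eq_preimage_closure_image {f.asFiber x}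
    rw [Set.image_singleton, f.fiberι_asFiber] at this
    rw [Set.range_comp', Subtype.range_coe, this, Set.image_preimage_eq_inter_range,
      f.range_fiberι]
  · have h := trdeg_fiber_add k f hf y (f.asFiber x)
    rw [f.fiberι_asFiber, hat, hbt, hct] at h
    have : c = a + b := by exact_mod_cast h.symm
    rw [hc, this]

omit [LocallyOfFiniteType (Y ↘ Spec (CommRingCat.of k))] in
/-- A nonempty fibre of a morphism locally of finite type has a point closed in it. -/
theorem exists_closure_inter_eq (f : X ⟶ Y) [LocallyOfFiniteType f] {x : X} :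
    ∃ z : X, f z = f x ∧ z ∈ closure ({x} : Set X) ∧ closure ({z} : Set X) ∩ f ⁻¹' {f z} = {z} := by
  haveI : Nonempty (closure ({f.asFiber x} : Set (f.fiber (f x)))) :=
    ⟨⟨_, subset_closure rfl⟩⟩
  obtain ⟨w, hw, hwc⟩ := nonempty_inter_closedPoints (X := f.fiber (f x))
    (Z := closure ({f.asFiber x} : Set (f.fiber (f x))))
    ⟨f.asFiber x, subset_closure rfl⟩ isClosed_closure.isLocallyClosed
  have hcl := (f.fiberι (f x)).isEmbedding.isInducing.closure_eq_preimage_closure_image
  have hz : f (f.fiberι (f x) w) = f x := (f.range_fiberι (f x)).subset ⟨w, rfl⟩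
  refine ⟨f.fiberι (f x) w, hz, ?_, ?_⟩
  · rw [hcl, Set.image_singleton, f.fiberι_asFiber] at hw
    exact hw
  · refine Set.Subset.antisymm ?_ ?_
    · rintro u ⟨hu, huf⟩
      rw [hz] at huf
      obtain ⟨v, rfl⟩ := (f.range_fiberι (f x)).ge huf
      have hv : v ∈ closure ({w} : Set _) := by
        rw [hcl, Set.image_singleton]; exact hu
      rw [hwc.closure_eq] at hv
      exact congrArg _ hv
    · rintro u rfl
      exact ⟨subset_closure rfl, rfl⟩

end Groth.L22.FibreDim

namespace Groth.L22.FibreDim

theorem subtype_dim_closure {T : Type*} [TopologicalSpace T] (S : Set T) (x : S) :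
    topologicalKrullDim (closure ({x} : Set S)) =
      topologicalKrullDim (closure ({x.1} : Set T) ∩ S : Set T) := by
  refine (SchemeDim.topologicalKrullDim_eq_of_isEmbedding
    (f := fun w : (closure ({x} : Set S)) => w.1.1)
    (IsEmbedding.subtypeVal.comp IsEmbedding.subtypeVal) ?_).symm
  rw [Set.range_comp', Subtype.range_coe,
    IsEmbedding.subtypeVal.isInducing.closure_eq_preimage_closure_image, Set.image_singleton,
    Set.image_preimage_eq_inter_range, Subtype.range_coe]

theorem natCast_add_le_of_forall {r : ℕ} {D E : WithBot ℕ∞}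
    (h : ∀ n : ℕ, (n : WithBot ℕ∞) ≤ D → ((r + n : ℕ) : WithBot ℕ∞) ≤ E) :
    (r : WithBot ℕ∞) + D ≤ E := by
  induction D with
  | bot => simp
  | coe D =>
    induction D with
    | coe n => simpa using h n le_rfl
    | top =>
      have hE : ∀ n : ℕ, ((r + n : ℕ) : WithBot ℕ∞) ≤ E := fun n => h n (WithBot.coe_le_coe.2 le_top)
      induction E with
      | bot => exact absurd (hE 0) (by simp)
      | coe E =>
        induction E with
        | top => exact le_of_le_of_eq le_top rfl
        | coe m =>
          have := hE (m + 1)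
          norm_cast at this
          omega

theorem exists_maximal_specializes {X : Scheme.{u}} (x : X) :
    ∃ η : X, η ⤳ x ∧ ∀ y : X, y ⤳ η → y = η := by
  obtain ⟨C, hC, hxC, hmax⟩ := exists_preirreducible ({x} : Set X) isPreirreducible_singleton
  have hirr : IsIrreducible C := ⟨⟨x, hxC rfl⟩, hC⟩
  obtain ⟨η, hη⟩ := QuasiSober.sober hirr.closure isClosed_closure
  have hCc : closure C = C := hmax _ hC.closure subset_closure
  refine ⟨η, specializes_iff_mem_closure.2 ?_, fun y hy => ?_⟩
  · rw [hη, hCc]; exact hxC rfl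
  · have h1 : C ⊆ closure ({y} : Set X) := by
      rw [← hCc, ← hη]
      exact closure_minimal (Set.singleton_subset_iff.2 hy.mem_closure) isClosed_closure
    have h2 := hmax _ isIrreducible_singleton.closure.isPreirreducible h1
    refine (IsGenericPoint.eq (S := C) ?_ ?_)
    · exact h2
    · exact hη.trans hCc

theorem exists_map_eq_of_maximal {X Y : Scheme.{u}} (f : X ⟶ Y) [NoetherianSpace X]
    (hd : DenseRange f) {η : Y} (hη : ∀ y : Y, y ⤳ η → y = η) : ∃ x : X, f x = η := by
  have hfin := NoetherianSpace.finite_irreducibleComponents (α := X)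
  have hsub : Set.range f ⊆ ⋃ C ∈ irreducibleComponents X, closure (f '' C) := by
    rintro _ ⟨x, rfl⟩
    exact Set.mem_biUnion (irreducibleComponent_mem_irreducibleComponents x)
      (subset_closure ⟨x, mem_irreducibleComponent, rfl⟩)
  have hmem := closure_minimal hsub (hfin.isClosed_biUnion fun _ _ => isClosed_closure) (hd η)
  obtain ⟨C, hC, hηC⟩ := Set.mem_iUnion₂.1 hmem
  obtain ⟨ξ, hξ⟩ := QuasiSober.sober hC.1 (isClosed_of_mem_irreducibleComponents C hC)
  refine ⟨ξ, hη _ (specializes_iff_mem_closure.2 (closure_minimal ?_ isClosed_closure hηC))⟩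
  rw [← hξ.def]
  exact (image_closure_subset_closure_image f.continuous).trans (by rw [Set.image_singleton])

end Groth.L22.FibreDim
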