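import Groth.Agent.L22.FibreIrr

/-!
Local dimension as a supremum over generisations, local fibre dimension, and its upper
semicontinuity for morphisms of schemes locally of finite type over a field.
-/

universe u

open CategoryTheory AlgebraicGeometry TopologicalSpace Topology Set

namespace Groth.L22.FibreSemicont

/-- The local dimension is the supremum of the dimensions of the closures of the generisations. -/
theorem localDim_eq_iSup (k : Type u) [Field k] {X : Scheme.{u}} [X.Over (Spec (CommRingCat.of k))]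
    [LocallyOfFiniteType (X ↘ Spec (CommRingCat.of k))] (x : X) :
    FlatMor.localDim X x =
      ⨆ η : {η : X // η ⤳ x}, topologicalKrullDim (closure ({η.1} : Set X)) := by
  classical
  refine le_antisymm ?_ (iSup_le fun η => le_iInf fun U => ?_)
  · obtain ⟨_, ⟨W, hW, rfl⟩, hxW, -⟩ :=
      X.isBasis_affineOpens.exists_subset_of_mem_open (Set.mem_univ x) isOpen_univ
    change X.Opens at W
    replace hW : IsAffineOpen W := hW
    haveI : IsLocallyNoetherian X :=
      LocallyOfFiniteType.isLocallyNoetherian (X ↘ Spec (CommRingCat.of k))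
    haveI : IsNoetherianRing Γ(X, W) := IsLocallyNoetherian.component_noetherian ⟨W, hW⟩
    haveI : NoetherianSpace (W : Set X) :=
      noetherianSpace_set_iff _ |>.2 fun s hs => by
        haveI := noetherianSpace_of_isAffineOpen W hW
        exact (noetherianSpace_set_iff _).1 this s hs
    let bad : Set (Set (W : Set X)) := {C ∈ irreducibleComponents (W : Set X) | (⟨x, hxW⟩ : (W : Set X)) ∉ C}
    have hbad : IsClosed (⋃ C ∈ bad, C) :=
      ((NoetherianSpace.finite_irreducibleComponents (α := (W : Set X))).subset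
        (fun C hC => hC.1)).isClosed_biUnion fun C hC => isClosed_of_mem_irreducibleComponents C hC.1
    have hO : IsOpen (Subtype.val '' (⋃ C ∈ bad, C)ᶜ) :=
      W.2.isOpenMap_subtype_val _ hbad.isOpen_compl
    refine (iInf_le _ ⟨⟨_, hO⟩, ⟨⟨x, hxW⟩, by simp [bad], rfl⟩⟩).trans ?_
    haveI : QuasiSober (Subtype.val '' (⋃ C ∈ bad, C)ᶜ : Set X) :=
      hO.isOpenEmbedding_subtypeVal.quasiSober
    change topologicalKrullDim (Subtype.val '' (⋃ C ∈ bad, C)ᶜ : Set X) ≤ _
    rw [FibreDim.topologicalKrullDim_eq_iSup_closure]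
    refine iSup_le ?_
    rintro ⟨u, w, hw, rfl⟩
    rw [FibreDim.subtype_dim_closure]
    refine (SchemeDim.topologicalKrullDim_mono Set.inter_subset_left).trans ?_
    have hx : (⟨x, hxW⟩ : (W : Set X)) ∈ irreducibleComponent w := by
      by_contra h
      exact hw (mem_biUnion (show irreducibleComponent w ∈ bad from
        ⟨irreducibleComponent_mem_irreducibleComponents w, h⟩) mem_irreducibleComponent)
    haveI : QuasiSober (W : Set X) := W.2.isOpenEmbedding_subtypeVal.quasiSober
    obtain ⟨η, hη⟩ := QuasiSober.sober (isIrreducible_irreducibleComponent (x := w))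
      isClosed_irreducibleComponent
    have h1 : (η : X) ⤳ x := (hη.specializes hx).map continuous_subtype_val
    have h2 : (η : X) ⤳ w := (hη.specializes mem_irreducibleComponent).map continuous_subtype_val
    exact le_iSup_of_le ⟨η.1, h1⟩ (SchemeDim.topologicalKrullDim_mono
      (closure_minimal (singleton_subset_iff.2 h2.mem_closure) isClosed_closure))
  · obtain ⟨_, ⟨W, hW, rfl⟩, hxW, hWU⟩ :=
      X.isBasis_affineOpens.exists_subset_of_mem_open U.2 U.1.2
    change X.Opens at W
    replace hW : IsAffineOpen W := hW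
    rw [FibreBound.dim_closure_eq k hW (η.2.mem_open W.2 hxW),
      ← SchemeDim.topologicalKrullDim_closure_inter hW]
    exact SchemeDim.topologicalKrullDim_mono (Set.inter_subset_right.trans hWU)

variable (k : Type u) [Field k] {X Y : Scheme.{u}} [X.Over (Spec (CommRingCat.of k))]
  [Y.Over (Spec (CommRingCat.of k))]
  [LocallyOfFiniteType (X ↘ Spec (CommRingCat.of k))]
  [LocallyOfFiniteType (Y ↘ Spec (CommRingCat.of k))] (f : X ⟶ Y)
  (hf : f ≫ (Y ↘ Spec (CommRingCat.of k)) = (X ↘ Spec (CommRingCat.of k)))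

omit [X.Over (Spec (CommRingCat.of k))] [Y.Over (Spec (CommRingCat.of k))]
  [LocallyOfFiniteType (X ↘ Spec (CommRingCat.of k))]
  [LocallyOfFiniteType (Y ↘ Spec (CommRingCat.of k))] in
theorem fibreDimAt_eq_iSup [LocallyOfFiniteType f] (x : X) :
    FlatMor.fibreDimAt f x = ⨆ z : {z : X // z ⤳ x ∧ f z = f x},
      topologicalKrullDim (closure ({z.1} : Set X) ∩ f ⁻¹' {f x} : Set X) := by
  letI : (f.fiber (f x)).Over (Spec (CommRingCat.of (Y.residueField (f x)))) :=
    ⟨f.fiberToSpecResidueField (f x)⟩
  haveI : LocallyOfFiniteType ((f.fiber (f x)) ↘ Spec (CommRingCat.of (Y.residueField (f x)))) :=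
    MorphismProperty.pullback_snd f (Y.fromSpecResidueField (f x)) inferInstance
  change FlatMor.localDim (f.fiber (f x)) (f.asFiber x) = _
  rw [localDim_eq_iSup (Y.residueField (f x))]
  have he := (f.fiberι (f x)).isEmbedding
  have key : ∀ w : f.fiber (f x), topologicalKrullDim (closure ({w} : Set _)) =
      topologicalKrullDim (closure ({f.fiberι _ w} : Set X) ∩ f ⁻¹' {f x} : Set X) := fun w => by
    refine (SchemeDim.topologicalKrullDim_eq_of_isEmbedding
      (f := fun v : (closure ({w} : Set (f.fiber (f x)))) => f.fiberι (f x) v.1)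
      (he.comp IsEmbedding.subtypeVal) ?_).symm
    have := he.isInducing.closure_eq_preimage_closure_image {w}
    rw [Set.image_singleton] at this
    rw [Set.range_comp', Subtype.range_coe, this, Set.image_preimage_eq_inter_range, f.range_fiberι]
  refine le_antisymm (iSup_le fun η => ?_) (iSup_le fun z => ?_)
  · rw [key]
    refine le_iSup_of_le ⟨f.fiberι _ η.1, ?_, (f.range_fiberι (f x)).subset ⟨η.1, rfl⟩⟩ le_rfl
    have := η.2.map (f.fiberι (f x)).continuous
    rwa [f.fiberι_asFiber] at this
  · obtain ⟨z, hzx, hfz⟩ := z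
    obtain ⟨w, rfl⟩ := (f.range_fiberι (f x)).ge (show z ∈ f ⁻¹' {f x} from hfz)
    refine le_iSup_of_le ⟨w, he.isInducing.specializes_iff.1 ?_⟩ (key w).ge
    rwa [f.fiberι_asFiber]

include hf in
theorem le_fibreDimAt_iff [LocallyOfFiniteType f] (x : X) (n : ℕ) :
    (n : WithBot ℕ∞) ≤ FlatMor.fibreDimAt f x ↔ ∃ (z : X) (cz a : ℕ), z ⤳ x ∧ f z = f x ∧
      topologicalKrullDim (closure ({z} : Set X)) = (cz : WithBot ℕ∞) ∧
      topologicalKrullDim (closure ({f x} : Set Y)) = (a : WithBot ℕ∞) ∧ n + a ≤ cz := by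
  classical
  rw [fibreDimAt_eq_iSup]
  constructor
  · intro h
    by_contra hne
    push Not at hne
    cases n with
    | zero =>
      obtain ⟨a, ha, -⟩ := SchemeDim.exists_dim_closure_eq_trdeg k Y (f x)
      obtain ⟨a', b, ha', -, hab⟩ := FibreDim.exists_dim_closure_add k f hf x
      have := hne x (a' + b) a' (specializes_refl x) rfl hab ha'
      omega
    | succ m =>
      have hle : ⨆ z : {z : X // z ⤳ x ∧ f z = f x},
          topologicalKrullDim (closure ({z.1} : Set X) ∩ f ⁻¹' {f x} : Set X) ≤
            (m : WithBot ℕ∞) := iSup_le fun z => by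
        obtain ⟨a, b, ha, hb, hab⟩ := FibreDim.exists_dim_closure_add k f hf z.1
        rw [z.2.2] at ha hb
        have := hne z.1 (a + b) a z.2.1 z.2.2 hab ha
        rw [hb]
        exact_mod_cast (show b ≤ m by omega)
      have := h.trans hle
      norm_cast at this
      omega
  · rintro ⟨z, cz, a, hzx, hfz, hcz, ha, hle⟩
    refine le_iSup_of_le ⟨z, hzx, hfz⟩ ?_
    obtain ⟨a', b, ha', hb, hab⟩ := FibreDim.exists_dim_closure_add k f hf z
    rw [hfz] at ha' hb
    have e1 : a' = a := by exact_mod_cast ha'.symm.trans ha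
    have e2 : a' + b = cz := by exact_mod_cast hab.symm.trans hcz
    rw [hb]
    exact_mod_cast (show n ≤ b by omega)

include k hf in
/-- Upper semicontinuity of the local fibre dimension. -/
theorem isClosed_le_fibreDimAt [LocallyOfFiniteType f] (n : ℕ) :
    IsClosed {x : X | (n : WithBot ℕ∞) ≤ FlatMor.fibreDimAt f x} := by
  classical
  rw [TopologicalSpace.IsOpenCover.isClosed_iff_coe_preimage
    (U := fun U : X.affineOpens => (U.1 : Opens X)) (iSup_affineOpens_eq_top X)]
  intro U
  haveI : IsLocallyNoetherian X :=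
    LocallyOfFiniteType.isLocallyNoetherian (X ↘ Spec (CommRingCat.of k))
  haveI : IsNoetherianRing Γ(X, U.1) := IsLocallyNoetherian.component_noetherian U
  haveI : NoetherianSpace (U.1 : Set X) :=
    noetherianSpace_set_iff _ |>.2 fun s hs => by
      haveI := noetherianSpace_of_isAffineOpen U.1 U.2
      exact (noetherianSpace_set_iff _).1 this s hs
  -- the generisations witnessing a large fibre dimension inside a closed set
  let F : Set (U.1 : Set X) → Set (U.1 : Set X) := fun C =>
    ⋃ z ∈ {z ∈ C | ∃ (cz a : ℕ), topologicalKrullDim (closure ({z.1} : Set X)) = (cz : WithBot ℕ∞) ∧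
      topologicalKrullDim (closure ({f z.1} : Set Y)) = (a : WithBot ℕ∞) ∧ n + a ≤ cz},
      closure {z}
  have key : IsClosed (F univ) := by
    refine Groth.L06.Constr.closed_induction (P := fun C => IsClosed (F C)) ?_ ?_ ?_ isClosed_univ
    · simp [F]
    · intro C hC hCi ih
      haveI : QuasiSober (U.1 : Set X) := U.1.2.isOpenEmbedding_subtypeVal.quasiSober
      obtain ⟨ξ, hξ⟩ := QuasiSober.sober hCi hC
      obtain ⟨c, hc, -⟩ := SchemeDim.exists_dim_closure_eq_trdeg k X ξ.1
      obtain ⟨a, ha, -⟩ := SchemeDim.exists_dim_closure_eq_trdeg k Y (f ξ.1)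
      by_cases hn : n + a ≤ c
      · have : F C = C := subset_antisymm
          (iUnion₂_subset fun z hz => closure_minimal (singleton_subset_iff.2 hz.1) hC)
          (hξ.def.ge.trans (subset_biUnion_of_mem (u := fun z : (U.1 : Set X) => closure {z})
            (show ξ ∈ _ from ⟨hξ.mem, c, a, hc, ha, hn⟩)))
        rw [this]; exact hC
      · obtain ⟨D, hD, hbound⟩ := FibreBound.exists_generic_bound k f hf ξ.1
        have hlt : C \ (Subtype.val ⁻¹' (D : Set X)) ⊂ C :=
          Groth.L06.Constr.sdiff_ssubset_of_nonempty ⟨ξ, hD, hξ.mem⟩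
        have hcl : IsClosed (C \ (Subtype.val ⁻¹' (D : Set X))) :=
          hC.sdiff (D.2.preimage continuous_subtype_val)
        have : F C = F (C \ (Subtype.val ⁻¹' (D : Set X))) := by
          refine subset_antisymm (biUnion_mono ?_ fun _ _ => subset_rfl)
            (biUnion_mono (fun z hz => ⟨hz.1.1, hz.2⟩) fun _ _ => subset_rfl)
          rintro z ⟨hzC, cz, az, hcz, haz, hle⟩
          refine ⟨⟨hzC, fun hzD => ?_⟩, cz, az, hcz, haz, hle⟩
          have := hbound z.1 hzD ((hξ.specializes hzC).map continuous_subtype_val) c a cz az hc ha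
            hcz haz
          omega
        rw [this]
        exact ih _ hcl hlt
    · intro A B _ _ hA hB
      have : F (A ∪ B) = F A ∪ F B := by
        simp only [F, ← biUnion_union]
        exact congrArg (fun S => ⋃ z ∈ S, closure ({z} : Set (U.1 : Set X))) (by ext z; simp [or_and_right])
      rw [this]
      exact hA.union hB
  refine (congrArg IsClosed ?_).mpr key
  refine Set.ext fun x => ?_
  simp only [F, mem_preimage, mem_ofPred_eq, mem_iUnion, mem_univ, true_and, exists_prop]
  rw [le_fibreDimAt_iff k f hf]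
  constructor
  · rintro ⟨z, cz, a, hzx, hfz, hcz, ha, hle⟩
    refine ⟨⟨z, hzx.mem_open U.1.2 x.2⟩, ⟨cz, a, hcz, hfz ▸ ha, hle⟩, ?_⟩
    exact (Topology.IsInducing.subtypeVal.specializes_iff.1
      (show (⟨z, hzx.mem_open U.1.2 x.2⟩ : (U.1 : Set X)).1 ⤳ x.1 from hzx)).mem_closure
  · rintro ⟨w, ⟨cw, aw, hcw, haw, hle⟩, hw⟩
    obtain ⟨z, cξ, aξ, cz, a, -, hzx, hfz, h1, h2, h3, h4, h5⟩ :=
      FibreBound.exists_fibre_ge k f hf
        ((specializes_iff_mem_closure.2 hw).map continuous_subtype_val)
    have e1 : cξ = cw := by exact_mod_cast h1.symm.trans hcw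
    have e2 : aξ = aw := by exact_mod_cast h2.symm.trans haw
    exact ⟨z, cz, a, hzx, hfz, h3, h4, by omega⟩

end Groth.L22.FibreSemicont
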