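import Groth.Agent.L22.DimFormulaScheme
import Groth.Agent.L22.Cyc.Mult
import Mathlib.RingTheory.Ideal.Height

/-!
The dimension of the local ring of an integral closed subscheme at a point, and dimension functions.
-/

universe u

open AlgebraicGeometry CategoryTheory

namespace Groth.L22.LocQuotDim

open Groth.L22.DimFormula (isDomain_locQuot isLocalRing_locQuot covBy_of_length_eq_height)

variable {X : Scheme.{u}}

theorem fromSpecStalk_ker_specMap (x ξ : X) (h : ξ ⤳ x) (s : PrimeSpectrum (X.residueField ξ)) :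
    X.fromSpecStalk x (PrimeSpectrum.comap (Cyc.specMap x ξ h) s) = ξ := by
  have h1 : Spec.map (X.presheaf.stalkSpecializes h ≫ X.residue ξ) ≫ X.fromSpecStalk x =
      X.fromSpecResidueField ξ := by
    rw [Spec.map_comp, Category.assoc, Scheme.SpecMap_stalkSpecializes_fromSpecStalk]
    rfl
  exact (congrArg (fun φ : Spec (X.residueField ξ) ⟶ X => φ s) h1).trans
    (Scheme.fromSpecResidueField_apply ξ s)

/-- The points between `ξ` and `x` as primes of the local ring of the closure of `ξ` at `x`. -/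
noncomputable def pt (x ξ : X) (h : ξ ⤳ x) (p : PrimeSpectrum (Cyc.LocQuot x ξ h)) : X :=
  X.fromSpecStalk x (PrimeSpectrum.comap (Ideal.Quotient.mk _) p)

theorem pt_injective (x ξ : X) (h : ξ ⤳ x) : Function.Injective (pt x ξ h) :=
  (X.fromSpecStalk x).isEmbedding.injective.comp
    (PrimeSpectrum.comap_injective_of_surjective _ Ideal.Quotient.mk_surjective)

theorem pt_specializes_iff (x ξ : X) (h : ξ ⤳ x) (p q : PrimeSpectrum (Cyc.LocQuot x ξ h)) :
    pt x ξ h p ⤳ pt x ξ h q ↔ p ≤ q := by
  constructor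
  · intro hpq a ha
    have h1 := (X.fromSpecStalk x).isEmbedding.isInducing.specializes_iff.mp hpq
    have h2 := (PrimeSpectrum.le_iff_specializes _ _).2 h1
    obtain ⟨b, rfl⟩ := Ideal.Quotient.mk_surjective a
    exact h2 ha
  · intro hpq
    exact ((PrimeSpectrum.le_iff_specializes (R := X.presheaf.stalk x) _ _).1
      (Ideal.comap_mono hpq)).map (X.fromSpecStalk x).continuous

theorem exists_pt (x ξ : X) (h : ξ ⤳ x) {z : X} (h1 : ξ ⤳ z) (h2 : z ⤳ x) :
    ∃ p, pt x ξ h p = z := by
  obtain ⟨P, hP⟩ := Groth.L22.Cyc.exists_prime_of_specializes h2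
  let s : PrimeSpectrum (X.residueField ξ) := ⟨⊥, Ideal.isPrime_bot⟩
  have hle : RingHom.ker (Cyc.specMap x ξ h) ≤ P.asIdeal := by
    have h3 : X.fromSpecStalk x (PrimeSpectrum.comap (Cyc.specMap x ξ h) s) ⤳
        X.fromSpecStalk x P := by
      rw [fromSpecStalk_ker_specMap, hP]; exact h1
    exact (PrimeSpectrum.le_iff_specializes _ _).2
      ((X.fromSpecStalk x).isEmbedding.isInducing.specializes_iff.mp h3)
  refine ⟨⟨P.asIdeal.map (Ideal.Quotient.mk _),
    Ideal.map_isPrime_of_surjective Ideal.Quotient.mk_surjective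
      (by rw [Ideal.mk_ker]; exact hle)⟩, ?_⟩
  rw [← hP]
  refine congrArg (X.fromSpecStalk x) (PrimeSpectrum.ext ?_)
  exact Ideal.comap_map_mk hle

theorem pt_bot (x ξ : X) (h : ξ ⤳ x) [IsDomain (Cyc.LocQuot x ξ h)] :
    pt x ξ h ⟨⊥, Ideal.isPrime_bot⟩ = ξ := by
  refine Eq.trans ?_ (fromSpecStalk_ker_specMap x ξ h ⟨⊥, Ideal.isPrime_bot⟩)
  refine congrArg (X.fromSpecStalk x) (PrimeSpectrum.ext ?_)
  show Ideal.comap (Ideal.Quotient.mk _) ⊥ = RingHom.ker _
  rw [← RingHom.ker, Ideal.mk_ker]

theorem pt_closed (x ξ : X) (h : ξ ⤳ x) [IsLocalRing (Cyc.LocQuot x ξ h)] :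
    pt x ξ h (IsLocalRing.closedPoint _) = x := by
  haveI : IsLocalHom (Ideal.Quotient.mk (RingHom.ker (Cyc.specMap x ξ h))) :=
    IsLocalHom.of_surjective _ Ideal.Quotient.mk_surjective
  rw [pt, IsLocalRing.comap_closedPoint]
  exact Scheme.fromSpecStalk_closedPoint

/-- The dimension of `O_{X,x}/𝔭_ξ`, measured by dimension functions. -/
theorem exists_dim_locQuot [IsLocallyNoetherian X] (x ξ : X) (h : ξ ⤳ x) :
    ∃ D : ℕ, ringKrullDim (Cyc.LocQuot x ξ h) = (D : WithBot ℕ∞) ∧ (ξ ≠ x → 1 ≤ D) ∧
      ((∀ z : X, ξ ⤳ z → z ⤳ x → z = ξ ∨ z = x) → D ≤ 1) ∧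
      ∀ δ : X → ℤ, Cyc.IsDimFun X δ → δ ξ = δ x + D := by
  haveI := isDomain_locQuot x ξ h
  haveI := isLocalRing_locQuot x ξ h
  let R := Cyc.LocQuot x ξ h
  obtain ⟨s, hsl, hsn⟩ := (IsLocalRing.maximalIdeal R).exists_ltSeries_length_eq_height
  have cs := covBy_of_length_eq_height (s := s) (by
    rw [hsn, hsl]; exact PrimeSpectrum.height_eq_orderHeight ⟨_, _⟩)
  let b : PrimeSpectrum R := ⟨⊥, Ideal.isPrime_bot⟩
  have hhead : s.head = b := le_antisymm (cs.1 (show b ≤ s.head from bot_le)) bot_le
  have hptlast : pt x ξ h s.last = x := by rw [hsl]; exact pt_closed x ξ h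
  have hpthead : pt x ξ h s.head = ξ := by rw [hhead]; exact pt_bot x ξ h
  refine ⟨s.length, ?_, fun hne => ?_, fun hbet => ?_, fun δ hδ => ?_⟩
  · rw [← IsLocalRing.maximalIdeal_height_eq_ringKrullDim, ← hsn]; rfl
  · by_contra h0
    have : s.head = s.last := by
      unfold RelSeries.head RelSeries.last
      congr 1
      ext
      simp
      omega
    exact hne (hpthead.symm.trans ((congrArg (pt x ξ h) this).trans hptlast))
  · by_contra h1
    have hi : 1 < s.length + 1 := by omega
    have ha : s.head < s ⟨1, hi⟩ := s.strictMono (Fin.mk_lt_mk.2 (by simp))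
    have hb : s ⟨1, hi⟩ < s.last := s.strictMono (by simp [Fin.lt_def]; omega)
    rcases hbet (pt x ξ h (s ⟨1, hi⟩))
      ((specializes_of_eq hpthead.symm).trans ((pt_specializes_iff x ξ h _ _).2 ha.le))
      (((pt_specializes_iff x ξ h _ _).2 hb.le).trans (specializes_of_eq hptlast)) with hz | hz
    · exact ha.ne' (pt_injective x ξ h (hz.trans hpthead.symm))
    · exact hb.ne (pt_injective x ξ h (hz.trans hptlast.symm))
  · have key : ∀ i : Fin (s.length + 1), δ (pt x ξ h (s i)) = δ ξ - (i : ℕ) := by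
      intro i
      induction i using Fin.induction with
      | zero => simp [show s 0 = s.head from rfl, hpthead]
      | succ i ih =>
        have hstep := hδ (pt x ξ h (s i.castSucc)) (pt x ξ h (s i.succ))
          ((pt_specializes_iff x ξ h _ _).2 (s.step i).le)
          ((pt_injective x ξ h).ne (s.step i).ne)
        have hcov := hstep.2 fun z hz1 hz2 => by
          obtain ⟨p, rfl⟩ := exists_pt x ξ h
            (((specializes_of_eq hpthead.symm).trans ((pt_specializes_iff x ξ h _ _).2
              (hhead.le.trans (show b ≤ s i.castSucc from bot_le)))).trans hz1)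
            (hz2.trans (((pt_specializes_iff x ξ h _ _).2 (LTSeries.monotone s (Fin.le_last _))).trans
              (specializes_of_eq hptlast)))
          rcases (cs.2 i).eq_or_eq ((pt_specializes_iff x ξ h _ _).1 hz1)
            ((pt_specializes_iff x ξ h _ _).1 hz2) with hp | hp
          · exact Or.inl (congrArg _ hp)
          · exact Or.inr (congrArg _ hp)
        simp only [Fin.val_castSucc] at ih
        simp only [Fin.val_succ]
        push_cast
        omega
    have := key (Fin.last _)
    rw [show s (Fin.last _) = s.last from rfl, hptlast] at this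
    simp only [Fin.val_last] at this
    omega

end Groth.L22.LocQuotDim
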