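import Groth.Agent.L22.AffineDim
import Mathlib.RingTheory.KrullDimension.Polynomial
import Mathlib.RingTheory.Ideal.KrullsHeightTheorem

/-!
Fibre dimensions for finitely generated domains over a field: generic upper bound and
lower bound at every prime.
-/

universe u

open MvPolynomial

namespace Groth.L22.GenericFibre

variable (k : Type u) [Field k]

theorem dim_eq_of_isAlgebraic {C D : Type u} [CommRing C] [IsDomain C] [CommRing D] [IsDomain D]
    [Algebra k C] [Algebra.FiniteType k C] [Algebra k D] [Algebra.FiniteType k D]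
    [Algebra C D] [IsScalarTower k C D] [FaithfulSMul C D] [Algebra.IsAlgebraic C D] :
    ringKrullDim D = ringKrullDim C := by
  obtain ⟨a, -, -, -, ha, hat⟩ := AffineDim.exists_normalization k C
  obtain ⟨b, -, -, -, hb, hbt⟩ := AffineDim.exists_normalization k D
  have h := trdeg_add_eq k C (A := D)
  rw [trdeg_eq_zero (R := C) (A := D), add_zero, hat, hbt] at h
  have : a = b := by exact_mod_cast h
  rw [ha, hb, this]

/-- For a map of finitely generated domains the dimension of a prime quotient of the source is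
bounded, away from a nonzero element, by that of the image plus the relative dimension. -/
theorem exists_generic_bound {A B : Type u} [CommRing A] [IsDomain A] [CommRing B] [IsDomain B]
    [Algebra k A] [Algebra.FiniteType k A] [Algebra k B] [Algebra.FiniteType k B]
    (f : A →ₐ[k] B) (hf : Function.Injective f) :
    ∃ (c : B) (dA dB : ℕ), c ≠ 0 ∧ ringKrullDim A = (dA : WithBot ℕ∞) ∧
      ringKrullDim B = (dB : WithBot ℕ∞) ∧ dA ≤ dB ∧
      ∀ P : Ideal B, P.IsPrime → c ∉ P → ∃ p q : ℕ, ringKrullDim (B ⧸ P) = (p : WithBot ℕ∞) ∧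
        ringKrullDim (A ⧸ P.comap f) = (q : WithBot ℕ∞) ∧ p + dA ≤ q + dB := by
  classical
  letI := f.toRingHom.toAlgebra
  haveI : IsScalarTower k A B := IsScalarTower.of_algebraMap_eq fun x => (f.commutes x).symm
  haveI : FaithfulSMul A B := (faithfulSMul_iff_algebraMap_injective A B).2 hf
  haveI : IsNoetherianRing A := Algebra.FiniteType.isNoetherianRing k A
  obtain ⟨s, hs⟩ : ∃ s : Finset B, Algebra.adjoin k (s : Set B) = ⊤ := Algebra.FiniteType.out
  have hsA : Algebra.adjoin A (s : Set B) = ⊤ := by
    refine top_le_iff.1 fun b _ => ?_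
    have hb : b ∈ Algebra.adjoin k (s : Set B) := hs ▸ trivial
    induction hb using Algebra.adjoin_induction with
    | mem x hx => exact Algebra.subset_adjoin hx
    | algebraMap r => rw [IsScalarTower.algebraMap_apply k A B]; exact Subalgebra.algebraMap_mem _ _
    | add x y _ _ hx hy => exact add_mem (hx trivial) (hy trivial)
    | mul x y _ _ hx hy => exact mul_mem (hx trivial) (hy trivial)
  haveI : Algebra.IsAlgebraic (Algebra.adjoin A (s : Set B)) B :=
    ⟨fun b => isAlgebraic_algebraMap (⟨b, hsA ▸ trivial⟩ : Algebra.adjoin A (s : Set B))⟩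
  obtain ⟨t, hts, ht⟩ := exists_isTranscendenceBasis_subset (R := A) (s : Set B)
  haveI : Finite t := (s.finite_toSet.subset hts).to_subtype
  have := Fintype.ofFinite t
  haveI halg := ht.isAlgebraic
  obtain ⟨y, hy0, hy⟩ := Algebra.IsAlgebraic.exists_integral_multiples
    (R := Algebra.adjoin A (Set.range (Subtype.val : t → B))) s
  -- the image of `A[T]` in a prime quotient
  have key : ∀ P : Ideal B, P.IsPrime → (y : B) ∉ P → ∀ φ : MvPolynomial t A →ₐ[k] B ⧸ P,
      (∀ r, φ r = Ideal.Quotient.mk P (aeval (R := A) (Subtype.val : t → B) r)) →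
        ringKrullDim (B ⧸ P) = ringKrullDim φ.range := by
    intro P hP hyP φ hφ
    haveI := hP
    haveI : IsDomain φ.range := inferInstance
    haveI : Algebra.FiniteType k (MvPolynomial t A) := Algebra.FiniteType.trans
      ‹Algebra.FiniteType k A› inferInstance
    haveI : Algebra.FiniteType k φ.range :=
      Algebra.FiniteType.of_surjective φ.rangeRestrict φ.rangeRestrict_surjective
    have hrange : ∀ z ∈ Algebra.adjoin A (Set.range (Subtype.val : t → B)),
        Ideal.Quotient.mk P z ∈ φ.range := by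
      intro z hz
      rw [Algebra.adjoin_range_eq_range_aeval] at hz
      obtain ⟨r, rfl⟩ := hz
      exact ⟨r, hφ r⟩
    haveI : Algebra.IsAlgebraic φ.range (B ⧸ P) := by
      refine ⟨fun b => ?_⟩
      have hsub : ∀ z : B, z ∈ Algebra.adjoin k (s : Set B) →
          Ideal.Quotient.mk P z ∈ Subalgebra.algebraicClosure φ.range (B ⧸ P) := by
        intro z hz
        induction hz using Algebra.adjoin_induction with
        | mem x hx =>
          have hint : IsIntegral φ.range (Ideal.Quotient.mk P (y • x)) := by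
            obtain ⟨p, hp, hpe⟩ := hy x hx
            let g : Algebra.adjoin A (Set.range (Subtype.val : t → B)) →+* φ.range :=
              ((Ideal.Quotient.mk P).comp
                (Algebra.adjoin A (Set.range (Subtype.val : t → B))).val.toRingHom).codRestrict
                φ.range fun z => hrange z.1 z.2
            refine ⟨p.map g, hp.map g, ?_⟩
            rw [Polynomial.eval₂_map]
            have := congrArg (Ideal.Quotient.mk P) hpe
            rw [map_zero, Polynomial.hom_eval₂] at this
            exact this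
          rw [show y • x = (y : B) * x from rfl, map_mul] at hint
          have h2 : IsAlgebraic φ.range
              ((⟨Ideal.Quotient.mk P y, hrange y.1 y.2⟩ : φ.range) • Ideal.Quotient.mk P x) :=
            hint.isAlgebraic
          refine IsAlgebraic.of_smul ?_ h2
          exact mem_nonZeroDivisors_of_ne_zero fun h =>
            hyP (Ideal.Quotient.eq_zero_iff_mem.1 (congrArg Subtype.val h))
        | algebraMap r =>
          exact isAlgebraic_algebraMap (⟨_, φ.range.algebraMap_mem r⟩ : φ.range)
        | add x y _ _ hx hy => rw [map_add]; exact add_mem hx hy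
        | mul x y _ _ hx hy => rw [map_mul]; exact mul_mem hx hy
      obtain ⟨b, rfl⟩ := Ideal.Quotient.mk_surjective b
      exact hsub b (hs ▸ trivial)
    exact dim_eq_of_isAlgebraic k
  obtain ⟨dA, -, -, -, hdA, -⟩ := AffineDim.exists_normalization k A
  -- the generic point
  let φ₀ : MvPolynomial t A →ₐ[k] B ⧸ (⊥ : Ideal B) :=
    (Ideal.Quotient.mkₐ k (⊥ : Ideal B)).comp
      ((aeval (R := A) (Subtype.val : t → B)).restrictScalars k)
  have hy0' : (y : B) ≠ 0 := fun h => hy0 (Subtype.ext h)
  have h0 := key ⊥ Ideal.isPrime_bot (by simpa using hy0') φ₀ fun r => rfl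
  have hinj : Function.Injective φ₀ := fun a b hab => ht.1 (by
    have := (Ideal.Quotient.mk_eq_mk_iff_sub_mem _ _).1 hab
    rwa [Ideal.mem_bot, sub_eq_zero] at this)
  have hdB : ringKrullDim B = ((dA + Nat.card t : ℕ) : WithBot ℕ∞) := by
    rw [← ringKrullDim_eq_of_ringEquiv (RingEquiv.quotientBot B), h0,
      ← ringKrullDim_eq_of_ringEquiv (AlgEquiv.ofInjective φ₀ hinj).toRingEquiv,
      MvPolynomial.ringKrullDim_of_isNoetherianRing, hdA]
    simp [Nat.card_eq_fintype_card]
  refine ⟨y, dA, dA + Nat.card t, hy0', hdA, hdB, Nat.le_add_right _ _, fun P hP hyP => ?_⟩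
  haveI := hP
  obtain ⟨p, -, -, -, hp, -⟩ := AffineDim.exists_normalization k (B ⧸ P)
  obtain ⟨q, -, -, -, hq, -⟩ := AffineDim.exists_normalization k (A ⧸ P.comap f)
  refine ⟨p, q, hp, hq, ?_⟩
  let φ : MvPolynomial t A →ₐ[k] B ⧸ P :=
    (Ideal.Quotient.mkₐ k P).comp ((aeval (R := A) (Subtype.val : t → B)).restrictScalars k)
  letI : Algebra (A ⧸ P.comap f) (B ⧸ P) :=
    (Ideal.quotientMap P f.toRingHom le_rfl).toAlgebra
  haveI : IsScalarTower A (A ⧸ P.comap f) (B ⧸ P) := IsScalarTower.of_algebraMap_eq fun a => rfl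
  haveI : IsScalarTower k (A ⧸ P.comap f) (B ⧸ P) := IsScalarTower.of_algebraMap_eq fun c => by
    rw [IsScalarTower.algebraMap_apply k A (A ⧸ P.comap f),
      ← IsScalarTower.algebraMap_apply A (A ⧸ P.comap f), ← IsScalarTower.algebraMap_apply k A]
  let ψ : MvPolynomial t (A ⧸ P.comap f) →ₐ[k] B ⧸ P :=
    (aeval (R := A ⧸ P.comap f) (fun i : t => Ideal.Quotient.mk P i.1)).restrictScalars k
  have hfac : ∀ r, φ r = ψ (MvPolynomial.map (Ideal.Quotient.mk (P.comap f)) r) := by
    intro r
    induction r using MvPolynomial.induction_on with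
    | C a => simp [φ, ψ, Ideal.Quotient.mkₐ_eq_mk]; rfl
    | add p q hp hq => simp [hp, hq]
    | mul_X p i hp =>
      rw [map_mul, map_mul, map_mul, hp]
      simp [φ, ψ, Ideal.Quotient.mkₐ_eq_mk]
  have hle : ringKrullDim φ.range ≤ ringKrullDim (MvPolynomial t (A ⧸ P.comap f)) := by
    refine le_trans (le_of_eq ?_) (ringKrullDim_le_of_surjective ψ.rangeRestrict.toRingHom
      ψ.rangeRestrict_surjective)
    have : φ.range = ψ.range := by
      ext z
      constructor
      · rintro ⟨r, rfl⟩; exact ⟨_, (hfac r).symm⟩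
      · rintro ⟨r, rfl⟩
        obtain ⟨r, rfl⟩ := MvPolynomial.map_surjective (Ideal.Quotient.mk (P.comap f))
          Ideal.Quotient.mk_surjective r
        exact ⟨r, hfac r⟩
    rw [this]
  rw [← key P hP hyP φ fun r => rfl, hp, MvPolynomial.ringKrullDim_of_isNoetherianRing, hq] at hle
  have : p ≤ q + Nat.card t := by
    rw [Nat.card_eq_fintype_card] at hle ⊢
    exact_mod_cast hle
  omega

/-- At every prime there is a prime below it over the same prime of the source whose quotient has
at least the expected dimension. -/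
theorem exists_prime_ge {A B : Type u} [CommRing A] [IsDomain A] [CommRing B] [IsDomain B]
    [Algebra k A] [Algebra.FiniteType k A] [Algebra k B] [Algebra.FiniteType k B]
    (f : A →+* B) (P : Ideal B) [P.IsPrime] :
    ∃ (R : Ideal B) (dA dB r q : ℕ), R.IsPrime ∧ R ≤ P ∧ R.comap f = P.comap f ∧
      ringKrullDim A = (dA : WithBot ℕ∞) ∧ ringKrullDim B = (dB : WithBot ℕ∞) ∧
      ringKrullDim (B ⧸ R) = (r : WithBot ℕ∞) ∧
      ringKrullDim (A ⧸ P.comap f) = (q : WithBot ℕ∞) ∧ dB + q ≤ r + dA := by
  letI := f.toAlgebra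
  haveI : IsNoetherianRing B := Algebra.FiniteType.isNoetherianRing k B
  haveI : IsNoetherianRing A := Algebra.FiniteType.isNoetherianRing k A
  obtain ⟨hA, q, dA, hhA, hq, hdA, hAe⟩ := AffineDim.dim_formula k A (P.comap f)
  obtain ⟨hB, e, dB, hhB, he, hdB, hBe⟩ := AffineDim.dim_formula k B P
  haveI : P.LiesOver (P.comap f) := ⟨rfl⟩
  have hineq := Ideal.height_le_height_add_of_liesOver (P.comap f) P
  let J := (P.comap f).map (algebraMap A B)
  have hJP : J ≤ P := Ideal.map_comap_le
  haveI : (P.map (Ideal.Quotient.mk J)).IsPrime :=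
    Ideal.map_isPrime_of_surjective Ideal.Quotient.mk_surjective (by rwa [Ideal.mk_ker])
  obtain ⟨L, hL⟩ : ∃ L : ℕ, (P.map (Ideal.Quotient.mk J)).height = L :=
    ⟨_, (ENat.coe_toNat Ideal.height_ne_top_of_isPrime).symm⟩
  obtain ⟨l, hl, hlen⟩ := Order.exists_series_of_le_height
    (⟨P.map (Ideal.Quotient.mk J), inferInstance⟩ : PrimeSpectrum (B ⧸ J))
    (n := L) (by rw [← PrimeSpectrum.height_eq_orderHeight, hL])
  let R := l.head.asIdeal.comap (Ideal.Quotient.mk J)
  haveI hRp : R.IsPrime := Ideal.comap_isPrime _ _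
  have hPm : (P.map (Ideal.Quotient.mk J)).comap (Ideal.Quotient.mk J) = P := by
    rw [Ideal.comap_map_of_surjective _ Ideal.Quotient.mk_surjective, ← RingHom.ker_eq_comap_bot,
      Ideal.mk_ker, sup_eq_left.2 hJP]
  have hJR : J ≤ R := fun x hx => by
    change Ideal.Quotient.mk J x ∈ l.head.asIdeal
    rw [Ideal.Quotient.eq_zero_iff_mem.2 hx]
    exact Submodule.zero_mem _
  have hRP : R ≤ P := by
    have hlast : l.last.asIdeal = P.map (Ideal.Quotient.mk J) := by rw [hl]
    rw [← hPm, ← hlast]
    exact Ideal.comap_mono l.head_le_last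
  have hcomap : R.comap f = P.comap f :=
    le_antisymm (Ideal.comap_mono hRP) (Ideal.map_le_iff_le_comap.1 hJR)
  haveI : (P.map (Ideal.Quotient.mk R)).IsPrime :=
    Ideal.map_isPrime_of_surjective Ideal.Quotient.mk_surjective (by rwa [Ideal.mk_ker])
  obtain ⟨h', e', r, hh', he', hr, hre⟩ :=
    AffineDim.dim_formula k (B ⧸ R) (P.map (Ideal.Quotient.mk R))
  have hee : e' = e := by
    rw [ringKrullDim_eq_of_ringEquiv (DoubleQuot.quotQuotEquivQuotOfLE hRP)] at he'
    exact_mod_cast he'.symm.trans he
  have hLh : L ≤ h' := by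
    have hsub : ∀ i, R ≤ (l i).asIdeal.comap (Ideal.Quotient.mk J) := fun i =>
      Ideal.comap_mono (l.monotone (Fin.zero_le i))
    let l' : LTSeries (PrimeSpectrum (B ⧸ R)) := LTSeries.mk l.length
      (fun i => ⟨((l i).asIdeal.comap (Ideal.Quotient.mk J)).map (Ideal.Quotient.mk R),
        Ideal.map_isPrime_of_surjective Ideal.Quotient.mk_surjective
          (by rw [Ideal.mk_ker]; exact hsub i)⟩) (by
        intro i j hij
        refine lt_of_le_not_ge (Ideal.map_mono (Ideal.comap_mono (l.strictMono hij).le)) fun hge =>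
          (l.strictMono hij).not_ge ?_
        have := Ideal.comap_mono (f := Ideal.Quotient.mk R) hge
        rw [Ideal.comap_map_of_surjective _ Ideal.Quotient.mk_surjective,
          Ideal.comap_map_of_surjective _ Ideal.Quotient.mk_surjective, ← RingHom.ker_eq_comap_bot,
          Ideal.mk_ker, sup_eq_left.2 (hsub i), sup_eq_left.2 (hsub j)] at this
        exact (Ideal.comap_le_comap_iff_of_surjective _ Ideal.Quotient.mk_surjective _ _).1 this)
    have h := Order.length_le_height_last (p := l')
    rw [← PrimeSpectrum.height_eq_orderHeight] at h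
    have hlast : l'.last.asIdeal = P.map (Ideal.Quotient.mk R) := by
      change (l.last.asIdeal.comap (Ideal.Quotient.mk J)).map _ = _
      rw [hl, hPm]
    rw [hlast, hh'] at h
    change (l.length : ℕ∞) ≤ _ at h
    rw [hlen] at h
    exact_mod_cast h
  refine ⟨R, dA, dB, r, q, hRp, hRP, hcomap, hdA, hdB, hr, hq, ?_⟩
  rw [hhA, hhB, hL] at hineq
  have : hB ≤ hA + L := by exact_mod_cast hineq
  omega

end Groth.L22.GenericFibre
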