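import Groth.Agent.L22.FibreDim
import Groth.Agent.L22.GenericFibre

/-!
Fibre dimension bounds for morphisms of schemes locally of finite type over a field, stated via
dimensions of closures of points.
-/

universe u

open CategoryTheory AlgebraicGeometry TopologicalSpace Topology Set

attribute [local instance] Curv2.resAlgebra

namespace Groth.L22.FibreBound

variable (k : Type u) [Field k] {X Y : Scheme.{u}} [X.Over (Spec (CommRingCat.of k))]
  [Y.Over (Spec (CommRingCat.of k))]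
  [LocallyOfFiniteType (X ↘ Spec (CommRingCat.of k))]

include k in
theorem dim_closure_eq {U : X.Opens} (hU : IsAffineOpen U) {x : X} (hxU : x ∈ U) :
    topologicalKrullDim (closure ({x} : Set X)) =
      ringKrullDim (Γ(X, U) ⧸ (hU.primeIdealOf ⟨x, hxU⟩).asIdeal) := by
  obtain ⟨n, hn, hnt⟩ := SchemeDim.exists_dim_closure_eq_trdeg k X x
  obtain ⟨m, hm, hmt⟩ := SchemeDim.exists_dim_quotient_eq_trdeg k X hU hxU
  have : n = m := by exact_mod_cast hnt.symm.trans hmt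
  rw [hn, hm, this]

omit [LocallyOfFiniteType (X ↘ Spec (CommRingCat.of k))] in
theorem appLE_sectHom (f : X ⟶ Y)
    (hf : f ≫ (Y ↘ Spec (CommRingCat.of k)) = (X ↘ Spec (CommRingCat.of k)))
    {V : Y.Opens} {U : X.Opens} (e : U ≤ f ⁻¹ᵁ V) (c : k) :
    f.appLE V U e (SchemeDim.sectHom k Y V c) = SchemeDim.sectHom k X U c := by
  have h : Coh.toGlobal (X ↘ Spec (CommRingCat.of k)) c =
      f.appTop (Coh.toGlobal (Y ↘ Spec (CommRingCat.of k)) c) := by
    rw [← hf]; rfl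
  change (Y.presheaf.map (homOfLE (le_top : V ≤ ⊤)).op ≫ f.appLE V U e) _ =
    X.presheaf.map (homOfLE (le_top : U ≤ ⊤)).op _
  refine Eq.trans ?_ (congrArg (fun z => X.presheaf.map (homOfLE (le_top : U ≤ ⊤)).op z) h).symm
  rw [Scheme.Hom.map_appLE]
  rfl

omit [X.Over (Spec (CommRingCat.of k))] [LocallyOfFiniteType (X ↘ Spec (CommRingCat.of k))]
  [Y.Over (Spec (CommRingCat.of k))] in
theorem primeIdealOf_fromSpec {U : X.Opens} (hU : IsAffineOpen U) (p : PrimeSpectrum Γ(X, U))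
    (h : hU.fromSpec p ∈ U) : hU.primeIdealOf ⟨hU.fromSpec p, h⟩ = p :=
  hU.fromSpec.isOpenEmbedding.injective (hU.fromSpec_primeIdealOf _)

omit [X.Over (Spec (CommRingCat.of k))] [LocallyOfFiniteType (X ↘ Spec (CommRingCat.of k))]
  [Y.Over (Spec (CommRingCat.of k))] in
theorem primeIdealOf_le {U : X.Opens} (hU : IsAffineOpen U) {x z : X} (hx : x ∈ U) (hz : z ∈ U)
    (h : z ⤳ x) : (hU.primeIdealOf ⟨z, hz⟩).asIdeal ≤ (hU.primeIdealOf ⟨x, hx⟩).asIdeal := by
  refine (PrimeSpectrum.le_iff_specializes _ _).2 ?_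
  refine hU.fromSpec.isOpenEmbedding.isEmbedding.isInducing.specializes_iff.1 ?_
  rwa [hU.fromSpec_primeIdealOf, hU.fromSpec_primeIdealOf]

/-- At every specialisation `x` of `ξ`, the closure of `ξ` has a point over `f x`, generalising `x`,
whose fibre dimension is at least the generic one. -/
theorem exists_fibre_ge [LocallyOfFiniteType (Y ↘ Spec (CommRingCat.of k))] (f : X ⟶ Y)
    (hf : f ≫ (Y ↘ Spec (CommRingCat.of k)) = (X ↘ Spec (CommRingCat.of k))) {ξ x : X}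
    (h : ξ ⤳ x) :
    ∃ (z : X) (cξ aξ cz a : ℕ), ξ ⤳ z ∧ z ⤳ x ∧ f z = f x ∧
      topologicalKrullDim (closure ({ξ} : Set X)) = (cξ : WithBot ℕ∞) ∧
      topologicalKrullDim (closure ({f ξ} : Set Y)) = (aξ : WithBot ℕ∞) ∧
      topologicalKrullDim (closure ({z} : Set X)) = (cz : WithBot ℕ∞) ∧
      topologicalKrullDim (closure ({f x} : Set Y)) = (a : WithBot ℕ∞) ∧ cξ + a ≤ cz + aξ := by
  obtain ⟨_, ⟨V, hV, rfl⟩, hxV, -⟩ :=
    Y.isBasis_affineOpens.exists_subset_of_mem_open (Set.mem_univ (f x)) isOpen_univ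
  change Y.Opens at V
  replace hV : IsAffineOpen V := hV
  obtain ⟨_, ⟨U, hU, rfl⟩, hxU, hUV⟩ :=
    X.isBasis_affineOpens.exists_subset_of_mem_open (show x ∈ f ⁻¹ᵁ V from hxV) (f ⁻¹ᵁ V).2
  change X.Opens at U
  replace hU : IsAffineOpen U := hU
  have e : U ≤ f ⁻¹ᵁ V := hUV
  have hξU : ξ ∈ U := h.mem_open U.2 hxU
  letI : Algebra k Γ(X, U) := (SchemeDim.sectHom k X U).toAlgebra
  haveI : Algebra.FiniteType k Γ(X, U) :=
    RingHom.finiteType_algebraMap.1 (SchemeDim.finiteType_sectHom k X hU)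
  letI : Algebra k Γ(Y, V) := (SchemeDim.sectHom k Y V).toAlgebra
  haveI : Algebra.FiniteType k Γ(Y, V) :=
    RingHom.finiteType_algebraMap.1 (SchemeDim.finiteType_sectHom k Y hV)
  let g : Γ(Y, V) →+* Γ(X, U) := (f.appLE V U e).hom
  let Pξ := (hU.primeIdealOf ⟨ξ, hξU⟩).asIdeal
  let Px := (hU.primeIdealOf ⟨x, hxU⟩).asIdeal
  have hle : Pξ ≤ Px := primeIdealOf_le hU hxU hξU h
  have hcξ : Pξ.comap g = (hV.primeIdealOf ⟨f ξ, e hξU⟩).asIdeal :=
    congrArg PrimeSpectrum.asIdeal (IsAffineOpen.comap_primeIdealOf_appLE V hV U hU e hξU)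
  have hcx : Px.comap g = (hV.primeIdealOf ⟨f x, e hxU⟩).asIdeal :=
    congrArg PrimeSpectrum.asIdeal (IsAffineOpen.comap_primeIdealOf_appLE V hV U hU e hxU)
  haveI : Pξ.IsPrime := (hU.primeIdealOf ⟨ξ, hξU⟩).2
  haveI : Px.IsPrime := (hU.primeIdealOf ⟨x, hxU⟩).2
  let gq : Γ(Y, V) ⧸ Pξ.comap g →+* Γ(X, U) ⧸ Pξ := Ideal.quotientMap Pξ g le_rfl
  haveI : (Px.map (Ideal.Quotient.mk Pξ)).IsPrime :=
    Ideal.map_isPrime_of_surjective Ideal.Quotient.mk_surjective (by rwa [Ideal.mk_ker])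
  obtain ⟨R, aξ, cξ, cz, a, hR, hRP, hRc, haξ, hcξ', hcz, ha, hineq⟩ :=
    GenericFibre.exists_prime_ge k gq (Px.map (Ideal.Quotient.mk Pξ))
  haveI := hR
  let R' := R.comap (Ideal.Quotient.mk Pξ)
  have hR' : R'.IsPrime := Ideal.comap_isPrime _ _
  have hPR : Pξ ≤ R' := fun r hr => by
    change Ideal.Quotient.mk Pξ r ∈ R
    rw [Ideal.Quotient.eq_zero_iff_mem.2 hr]
    exact R.zero_mem
  have hPm : (Px.map (Ideal.Quotient.mk Pξ)).comap (Ideal.Quotient.mk Pξ) = Px := by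
    rw [Ideal.comap_map_of_surjective _ Ideal.Quotient.mk_surjective, ← RingHom.ker_eq_comap_bot,
      Ideal.mk_ker, sup_eq_left.2 hle]
  let p : PrimeSpectrum Γ(X, U) := ⟨R', hR'⟩
  have hzU : hU.fromSpec p ∈ U := hU.range_fromSpec.subset ⟨p, rfl⟩
  have hzp := primeIdealOf_fromSpec hU p hzU
  have hzξ : ξ ⤳ hU.fromSpec p := by
    conv_lhs => rw [← show hU.fromSpec (hU.primeIdealOf ⟨ξ, hξU⟩) = ξ from hU.fromSpec_primeIdealOf _]
    exact ((PrimeSpectrum.le_iff_specializes _ _).1 hPR).map hU.fromSpec.continuous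
  have hzx : hU.fromSpec p ⤳ x := by
    conv_rhs => rw [← show hU.fromSpec (hU.primeIdealOf ⟨x, hxU⟩) = x from hU.fromSpec_primeIdealOf _]
    refine ((PrimeSpectrum.le_iff_specializes _ _).1 ?_).map hU.fromSpec.continuous
    exact (Ideal.comap_mono hRP).trans_eq hPm
  have hfz : f (hU.fromSpec p) = f x := by
    have h1 : (hV.primeIdealOf ⟨f (hU.fromSpec p), e hzU⟩).asIdeal = R'.comap g := by
      rw [← IsAffineOpen.comap_primeIdealOf_appLE V hV U hU e hzU, hzp]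
      rfl
    have h2 : R'.comap g = Px.comap g := by
      have := congrArg (Ideal.comap (Ideal.Quotient.mk (Pξ.comap g))) hRc
      rw [Ideal.comap_comap, Ideal.comap_comap,
        show gq.comp (Ideal.Quotient.mk (Pξ.comap g)) = (Ideal.Quotient.mk Pξ).comp g from rfl,
        ← Ideal.comap_comap, ← Ideal.comap_comap, hPm] at this
      exact this
    have h3 : hV.primeIdealOf ⟨f (hU.fromSpec p), e hzU⟩ = hV.primeIdealOf ⟨f x, e hxU⟩ :=
      PrimeSpectrum.ext (h1.trans (h2.trans hcx))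
    have := congrArg hV.fromSpec h3
    rwa [hV.fromSpec_primeIdealOf, hV.fromSpec_primeIdealOf] at this
  refine ⟨hU.fromSpec p, cξ, aξ, cz, a, hzξ, hzx, hfz, ?_, ?_, ?_, ?_, hineq⟩
  · rw [dim_closure_eq k hU hξU, ← hcξ']
  · rw [dim_closure_eq k hV (e hξU), ← haξ, ← hcξ]
  · rw [dim_closure_eq k hU hzU, hzp, ← hcz]
    refine ringKrullDim_eq_of_ringEquiv ?_
    refine ((DoubleQuot.quotQuotEquivQuotOfLE hPR).symm.trans (Ideal.quotEquivOfEq ?_))
    exact Ideal.map_comap_of_surjective _ Ideal.Quotient.mk_surjective R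
  · rw [dim_closure_eq k hV (e hxU), ← ha, ← hcx]
    refine ringKrullDim_eq_of_ringEquiv ?_
    refine ((DoubleQuot.quotQuotEquivQuotOfLE (I := Pξ.comap g) (Ideal.comap_mono hle)).symm.trans
      (Ideal.quotEquivOfEq ?_))
    refine Ideal.comap_injective_of_surjective (Ideal.Quotient.mk (Pξ.comap g))
      Ideal.Quotient.mk_surjective ?_
    rw [Ideal.comap_map_of_surjective _ Ideal.Quotient.mk_surjective, ← RingHom.ker_eq_comap_bot,
      Ideal.mk_ker, sup_eq_left.2 (Ideal.comap_mono hle), Ideal.comap_comap,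
      show gq.comp (Ideal.Quotient.mk (Pξ.comap g)) = (Ideal.Quotient.mk Pξ).comp g from rfl,
      ← Ideal.comap_comap, hPm]

/-- Near `ξ`, fibre dimensions in the closure of `ξ` are bounded by the generic one. -/
theorem exists_generic_bound [LocallyOfFiniteType (Y ↘ Spec (CommRingCat.of k))] (f : X ⟶ Y)
    (hf : f ≫ (Y ↘ Spec (CommRingCat.of k)) = (X ↘ Spec (CommRingCat.of k))) (ξ : X) :
    ∃ D : X.Opens, ξ ∈ D ∧ ∀ x ∈ D, ξ ⤳ x → ∀ cξ aξ c a : ℕ,
      topologicalKrullDim (closure ({ξ} : Set X)) = (cξ : WithBot ℕ∞) →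
      topologicalKrullDim (closure ({f ξ} : Set Y)) = (aξ : WithBot ℕ∞) →
      topologicalKrullDim (closure ({x} : Set X)) = (c : WithBot ℕ∞) →
      topologicalKrullDim (closure ({f x} : Set Y)) = (a : WithBot ℕ∞) → c + aξ ≤ a + cξ := by
  obtain ⟨_, ⟨V, hV, rfl⟩, hξV, -⟩ :=
    Y.isBasis_affineOpens.exists_subset_of_mem_open (Set.mem_univ (f ξ)) isOpen_univ
  change Y.Opens at V
  replace hV : IsAffineOpen V := hV
  obtain ⟨_, ⟨U, hU, rfl⟩, hξU, hUV⟩ :=
    X.isBasis_affineOpens.exists_subset_of_mem_open (show ξ ∈ f ⁻¹ᵁ V from hξV) (f ⁻¹ᵁ V).2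
  change X.Opens at U
  replace hU : IsAffineOpen U := hU
  have e : U ≤ f ⁻¹ᵁ V := hUV
  letI : Algebra k Γ(X, U) := (SchemeDim.sectHom k X U).toAlgebra
  haveI : Algebra.FiniteType k Γ(X, U) :=
    RingHom.finiteType_algebraMap.1 (SchemeDim.finiteType_sectHom k X hU)
  letI : Algebra k Γ(Y, V) := (SchemeDim.sectHom k Y V).toAlgebra
  haveI : Algebra.FiniteType k Γ(Y, V) :=
    RingHom.finiteType_algebraMap.1 (SchemeDim.finiteType_sectHom k Y hV)
  let g : Γ(Y, V) →ₐ[k] Γ(X, U) :=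
    { (f.appLE V U e).hom with commutes' := fun c => appLE_sectHom k f hf e c }
  let Pξ := (hU.primeIdealOf ⟨ξ, hξU⟩).asIdeal
  haveI : Pξ.IsPrime := (hU.primeIdealOf ⟨ξ, hξU⟩).2
  have hcξ : Pξ.comap g = (hV.primeIdealOf ⟨f ξ, e hξU⟩).asIdeal :=
    congrArg PrimeSpectrum.asIdeal (IsAffineOpen.comap_primeIdealOf_appLE V hV U hU e hξU)
  let gq : Γ(Y, V) ⧸ Pξ.comap g →ₐ[k] Γ(X, U) ⧸ Pξ := Ideal.quotientMapₐ Pξ g le_rfl
  have hinj : Function.Injective gq := Ideal.quotientMap_injective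
  obtain ⟨c₀, dA, dB, hc0, hdA, hdB, -, hbound⟩ := GenericFibre.exists_generic_bound k gq hinj
  obtain ⟨c₀, rfl⟩ := Ideal.Quotient.mk_surjective c₀
  have hmem : ∀ {x : X} (hxU : x ∈ U),
      x ∈ X.basicOpen c₀ ↔ c₀ ∉ (hU.primeIdealOf ⟨x, hxU⟩).asIdeal := by
    intro x hxU
    conv_lhs => rw [← show hU.fromSpec (hU.primeIdealOf ⟨x, hxU⟩) = x from hU.fromSpec_primeIdealOf _]
    change hU.primeIdealOf ⟨x, hxU⟩ ∈ hU.fromSpec ⁻¹ᵁ X.basicOpen c₀ ↔ _
    rw [hU.fromSpec_preimage_basicOpen]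
    rfl
  refine ⟨X.basicOpen c₀,
    (hmem hξU).2 fun h => hc0 (Ideal.Quotient.eq_zero_iff_mem.2 h), fun x hx hsp => ?_⟩
  intro cξ aξ c a hcξ' haξ hc ha
  have hxU : x ∈ U := X.basicOpen_le c₀ hx
  let Px := (hU.primeIdealOf ⟨x, hxU⟩).asIdeal
  haveI : Px.IsPrime := (hU.primeIdealOf ⟨x, hxU⟩).2
  have hle : Pξ ≤ Px := primeIdealOf_le hU hxU hξU hsp
  have hcx : Px.comap g = (hV.primeIdealOf ⟨f x, e hxU⟩).asIdeal :=
    congrArg PrimeSpectrum.asIdeal (IsAffineOpen.comap_primeIdealOf_appLE V hV U hU e hxU)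
  have hPm : (Px.map (Ideal.Quotient.mk Pξ)).comap (Ideal.Quotient.mk Pξ) = Px := by
    rw [Ideal.comap_map_of_surjective _ Ideal.Quotient.mk_surjective, ← RingHom.ker_eq_comap_bot,
      Ideal.mk_ker, sup_eq_left.2 hle]
  haveI hprime : (Px.map (Ideal.Quotient.mk Pξ)).IsPrime :=
    Ideal.map_isPrime_of_surjective Ideal.Quotient.mk_surjective (by rwa [Ideal.mk_ker])
  obtain ⟨p, q, hp, hq, hpq⟩ := hbound (Px.map (Ideal.Quotient.mk Pξ)) hprime fun h => by
    rw [← Ideal.mem_comap, hPm] at h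
    exact (hmem hxU).1 hx h
  have h1 : dB = cξ := by
    rw [dim_closure_eq k hU hξU, hdB] at hcξ'
    exact_mod_cast hcξ'
  have h2 : dA = aξ := by
    rw [dim_closure_eq k hV (e hξU), ← hcξ, hdA] at haξ
    exact_mod_cast haξ
  have h3 : p = c := by
    rw [dim_closure_eq k hU hxU,
      ← ringKrullDim_eq_of_ringEquiv (DoubleQuot.quotQuotEquivQuotOfLE hle), hp] at hc
    exact_mod_cast hc
  have h4 : q = a := by
    rw [dim_closure_eq k hV (e hxU), ← hcx,
      ← ringKrullDim_eq_of_ringEquiv (DoubleQuot.quotQuotEquivQuotOfLE (I := Pξ.comap g)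
        (Ideal.comap_mono hle))] at ha
    have he : (Px.map (Ideal.Quotient.mk Pξ)).comap gq =
        (Px.comap g).map (Ideal.Quotient.mk (Pξ.comap g)) := by
      refine Ideal.comap_injective_of_surjective (Ideal.Quotient.mk (Pξ.comap g))
        Ideal.Quotient.mk_surjective ?_
      rw [Ideal.comap_map_of_surjective _ Ideal.Quotient.mk_surjective, ← RingHom.ker_eq_comap_bot,
        Ideal.mk_ker, sup_eq_left.2 (Ideal.comap_mono hle)]
      ext r
      rw [Ideal.mem_comap, Ideal.mem_comap, Ideal.mem_comap]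
      conv_rhs => rw [← hPm]
      rfl
    rw [he] at hq
    rw [hq] at ha
    exact_mod_cast ha
  omega

end Groth.L22.FibreBound
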