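import Groth.Agent.L06.Dim
import Mathlib.AlgebraicGeometry.Artinian
import Mathlib.AlgebraicGeometry.Limits
import Mathlib.AlgebraicGeometry.Morphisms.Finite
import Mathlib.AlgebraicGeometry.Noetherian
import Mathlib.RingTheory.Jacobson.Artinian

/-!
Zero-dimensional schemes of finite type over a field.
-/

universe u

open CategoryTheory AlgebraicGeometry TopologicalSpace

namespace Groth.L22.DimZero

theorem isAffine_of_discrete_finite {X : Scheme.{u}} [DiscreteTopology X] [Finite X] : IsAffine X := by
  have hpt : ∀ x : X, IsAffineOpen (⟨{x}, isOpen_discrete _⟩ : X.Opens) := by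
    intro x
    obtain ⟨_, ⟨U, hU, rfl⟩, hxU, hsub⟩ := X.isBasis_affineOpens.exists_subset_of_mem_open
      (show x ∈ ({x} : Set X) from rfl) (isOpen_discrete _)
    change X.Opens at U
    have : U = ⟨{x}, isOpen_discrete _⟩ :=
      Opens.ext (Set.Subset.antisymm hsub (Set.singleton_subset_iff.2 hxU))
    exact this ▸ hU
  have h := IsAffineOpen.iSup_of_disjoint hpt (fun x y hxy => by
    rw [Function.onFun, disjoint_iff_inf_le]
    rintro z ⟨h1, h2⟩
    exact hxy ((h1 : z = x).symm.trans h2))
  have htop : (⨆ x : X, (⟨{x}, isOpen_discrete _⟩ : X.Opens)) = ⊤ :=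
    top_le_iff.1 fun x _ => Opens.mem_iSup.2 ⟨x, rfl⟩
  rw [htop] at h
  haveI : IsAffine ((⊤ : X.Opens).toScheme) := h
  exact IsAffine.of_isIso X.topIso.inv

variable (k : Type u) [Field k] {X : Scheme.{u}} (f : X ⟶ Spec (CommRingCat.of k))
  [LocallyOfFiniteType f] [QuasiCompact f]

include f

theorem isNoetherian : IsNoetherian X := by
  haveI : IsLocallyNoetherian X := LocallyOfFiniteType.isLocallyNoetherian f
  haveI : CompactSpace X := QuasiCompact.compactSpace_of_compactSpace f
  exact { }

theorem isFinite_of_isArtinian [IsArtinianScheme X] : IsAffine X ∧ IsFinite f := by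
  haveI : IsAffine X := isAffine_of_discrete_finite
  refine ⟨inferInstance, ?_⟩
  rw [HasAffineProperty.iff_of_isAffine (P := @IsFinite)]
  refine ⟨inferInstance, ?_⟩
  haveI : IsArtinianRing Γ(X, ⊤) := IsLocallyArtinian.isArtinianRing_of_isAffine
  have hft := f.finiteType_appLE (isAffineOpen_top _) (isAffineOpen_top X)
    (le_top (a := (⊤ : X.Opens)))
  have e : f.appLE ⊤ ⊤ (le_top (a := (⊤ : X.Opens))) = f.appTop := by
    simp [Scheme.Hom.appLE]
  rw [e] at hft
  haveI : IsArtinianRing Γ(Spec (CommRingCat.of k), ⊤) :=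
    (Scheme.ΓSpecIso (CommRingCat.of k)).commRingCatIsoToRingEquiv.symm.surjective.isArtinianRing
  letI := f.appTop.hom.toAlgebra
  haveI : Algebra.FiniteType Γ(Spec (CommRingCat.of k), ⊤) Γ(X, ⊤) := hft
  exact (Module.finite_iff_isArtinianRing _ _).2 inferInstance

theorem isArtinianScheme_of_dim_le_zero (h : topologicalKrullDim X ≤ 0) : IsArtinianScheme X := by
  haveI := isNoetherian k f
  haveI := IsLocallyArtinian.of_topologicalKrullDim_le_zero (X := X) h
  exact { }

end Groth.L22.DimZero
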