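import Groth.Agent.L22.FibreBound
import Groth.Agent.L22.DimZero
import Groth.Agent.L06.Constr
import Mathlib.AlgebraicGeometry.Morphisms.FinitePresentation

/-!
Morphisms of finite-type schemes over a field whose closed fibres are irreducible of constant
dimension.
-/

universe u

open CategoryTheory AlgebraicGeometry TopologicalSpace Topology Set

namespace Groth.L22.FibreIrr

theorem dim_lt_of_specializes {T : Type*} [TopologicalSpace T] {x z : T} (h : x ⤳ z)
    (hne : ¬ z ⤳ x) :
    topologicalKrullDim (closure ({z} : Set T)) + 1 ≤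
      topologicalKrullDim (closure ({x} : Set T)) := by
  have hsub : closure ({z} : Set T) ⊆ closure {x} :=
    closure_minimal (singleton_subset_iff.2 h.mem_closure) isClosed_closure
  let ι : closure ({z} : Set T) → closure ({x} : Set T) := Set.inclusion hsub
  have hι : IsClosedEmbedding ι := IsClosedEmbedding.inclusion hsub (isClosed_closure.preimage continuous_subtype_val)
  let top : IrreducibleCloseds (closure ({x} : Set T)) :=
    ⟨univ, by
      refine ⟨⟨⟨x, subset_closure rfl⟩, trivial⟩, ?_⟩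
      have := (isIrreducible_singleton (x := x)).closure.isPreirreducible
      exact (Subtype.preirreducibleSpace this).isPreirreducible_univ, isClosed_univ⟩
  haveI : Nonempty (closure ({z} : Set T)) := ⟨⟨z, subset_closure rfl⟩⟩
  obtain h0 := Groth.L06.Dim.nonneg (X := closure ({z} : Set T))
  rw [topologicalKrullDim] at h0 ⊢
  haveI : Nonempty (IrreducibleCloseds (closure ({z} : Set T))) :=
    Order.krullDim_nonneg_iff.1 h0
  rw [Order.krullDim_eq_iSup_length (α := IrreducibleCloseds (closure ({z} : Set T))),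
    ← WithBot.coe_one, ← WithBot.coe_add, ENat.iSup_add,
    topologicalKrullDim]
  haveI : Nonempty (IrreducibleCloseds (closure ({x} : Set T))) := ⟨top⟩
  rw [Order.krullDim_eq_iSup_length (α := IrreducibleCloseds (closure ({x} : Set T))),
    WithBot.coe_le_coe]
  refine iSup_le fun p => ?_
  let q := p.map _ (IrreducibleCloseds.map_strictMono_of_isInducing hι.isInducing)
  have hlt : q.last < top := by
    refine lt_of_le_of_ne (fun _ _ => trivial) fun e => hne ?_
    have hx : (⟨x, subset_closure rfl⟩ : closure ({x} : Set T)) ∈ (q.last : Set _) := by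
      rw [e]; trivial
    have hcl : (q.last : Set (closure ({x} : Set T))) ⊆ range ι :=
      closure_minimal (image_subset_range _ _) hι.isClosed_range
    obtain ⟨w, hw⟩ := hcl hx
    have : x ∈ closure ({z} : Set T) := by
      have e := congrArg Subtype.val hw
      exact (show w.1 = x from e) ▸ w.2
    exact specializes_iff_mem_closure.2 this
  exact le_iSup_of_le (q.snoc top hlt) le_rfl

variable (k : Type u) [Field k] {X Y : Scheme.{u}} [X.Over (Spec (CommRingCat.of k))]
  [Y.Over (Spec (CommRingCat.of k))]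
  [LocallyOfFiniteType (X ↘ Spec (CommRingCat.of k))]
  [LocallyOfFiniteType (Y ↘ Spec (CommRingCat.of k))] (f : X ⟶ Y)
  (hf : f ≫ (Y ↘ Spec (CommRingCat.of k)) = (X ↘ Spec (CommRingCat.of k)))

include k in
omit [Y.Over (Spec (CommRingCat.of k))] [LocallyOfFiniteType (Y ↘ Spec (CommRingCat.of k))] in
theorem exists_closed_mem {S : Set X} (hS : S.Nonempty) (hlc : IsLocallyClosed S) :
    ∃ x ∈ S, IsClosed ({x} : Set X) := by
  haveI : JacobsonSpace X := LocallyOfFiniteType.jacobsonSpace (X ↘ Spec (CommRingCat.of k))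
  obtain ⟨x, hx, hxc⟩ := nonempty_inter_closedPoints hS hlc
  exact ⟨x, hx, hxc⟩

omit [LocallyOfFiniteType (X ↘ Spec (CommRingCat.of k))]
  [LocallyOfFiniteType (Y ↘ Spec (CommRingCat.of k))] [X.Over (Spec (CommRingCat.of k))]
  [Y.Over (Spec (CommRingCat.of k))] in
theorem dim_closure_of_isClosed {y : Y} (hy : IsClosed ({y} : Set Y)) :
    topologicalKrullDim (closure ({y} : Set Y)) = 0 := by
  rw [hy.closure_eq]
  exact le_antisymm (topologicalKrullDim_zero_of_discreteTopology _) Groth.L06.Dim.nonneg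

include hf in
theorem isClosed_map {x : X} (hx : IsClosed ({x} : Set X)) : IsClosed ({f x} : Set Y) := by
  haveI : LocallyOfFiniteType f :=
    have : LocallyOfFiniteType (f ≫ (Y ↘ (Spec (CommRingCat.of k)))) := hf ▸ inferInstance
    locallyOfFiniteType_of_comp f (Y ↘ (Spec (CommRingCat.of k)))
  obtain ⟨a, b, ha, hb, hab⟩ := FibreDim.exists_dim_closure_add k f hf x
  rw [dim_closure_of_isClosed hx] at hab
  have h0 : a + b = 0 := by exact_mod_cast hab.symm
  have hcl : closure ({f x} : Set Y) ⊆ {f x} := by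
    intro y hy
    by_contra hne
    have hy' : f x ⤳ y := specializes_iff_mem_closure.2 hy
    have h1 := dim_lt_of_specializes hy' fun h => hne ((hy'.antisymm h).eq).symm
    obtain ⟨n, hn, -⟩ := SchemeDim.exists_dim_closure_eq_trdeg k Y y
    rw [hn, ha] at h1
    have : n + 1 ≤ a := by exact_mod_cast h1
    omega
  exact closure_subset_iff_isClosed.1 hcl

variable (d : ℕ) (hirr : ∀ y : Y, IsClosed ({y} : Set Y) → IsIrreducible (f ⁻¹' {y}))
  (hdim : ∀ y : Y, IsClosed ({y} : Set Y) → topologicalKrullDim (f ⁻¹' {y} : Set X) = d)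

include k hirr hdim in
omit [Y.Over (Spec (CommRingCat.of k))] [LocallyOfFiniteType (Y ↘ Spec (CommRingCat.of k))] in
theorem exists_fibre_generic {y : Y} (hy : IsClosed ({y} : Set Y)) :
    ∃ ζ : X, f ζ = y ∧ f ⁻¹' {y} = closure {ζ} ∧
      topologicalKrullDim (closure ({ζ} : Set X)) = (d : WithBot ℕ∞) ∧
      ∀ z : X, f z = y → (d : WithBot ℕ∞) ≤ topologicalKrullDim (closure ({z} : Set X)) → z = ζ := by
  have hc : IsClosed (f ⁻¹' {y}) := hy.preimage f.continuous
  obtain ⟨ζ, hζ⟩ := QuasiSober.sober (hirr y hy) hc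
  have hd : topologicalKrullDim (closure ({ζ} : Set X)) = (d : WithBot ℕ∞) := by
    rw [hζ.def]; exact hdim y hy
  refine ⟨ζ, hζ.mem, hζ.def.symm, hd, fun z hz hzd => ?_⟩
  by_contra hne
  have hs : ζ ⤳ z := hζ.specializes hz
  have h1 := dim_lt_of_specializes hs fun h => hne ((hs.antisymm h).eq).symm
  obtain ⟨n, hn, -⟩ := SchemeDim.exists_dim_closure_eq_trdeg k X z
  rw [hn, hd] at h1
  rw [hn] at hzd
  have h1' : n + 1 ≤ d := by exact_mod_cast h1
  have h2' : d ≤ n := by exact_mod_cast hzd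
  omega

include hf hirr hdim in
/-- Every component is made of whole fibres and has dimension `d` more than its image. -/
theorem component [NoetherianSpace X] {ξ : X} (hξ : ∀ y : X, y ⤳ ξ → y = ξ) :
    (∀ y : Y, IsClosed ({y} : Set Y) → (f ⁻¹' {y} ∩ closure {ξ}).Nonempty →
      f ⁻¹' {y} ⊆ closure {ξ}) ∧
    topologicalKrullDim (closure ({ξ} : Set X)) =
      d + topologicalKrullDim (closure ({f ξ} : Set Y)) := by
  classical
  obtain ⟨c, hc, -⟩ := SchemeDim.exists_dim_closure_eq_trdeg k X ξ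
  obtain ⟨a, ha, -⟩ := SchemeDim.exists_dim_closure_eq_trdeg k Y (f ξ)
  have upper : ∀ x : X, ξ ⤳ x → IsClosed ({x} : Set X) →
      ∃ (z : X) (cz : ℕ), ξ ⤳ z ∧ f z = f x ∧
        topologicalKrullDim (closure ({z} : Set X)) = (cz : WithBot ℕ∞) ∧
          c ≤ cz + a ∧ cz ≤ d := by
    intro x hsp hx
    obtain ⟨z, cξ, aξ, cz, a', hξz, -, hfz, h1, h2, h3, h4, h5⟩ :=
      FibreBound.exists_fibre_ge k f hf hsp
    have e1 : cξ = c := by exact_mod_cast h1.symm.trans hc
    have e2 : aξ = a := by exact_mod_cast h2.symm.trans ha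
    have e4 : a' = 0 := by
      exact_mod_cast h4.symm.trans (dim_closure_of_isClosed (isClosed_map k f hf hx))
    refine ⟨z, cz, hξz, hfz, h3, by omega, ?_⟩
    have := (SchemeDim.topologicalKrullDim_mono (closure_minimal
      (singleton_subset_iff.2 hfz : ({z} : Set X) ⊆ f ⁻¹' {f x})
      ((isClosed_map k f hf hx).preimage f.continuous))).trans_eq (hdim _ (isClosed_map k f hf hx))
    rw [h3] at this
    exact_mod_cast this
  -- the generic bound near `ξ`
  obtain ⟨D, hD, hbound⟩ := FibreBound.exists_generic_bound k f hf ξ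
  have hcomp : closure ({ξ} : Set X) ∈ irreducibleComponents X := by
    refine ⟨isIrreducible_singleton.closure, fun C hC hle => ?_⟩
    obtain ⟨η, hη⟩ := QuasiSober.sober hC.closure isClosed_closure
    have hηξ : η ⤳ ξ := hη.specializes (subset_closure (hle (subset_closure rfl)))
    rw [hξ η hηξ] at hη
    exact subset_closure.trans hη.def.ge
  let others : Set X := ⋃ C ∈ irreducibleComponents X \ {closure ({ξ} : Set X)}, C
  have hothers : IsClosed others :=
    ((NoetherianSpace.finite_irreducibleComponents (α := X)).subset sdiff_subset).isClosed_biUnion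
      fun C hC => isClosed_of_mem_irreducibleComponents C hC.1
  have hO : ∀ w : X, w ∉ others → ξ ⤳ w := by
    intro w hw
    obtain ⟨C, hC, hwC⟩ : ∃ C ∈ irreducibleComponents X, w ∈ C :=
      ⟨_, irreducibleComponent_mem_irreducibleComponents w, mem_irreducibleComponent⟩
    by_cases h : C = closure {ξ}
    · exact specializes_iff_mem_closure.2 (h ▸ hwC)
    · exact absurd (mem_iUnion₂.2 ⟨C, ⟨hC, h⟩, hwC⟩) hw
  have hξO : ξ ∉ others := by
    intro h
    obtain ⟨C, ⟨hC, hne⟩, hξC⟩ := mem_iUnion₂.1 h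
    have hcl : IsClosed C := isClosed_of_mem_irreducibleComponents C hC
    exact hne (hcomp.eq_of_le hC.1 (closure_minimal (singleton_subset_iff.2 hξC) hcl)).symm
  obtain ⟨x₀, ⟨hx₀, hx₀D⟩, hx₀c⟩ := exists_closed_mem k
    (S := othersᶜ ∩ (D : Set X)) ⟨ξ, hξO, hD⟩ (hothers.isOpen_compl.inter D.2).isLocallyClosed
  have hy₀ := isClosed_map k f hf hx₀c
  obtain ⟨ζ, hζy, hζcl, hζd, -⟩ := exists_fibre_generic k f d hirr hdim hy₀
  have hζx : ζ ⤳ x₀ := specializes_iff_mem_closure.2 (hζcl ▸ rfl)
  have hζD : ζ ∈ D := hζx.mem_open D.2 hx₀D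
  have hζO : ζ ∉ others := hζx.mem_open hothers.isOpen_compl hx₀
  have hlow : d + a ≤ 0 + c := hbound ζ hζD (hO ζ hζO) c a d 0 hc ha hζd
    (by rw [hζy]; exact dim_closure_of_isClosed hy₀)
  obtain ⟨z₀, cz₀, -, -, -, hcz, hczd⟩ := upper x₀ (hO x₀ hx₀) hx₀c
  have hcd : c = d + a := by omega
  refine ⟨fun y hy hne => ?_, by rw [hc, ha, hcd, Nat.cast_add]⟩
  obtain ⟨x, ⟨hxy, hxξ⟩, hxc⟩ := exists_closed_mem k hne
    ((hy.preimage f.continuous).inter isClosed_closure).isLocallyClosed
  obtain ⟨z, cz', hξz, hfz, hzdim, h1, h2⟩ :=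
    upper x (specializes_iff_mem_closure.2 hxξ) hxc
  obtain ⟨ζ', -, hcl', -, huniq⟩ := exists_fibre_generic k f d hirr hdim hy
  have hzζ : z = ζ' := huniq z (hfz.trans hxy) (by
    rw [hzdim]; exact_mod_cast (show d ≤ cz' by omega))
  rw [hcl']
  exact closure_minimal (singleton_subset_iff.2 (hzζ ▸ hξz.mem_closure)) isClosed_closure

include k hirr in
omit [X.Over (Spec (CommRingCat.of k))] [LocallyOfFiniteType (X ↘ Spec (CommRingCat.of k))] in
theorem denseRange : DenseRange f := by
  haveI : JacobsonSpace Y := LocallyOfFiniteType.jacobsonSpace (Y ↘ Spec (CommRingCat.of k))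
  refine Dense.mono (s₁ := closedPoints Y) (fun y hy => ?_) (dense_iff_closure_eq.2 closure_closedPoints)
  obtain ⟨x, hx⟩ := (hirr y hy).nonempty
  exact ⟨x, hx⟩

include k hf hirr hdim in
/-- Over an irreducible base exactly one component dominates. -/
theorem existsUnique_dominant [NoetherianSpace X] [QuasiCompact f] [CompactSpace Y]
    [IrreducibleSpace Y] :
    ∃! ξ : X, (∀ y : X, y ⤳ ξ → y = ξ) ∧ f ξ = genericPoint Y := by
  classical
  haveI : LocallyOfFiniteType f :=
    have : LocallyOfFiniteType (f ≫ (Y ↘ (Spec (CommRingCat.of k)))) := hf ▸ inferInstance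
    locallyOfFiniteType_of_comp f (Y ↘ (Spec (CommRingCat.of k)))
  have hη : ∀ y : Y, y ⤳ genericPoint Y → y = genericPoint Y := fun y hy =>
    ((genericPoint_specializes y).antisymm hy).eq.symm
  obtain ⟨x, hx⟩ := FibreDim.exists_map_eq_of_maximal f (denseRange k f hirr) hη
  obtain ⟨ξ, hξx, hξ⟩ := FibreDim.exists_maximal_specializes x
  have hfξ : f ξ = genericPoint Y := hη _ (hx ▸ hξx.map f.continuous)
  refine ⟨ξ, ⟨hξ, hfξ⟩, fun ξ' hξ' => ?_⟩
  obtain ⟨hξ', hfξ'⟩ := hξ'
  by_contra hne
  haveI : IsLocallyNoetherian Y :=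
    LocallyOfFiniteType.isLocallyNoetherian (Y ↘ Spec (CommRingCat.of k))
  have hnot : ξ ∉ closure ({ξ'} : Set X) := fun h =>
    hne (hξ ξ' (specializes_iff_mem_closure.2 h))
  -- the image of `closure {ξ'}` contains a dense open
  have hconsX : IsConstructible (closure ({ξ'} : Set X)) :=
    Groth.L06.Constr.isConstructible_of_isClosed isClosed_closure
  obtain ⟨V, hV, hVne, hVsub⟩ := Groth.L06.Constr.exists_open_inter_subset'
    (f.isConstructible_image hconsX) (Z := univ) (IrreducibleSpace.isIrreducible_univ Y)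
    (Groth.L06.Constr.subset_closure_of_generic (η := genericPoint Y)
      (genericPoint_spec Y).def.ge ⟨ξ', subset_closure rfl, hfξ'⟩ trivial)
  have hηV : genericPoint Y ∈ V := ((genericPoint_spec Y).mem_open_set_iff hV).2
    (by simpa using hVne)
  obtain ⟨x₁, ⟨⟨hx₁ξ, hx₁n⟩, hx₁V⟩, hx₁c⟩ := exists_closed_mem k
    (S := closure {ξ} ∩ (closure ({ξ'} : Set X))ᶜ ∩ f ⁻¹' V)
    ⟨ξ, ⟨subset_closure rfl, hnot⟩, show f ξ ∈ V from hfξ ▸ hηV⟩
    (((isClosed_closure.isLocallyClosed).inter isClosed_closure.isOpen_compl.isLocallyClosed).inter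
      (hV.preimage f.continuous).isLocallyClosed)
  obtain ⟨z, hzξ', hfz⟩ := hVsub ⟨hx₁V, trivial⟩
  have hsub := (component k f hf d hirr hdim hξ').1 (f x₁) (isClosed_map k f hf hx₁c)
    ⟨z, hfz, hzξ'⟩
  exact hx₁n (hsub rfl)

include k hf hirr hdim in
/-- If there is only one component then it has dimension `d + dim Y`. -/
theorem dim_eq [NoetherianSpace X] [IrreducibleSpace Y] {ξ : X} (hξ : ∀ y : X, y ⤳ ξ → y = ξ)
    (hfξ : f ξ = genericPoint Y) :
    topologicalKrullDim (closure ({ξ} : Set X)) = d + topologicalKrullDim Y := by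
  rw [(component k f hf d hirr hdim hξ).2, hfξ, (genericPoint_spec Y).def]
  rw [(Homeomorph.Set.univ Y).isHomeomorph.topologicalKrullDim_eq]

end Groth.L22.FibreIrr
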