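import Groth.Agent.L22.Herbrand
import Mathlib.RingTheory.Ideal.AssociatedPrime.Finiteness
import Mathlib.RingTheory.KrullDimension.Module
import Mathlib.RingTheory.OrderOfVanishing.Basic
import Mathlib.RingTheory.Support
import Mathlib.Algebra.Module.LocalizedModule.Exact
import Mathlib.RingTheory.Localization.AtPrime.Basic

/-!
The length of `M/xM` in dimension one as a sum over the primes of the support.
-/

universe u

namespace Groth.L22.QuotLength

open IsLocalRing

variable {R : Type u} [CommRing R] [IsNoetherianRing R] [IsLocalRing R]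

theorem length_residue : Module.length R (R ⧸ maximalIdeal R) = 1 := by
  haveI : IsSimpleModule R (R ⧸ maximalIdeal R) :=
    isSimpleModule_iff_quot_maximal.2 ⟨maximalIdeal R, maximalIdeal.isMaximal R, ⟨LinearEquiv.refl _ _⟩⟩
  exact Module.length_eq_one R _

theorem length_ne_top_of_support (M : Type u) [AddCommGroup M] [Module R M] [hM : Module.Finite R M]
    (h : ∀ p ∈ Module.support R M, p.asIdeal = maximalIdeal R) : Module.length R M ≠ ⊤ := by
  revert h
  induction hM using IsNoetherianRing.induction_on_isQuotientEquivQuotientPrime R with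
  | subsingleton N => intro _; simp
  | quotient N p e =>
    intro h
    have hp : p.asIdeal = maximalIdeal R := h p (by
      rw [LinearEquiv.support_eq e, Module.support_eq_zeroLocus, Ideal.annihilator_quotient]
      exact fun a ha => ha)
    rw [e.length_eq, hp, length_residue]
    simp
  | exact N₁ N₂ N₃ f g hf hg hfg h₁ h₃ =>
    intro h
    rw [Module.length_eq_add_of_exact f g hf hg hfg]
    simp [h₁ fun p hp => h p (Module.support_subset_of_injective f hf hp),
      h₃ fun p hp => h p (Module.support_subset_of_surjective g hg hp)]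

/-- The primes of the support other than the maximal ideal. -/
def supp' (M : Type u) [AddCommGroup M] [Module R M] : Set (PrimeSpectrum R) :=
  {p | p ∈ Module.support R M ∧ p.asIdeal ≠ maximalIdeal R}

/-- The length of the localization. -/
noncomputable def locLen (M : Type u) [AddCommGroup M] [Module R M] (p : PrimeSpectrum R) : ℕ∞ :=
  Module.length (Localization.AtPrime p.asIdeal) (LocalizedModule p.asIdeal.primeCompl M)

/-- The sum in the formula. -/
noncomputable def term (x : R) (M : Type u) [AddCommGroup M] [Module R M] (p : PrimeSpectrum R) :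
    ℕ∞ :=
  Ring.ord (R ⧸ p.asIdeal) (Ideal.Quotient.mk p.asIdeal x) * locLen M p

omit [IsNoetherianRing R] [IsLocalRing R] in
theorem locLen_eq_zero {M : Type u} [AddCommGroup M] [Module R M] {p : PrimeSpectrum R}
    (h : p ∉ Module.support R M) : locLen M p = 0 := by
  haveI := (Module.notMem_support_iff (R := R)).1 h
  exact Module.length_eq_zero

omit [IsNoetherianRing R] [IsLocalRing R] in
theorem locLen_add {N₁ N₂ N₃ : Type u} [AddCommGroup N₁] [Module R N₁] [AddCommGroup N₂]
    [Module R N₂] [AddCommGroup N₃] [Module R N₃] (f : N₁ →ₗ[R] N₂) (g : N₂ →ₗ[R] N₃)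
    (hf : Function.Injective f) (hg : Function.Surjective g) (hfg : Function.Exact f g)
    (p : PrimeSpectrum R) : locLen N₂ p = locLen N₁ p + locLen N₃ p :=
  Module.length_eq_add_of_exact (LocalizedModule.map p.asIdeal.primeCompl f)
    (LocalizedModule.map p.asIdeal.primeCompl g) (LocalizedModule.map_injective _ _ hf)
    (LocalizedModule.map_surjective _ _ hg) (LocalizedModule.map_exact _ f g hfg)

omit [IsNoetherianRing R] [IsLocalRing R] in
theorem locLen_quotient (p : PrimeSpectrum R) : locLen (R ⧸ p.asIdeal) p = 1 := by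
  let S := p.asIdeal.primeCompl
  let φ : Localization.AtPrime p.asIdeal →ₗ[Localization.AtPrime p.asIdeal]
      LocalizedModule p.asIdeal.primeCompl (R ⧸ p.asIdeal) :=
    LinearMap.toSpanSingleton _ _ (LocalizedModule.mk (S := p.asIdeal.primeCompl) (1 : R ⧸ p.asIdeal) 1)
  have hsurj : Function.Surjective φ := fun z => by
    induction z using LocalizedModule.induction_on with
    | _ m s =>
      obtain ⟨r, rfl⟩ := Ideal.Quotient.mk_surjective m
      refine ⟨Localization.mk r s, ?_⟩
      simp only [φ, LinearMap.toSpanSingleton_apply]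
      rw [LocalizedModule.mk_smul_mk, mul_one]
      congr 1
      rw [Algebra.smul_def, mul_one]
      rfl
  have hker : maximalIdeal (Localization.AtPrime p.asIdeal) ≤ LinearMap.ker φ := by
    intro z hz
    induction z using Localization.induction_on with
    | _ w =>
      obtain ⟨r, s⟩ := w
      rw [LinearMap.mem_ker]
      simp only [φ, LinearMap.toSpanSingleton_apply]
      have hr : r ∈ p.asIdeal := by
        rw [Localization.mk_eq_mk'] at hz; exact (IsLocalization.AtPrime.mk'_mem_maximal_iff (Localization.AtPrime p.asIdeal) p.asIdeal r s).1 hz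
      rw [LocalizedModule.mk_smul_mk, Algebra.smul_def, mul_one,
        show algebraMap R (R ⧸ p.asIdeal) r = 0 from Ideal.Quotient.eq_zero_iff_mem.2 hr,
        LocalizedModule.zero_mk]
  have hne : LinearMap.ker φ ≠ ⊤ := fun h => by
    have hmem : p ∈ Module.support R (R ⧸ p.asIdeal) := by
      rw [Module.support_eq_zeroLocus, Ideal.annihilator_quotient]
      exact fun a ha => ha
    haveI := (Module.mem_support_iff (R := R)).1 hmem
    refine not_subsingleton (LocalizedModule p.asIdeal.primeCompl (R ⧸ p.asIdeal)) ?_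
    refine ⟨fun a b => ?_⟩
    obtain ⟨a, rfl⟩ := hsurj a
    obtain ⟨b, rfl⟩ := hsurj b
    rw [LinearMap.ker_eq_top.1 h]
    simp
  have heq : LinearMap.ker φ = maximalIdeal (Localization.AtPrime p.asIdeal) :=
    ((maximalIdeal.isMaximal _).eq_of_le hne hker).symm
  rw [locLen, ← (φ.quotKerEquivOfSurjective hsurj).length_eq,
    (Submodule.quotEquivOfEq _ _ heq).length_eq]
  haveI : IsSimpleModule (Localization.AtPrime p.asIdeal)
      (Localization.AtPrime p.asIdeal ⧸ maximalIdeal (Localization.AtPrime p.asIdeal)) :=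
    isSimpleModule_iff_quot_maximal.2 ⟨_, maximalIdeal.isMaximal _, ⟨LinearEquiv.refl _ _⟩⟩
  exact Module.length_eq_one _ _

theorem isMin_of_mem_supp' {M : Type u} [AddCommGroup M] [Module R M]
    (h1 : Module.supportDim R M ≤ 1) {p : PrimeSpectrum R} (hp : p ∈ supp' M)
    {q : PrimeSpectrum R} (hq : q ∈ Module.support R M) (hqp : q ≤ p) : q = p := by
  by_contra hne
  let m : PrimeSpectrum R := closedPoint R
  have hm : m ∈ Module.support R M := Module.mem_support_mono (le_maximalIdeal p.2.ne_top) hp.1
  have hpm : p < m := lt_of_le_of_ne (le_maximalIdeal p.2.ne_top)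
    fun h => hp.2 (congrArg PrimeSpectrum.asIdeal h)
  let a : Module.support R M := ⟨q, hq⟩
  let b : Module.support R M := ⟨p, hp.1⟩
  let c : Module.support R M := ⟨m, hm⟩
  have hab : a < b := lt_of_le_of_ne hqp fun h => hne (congrArg Subtype.val h)
  have hbc : b < c := hpm
  let s : LTSeries (Module.support R M) :=
    ((RelSeries.singleton _ a).snoc b hab).snoc c (by rw [RelSeries.last_snoc]; exact hbc)
  have h2 : ((2 : ℕ) : WithBot ℕ∞) ≤ 1 :=
    (Order.LTSeries.length_le_krullDim s).trans h1
  norm_cast at h2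

theorem finite_supp' (M : Type u) [AddCommGroup M] [Module R M] [Module.Finite R M]
    (h1 : Module.supportDim R M ≤ 1) : (supp' (R := R) M).Finite := by
  refine Set.Finite.of_finite_image (f := PrimeSpectrum.asIdeal) ?_
    fun a _ b _ h => PrimeSpectrum.ext h
  refine (Module.annihilator R M).finite_minimalPrimes_of_isNoetherianRing.subset ?_
  rintro _ ⟨p, hp, rfl⟩
  have hann : ∀ q : PrimeSpectrum R, q ∈ Module.support R M ↔ Module.annihilator R M ≤ q.asIdeal :=
    fun q => by rw [Module.support_eq_zeroLocus]; rfl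
  refine ⟨⟨p.2, (hann p).1 hp.1⟩, fun J hJ hle => ?_⟩
  exact (congrArg PrimeSpectrum.asIdeal
    (isMin_of_mem_supp' h1 hp (q := ⟨J, hJ.1⟩) ((hann _).2 hJ.2) hle)).ge

omit [IsNoetherianRing R] [IsLocalRing R] in
theorem locLen_congr {N N' : Type u} [AddCommGroup N] [Module R N] [AddCommGroup N'] [Module R N']
    (e : N ≃ₗ[R] N') (p : PrimeSpectrum R) : locLen N p = locLen N' p :=
  (LinearEquiv.ofBijective (LocalizedModule.map p.asIdeal.primeCompl e.toLinearMap)
    ⟨LocalizedModule.map_injective _ _ e.injective,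
      LocalizedModule.map_surjective _ _ e.surjective⟩).length_eq

theorem length_ker_lsmul (N : Type u) [AddCommGroup N] [Module R N] (x : R) :
    Module.length R (CycAlg.perH (LinearMap.lsmul R N x) (0 : N →ₗ[R] N)) =
      Module.length R (LinearMap.ker (LinearMap.lsmul R N x)) :=
  (Submodule.quotEquivOfEqBot _ (by
    rw [eq_bot_iff]
    intro a ha
    obtain ⟨b, hb⟩ := Submodule.mem_comap.1 ha
    exact (Submodule.mem_bot _).2 (Subtype.ext hb.symm))).length_eq

theorem length_coker_lsmul (N : Type u) [AddCommGroup N] [Module R N] (x : R) :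
    Module.length R (CycAlg.perH (0 : N →ₗ[R] N) (LinearMap.lsmul R N x)) =
      Module.length R (N ⧸ LinearMap.range (LinearMap.lsmul R N x)) :=
  (Submodule.Quotient.equiv _ _ ((LinearEquiv.ofEq _ _ LinearMap.ker_zero).trans Submodule.topEquiv)
    (by
      ext a
      constructor
      · rintro ⟨b, hb, rfl⟩
        exact hb
      · intro ha
        exact ⟨⟨a, rfl⟩, ha, rfl⟩)).length_eq

theorem length_ker_ne_top (N : Type u) [AddCommGroup N] [Module R N] [Module.Finite R N] (x : R)
    (h0 : ∀ p ∈ Module.support R N, x ∈ p.asIdeal → p.asIdeal = maximalIdeal R) :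
    Module.length R (LinearMap.ker (LinearMap.lsmul R N x)) ≠ ⊤ ∧
      Module.length R (N ⧸ LinearMap.range (LinearMap.lsmul R N x)) ≠ ⊤ := by
  constructor
  · refine length_ne_top_of_support _ fun p hp => h0 p
      (Module.support_subset_of_injective _ (Submodule.injective_subtype _) hp) ?_
    rw [Module.support_eq_zeroLocus] at hp
    exact hp (Module.mem_annihilator.2 fun m => Subtype.ext (LinearMap.mem_ker.1 m.2))
  · refine length_ne_top_of_support _ fun p hp => h0 p
      (Module.support_subset_of_surjective _ (Submodule.mkQ_surjective _) hp) ?_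
    rw [Module.support_eq_zeroLocus] at hp
    refine hp (Module.mem_annihilator.2 fun m => ?_)
    obtain ⟨m, rfl⟩ := Submodule.Quotient.mk_surjective _ m
    rw [← Submodule.Quotient.mk_smul, Submodule.Quotient.mk_eq_zero]
    exact ⟨m, rfl⟩

/-- `length (M/xM) = length (ker x) + Σ_p ord_{R/p}(x) · length (M_p)`. -/
theorem length_quot_eq (M : Type u) [AddCommGroup M] [Module R M] [hM : Module.Finite R M] (x : R)
    (h1 : Module.supportDim R M ≤ 1)
    (h0 : ∀ p ∈ Module.support R M, x ∈ p.asIdeal → p.asIdeal = maximalIdeal R) :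
    Module.length R (M ⧸ LinearMap.range (LinearMap.lsmul R M x)) =
      Module.length R (LinearMap.ker (LinearMap.lsmul R M x)) +
        ∑ᶠ p ∈ supp' (R := R) M, term x M p := by
  revert h1 h0
  induction hM using IsNoetherianRing.induction_on_isQuotientEquivQuotientPrime R with
  | subsingleton N =>
    intro _ _
    have : supp' (R := R) N = ∅ := by
      ext p; simp [supp', Module.support_eq_empty]
    simp [this]
  | quotient N q e =>
    intro h1 h0
    have hs : Module.support R N = PrimeSpectrum.zeroLocus (q.asIdeal : Set R) := by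
      rw [LinearEquiv.support_eq e, Module.support_eq_zeroLocus, Ideal.annihilator_quotient]
    have hqs : q ∈ Module.support R N := by rw [hs]; exact fun a ha => ha
    have ecomm : ∀ z : N, e (x • z) = Ideal.Quotient.mk q.asIdeal x * e z := fun z => by
      rw [map_smul]; rfl
    by_cases hqm : q.asIdeal = maximalIdeal R
    · have hempty : supp' (R := R) N = ∅ := by
        ext p
        simp only [supp', Set.mem_setOf_eq, Set.mem_empty_iff_false, iff_false, not_and, not_not, hs]
        intro hp
        exact le_antisymm (le_maximalIdeal p.2.ne_top) (hqm ▸ hp)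
      rw [hempty]
      simp only [finsum_mem_empty, add_zero]
      by_cases hx : x ∈ q.asIdeal
      · have hz : LinearMap.lsmul R N x = 0 := by
          ext z
          refine e.injective ?_
          show e (x • z) = e 0
          rw [ecomm, Ideal.Quotient.eq_zero_iff_mem.2 hx, zero_mul, map_zero]
        rw [hz, LinearMap.range_zero, LinearMap.ker_zero,
          (Submodule.quotEquivOfEqBot (⊥ : Submodule R N) rfl).length_eq, Module.length_top]
      · have hu : IsUnit x := by
          rw [hqm] at hx
          exact not_not.1 hx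
        have hb : Function.Bijective (LinearMap.lsmul R N x) :=
          (Module.End.isUnit_iff _).1 (hu.map (algebraMap R (Module.End R N)))
        rw [LinearMap.range_eq_top.2 hb.2, LinearMap.ker_eq_bot.2 hb.1]
        simp
    · have hx : x ∉ q.asIdeal := fun h => hqm (h0 q hqs h)
      have hxne : Ideal.Quotient.mk q.asIdeal x ≠ 0 :=
        fun h => hx (Ideal.Quotient.eq_zero_iff_mem.1 h)
      have hker : LinearMap.ker (LinearMap.lsmul R N x) = ⊥ := by
        rw [eq_bot_iff]
        intro z hz
        have h2 : Ideal.Quotient.mk q.asIdeal x * e z = 0 := by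
          rw [← ecomm, show x • z = 0 from hz, map_zero]
        exact (Submodule.mem_bot _).2
          ((map_eq_zero_iff _ e.injective).1 ((mul_eq_zero.1 h2).resolve_left hxne))
      have hsupp : supp' (R := R) N = {q} := by
        ext p
        refine ⟨fun hp => ?_, fun hp => by rw [Set.mem_singleton_iff.1 hp]; exact ⟨hqs, hqm⟩⟩
        have hqp : q ≤ p := by
          have := hp.1
          rw [hs] at this
          exact this
        exact (isMin_of_mem_supp' h1 hp hqs hqp).symm
      rw [hker, hsupp, finsum_mem_singleton, term, locLen_congr e q, locLen_quotient, mul_one,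
        Module.length_bot, zero_add]
      let e' : (N ⧸ LinearMap.range (LinearMap.lsmul R N x)) ≃ₗ[R]
          ((R ⧸ q.asIdeal) ⧸ (Ideal.span {Ideal.Quotient.mk q.asIdeal x}).restrictScalars R) :=
        Submodule.Quotient.equiv _ _ e (by
          ext z
          constructor
          · rintro ⟨_, ⟨w, rfl⟩, rfl⟩
            exact Ideal.mem_span_singleton'.2 ⟨e w, by rw [mul_comm]; exact (ecomm w).symm⟩
          · intro hz
            obtain ⟨w, rfl⟩ := Ideal.mem_span_singleton'.1 hz
            exact ⟨x • e.symm w, ⟨e.symm w, rfl⟩, by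
              show e (x • e.symm w) = _
              rw [ecomm, e.apply_symm_apply, mul_comm]⟩)
      rw [e'.length_eq, Ring.ord, (Submodule.Quotient.restrictScalarsEquiv R
          (Ideal.span {Ideal.Quotient.mk q.asIdeal x})).length_eq]
      exact Module.length_eq_of_surjective (R := R ⧸ q.asIdeal) (S := R) Ideal.Quotient.mk_surjective
  | exact N₁ N₂ N₃ f g hf hg hfg h₁ h₃ =>
    intro h1 h0
    have s₁ := Module.support_subset_of_injective f hf
    have s₃ := Module.support_subset_of_surjective g hg
    have d₁ := (Module.supportDim_le_of_injective f hf).trans h1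
    have d₃ := (Module.supportDim_le_of_surjective g hg).trans h1
    have k₁ := h₁ d₁ fun p hp => h0 p (s₁ hp)
    have k₃ := h₃ d₃ fun p hp => h0 p (s₃ hp)
    obtain ⟨a₁, c₁⟩ := length_ker_ne_top N₁ x fun p hp => h0 p (s₁ hp)
    obtain ⟨a₂, c₂⟩ := length_ker_ne_top N₂ x h0
    obtain ⟨a₃, c₃⟩ := length_ker_ne_top N₃ x fun p hp => h0 p (s₃ hp)
    have fin : ∀ (N : Type u) [AddCommGroup N] [Module R N],
        Module.length R (LinearMap.ker (LinearMap.lsmul R N x)) ≠ ⊤ →
        Module.length R (N ⧸ LinearMap.range (LinearMap.lsmul R N x)) ≠ ⊤ →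
        CycAlg.FinCoh R (LinearMap.lsmul R N x) (0 : N →ₗ[R] N) := fun N _ _ a c =>
      ⟨by rw [length_ker_lsmul]; exact a.lt_top, by rw [length_coker_lsmul]; exact c.lt_top⟩
    have key := (Groth.L22.herbrand_shortExact (LinearMap.lsmul R N₁ x) 0 (LinearMap.lsmul R N₂ x) 0
      (LinearMap.lsmul R N₃ x) 0 ⟨LinearMap.comp_zero _, LinearMap.zero_comp _⟩ f f g g
      (by ext z; simp) (by simp) (by ext z; simp) (by simp) hf hf hg hg
      (LinearMap.exact_iff.1 hfg).symm (LinearMap.exact_iff.1 hfg).symm
      (Or.inl ⟨fin N₁ a₁ c₁, fin N₂ a₂ c₂⟩)).2.2.2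
    simp only [CycAlg.herbrand, length_ker_lsmul, length_coker_lsmul] at key
    have hsum : ∑ᶠ p ∈ supp' (R := R) N₂, term x N₂ p =
        (∑ᶠ p ∈ supp' (R := R) N₁, term x N₁ p) + ∑ᶠ p ∈ supp' (R := R) N₃, term x N₃ p := by
      have hf2 := finite_supp' N₂ h1
      have hz : ∀ (N : Type u) [AddCommGroup N] [Module R N],
          Module.support R N ⊆ Module.support R N₂ →
          ∑ᶠ p ∈ supp' (R := R) N, term x N p = ∑ᶠ p ∈ supp' (R := R) N₂, term x N p :=
        fun N _ _ hN => finsum_mem_inter_support_eq' _ _ _ fun p hp => by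
          refine ⟨fun h => ⟨hN h.1, h.2⟩, fun h => ⟨?_, h.2⟩⟩
          by_contra h'
          exact hp (by rw [term, locLen_eq_zero h', mul_zero])
      rw [hz N₁ s₁, hz N₃ s₃, ← finsum_mem_add_distrib hf2]
      refine finsum_mem_congr rfl fun p _ => ?_
      rw [term, term, term, locLen_add f g hf hg hfg, mul_add]
    rw [hsum]
    obtain ⟨A₁, hA₁⟩ := ENat.ne_top_iff_exists.1 a₁
    obtain ⟨A₂, hA₂⟩ := ENat.ne_top_iff_exists.1 a₂
    obtain ⟨A₃, hA₃⟩ := ENat.ne_top_iff_exists.1 a₃
    obtain ⟨C₁, hC₁⟩ := ENat.ne_top_iff_exists.1 c₁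
    obtain ⟨C₂, hC₂⟩ := ENat.ne_top_iff_exists.1 c₂
    obtain ⟨C₃, hC₃⟩ := ENat.ne_top_iff_exists.1 c₃
    rw [← hA₁, ← hC₁] at k₁
    rw [← hA₃, ← hC₃] at k₃
    rw [← hA₁, ← hA₂, ← hA₃, ← hC₁, ← hC₂, ← hC₃] at key
    simp only [ENat.toNat_natCast] at key
    obtain ⟨T₁, hT₁⟩ := ENat.ne_top_iff_exists.1 (show (∑ᶠ p ∈ supp' (R := R) N₁, term x N₁ p) ≠ ⊤ from
      fun h => by rw [h, add_top] at k₁; exact ENat.natCast_ne_top _ k₁)
    obtain ⟨T₃, hT₃⟩ := ENat.ne_top_iff_exists.1 (show (∑ᶠ p ∈ supp' (R := R) N₃, term x N₃ p) ≠ ⊤ from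
      fun h => by rw [h, add_top] at k₃; exact ENat.natCast_ne_top _ k₃)
    rw [← hT₁] at k₁ ⊢
    rw [← hT₃] at k₃ ⊢
    rw [← hA₂, ← hC₂]
    norm_cast at k₁ k₃ ⊢
    omega

end Groth.L22.QuotLength
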