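import Groth.Agent.L22.Ideal
import Mathlib.AlgebraicGeometry.Morphisms.Flat
import Mathlib.RingTheory.Flat.TorsionFree

/-!
Flat morphisms pull effective Cartier ideals back to effective Cartier ideals.
-/

universe u

open CategoryTheory AlgebraicGeometry TopologicalSpace Opposite

namespace Groth.L22.Ideals

variable {X Y : Scheme.{u}}

theorem map_mem_nonZeroDivisors_of_flat {A B : Type*} [CommRing A] [CommRing B] {φ : A →+* B}
    (hφ : φ.Flat) {a : A} (ha : a ∈ nonZeroDivisors A) : φ a ∈ nonZeroDivisors B := by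
  algebraize [φ]
  rw [mem_nonZeroDivisors_iff_right]
  intro b hb
  refine Module.Flat.isSMulRegular_of_nonZeroDivisors (M := B) ha ?_
  simp only [smul_zero]
  rw [Algebra.smul_def, mul_comm]
  exact hb

theorem isEffCartier_comap_of_flat (f : X ⟶ Y) [Flat f] {I : Y.IdealSheafData}
    (hI : BlowUp.IsEffCartierIdeal I) : BlowUp.IsEffCartierIdeal (I.comap f) := by
  intro x
  obtain ⟨U, hxU, t, ht, hIU, -⟩ := exists_generator hI (f x)
  obtain ⟨_, ⟨V, hV, rfl⟩, hxV, hVU⟩ := X.isBasis_affineOpens.exists_subset_of_mem_open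
    (a := x) (show x ∈ f ⁻¹ᵁ U.1 from hxU) (f ⁻¹ᵁ U.1).2
  exact ⟨⟨V, hV⟩, hxV, f.appLE U.1 V hVU t,
    map_mem_nonZeroDivisors_of_flat (f.flat_appLE U.2 hV hVU) ht,
    by rw [comap_ideal f I U ⟨V, hV⟩ hVU, hIU, Ideal.map_span, Set.image_singleton]⟩

end Groth.L22.Ideals
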