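import Mathlib.RingTheory.Length
import Mathlib.RingTheory.Ideal.AssociatedPrime.Finiteness
import Mathlib.RingTheory.KrullDimension.Module
import Mathlib.RingTheory.Support
import Mathlib.RingTheory.Ideal.Quotient.Basic
import Mathlib.RingTheory.SimpleModule.Basic

/-!
Finite modules over Noetherian rings supported at maximal ideals have finite length.
-/

universe u v

namespace Groth.L22

theorem length_lt_top_of_support_isMaximal {R : Type u} [CommRing R] [IsNoetherianRing R]
    {M : Type v} [AddCommGroup M] [Module R M] [Module.Finite R M]
    (h : ∀ p ∈ Module.support R M, p.asIdeal.IsMaximal) :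
    Module.length R M < ⊤ := by
  revert h
  induction ‹Module.Finite R M› using
    IsNoetherianRing.induction_on_isQuotientEquivQuotientPrime R with
  | subsingleton N =>
    intro _
    simp [Module.length_eq_zero]
  | quotient N p e =>
    intro h
    have hp : p ∈ Module.support R N := by
      rw [e.support_eq, Module.support_eq_zeroLocus, Ideal.annihilator_quotient]
      simp
    have := h p hp
    have hs : IsSimpleModule R (R ⧸ p.asIdeal) :=
      isSimpleModule_iff_isCoatom.2 this.out
    rw [e.length_eq, Module.length_eq_one]
    exact ENat.natCast_lt_top 1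
  | exact N₁ N₂ N₃ f g hf hg hfg ih₁ ih₃ =>
    intro h
    rw [Module.length_eq_add_of_exact f g hf hg hfg]
    exact WithTop.add_lt_top.2 ⟨ih₁ fun p hp => h p (Module.support_subset_of_injective f hf hp),
      ih₃ fun p hp => h p (Module.support_subset_of_surjective g hg hp)⟩

theorem length_lt_top_of_supportDim_le_zero {R : Type u} [CommRing R] [IsNoetherianRing R]
    [IsLocalRing R] {M : Type v} [AddCommGroup M] [Module R M] [Module.Finite R M]
    (h : Module.supportDim R M ≤ 0) : Module.length R M < ⊤ := by
  rcases subsingleton_or_nontrivial M with hM | hM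
  · simp [Module.length_eq_zero]
  · have h0 : Module.supportDim R M = 0 := by
      refine le_antisymm h ?_
      obtain ⟨n, hn⟩ := WithBot.ne_bot_iff_exists.1 (Module.supportDim_ne_bot_of_nontrivial R M)
      rw [← hn]
      exact_mod_cast (zero_le : (0:ℕ∞) ≤ n)
    apply length_lt_top_of_support_isMaximal
    intro p hp
    rw [support_of_supportDim_eq_zero R M h0, PrimeSpectrum.zeroLocus_eq_singleton] at hp
    rw [Set.mem_singleton_iff.1 hp]
    exact IsLocalRing.maximalIdeal.isMaximal R

end Groth.L22
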