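import Groth.Agent.L22.Ideal
import Groth.Prelude.Def_BlowUp2
import Mathlib.AlgebraicGeometry.Restrict
import Mathlib.AlgebraicGeometry.OpenImmersion

/-!
Formal consequences of the universal property of blowing up.
-/

universe u

open CategoryTheory CategoryTheory.Limits AlgebraicGeometry TopologicalSpace Opposite

namespace Groth.L22.Ideals

variable {X X' : Scheme.{u}} {I : X.IdealSheafData} {b : X' ⟶ X}

theorem isEffCartier_top : BlowUp.IsEffCartierIdeal (⊤ : X.IdealSheafData) := by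
  intro x
  obtain ⟨_, ⟨U, hU, rfl⟩, hxU, -⟩ :=
    X.isBasis_affineOpens.exists_subset_of_mem_open (Set.mem_univ x) isOpen_univ
  exact ⟨⟨U, hU⟩, hxU, 1, one_mem _, by
    rw [Ideal.span_singleton_one, Scheme.IdealSheafData.ideal_top]; rfl⟩

theorem comap_eq_top (I : X.IdealSheafData) (g : X' ⟶ X) (h : ∀ y, g y ∉ I.support) :
    I.comap g = ⊤ := by
  rw [← Scheme.IdealSheafData.support_eq_bot_iff, Scheme.IdealSheafData.support_comap]
  exact TopologicalSpace.Closeds.ext (Set.eq_empty_of_forall_notMem fun y => h y)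

/-- A blow-up is an isomorphism off its centre. -/
theorem isIso_restrict_compl (hb : BlowUp.IsBlowUp b I) : IsIso (b ∣_ I.support.compl) := by
  let C : X.Opens := I.support.compl
  change IsIso (b ∣_ C)
  have hC : ∀ {T : Scheme.{u}} (g : T ⟶ X) (g' : T ⟶ C.toScheme), g' ≫ C.ι = g →
      BlowUp.IsEffCartierIdeal (I.comap g) := by
    intro T g g' hg
    subst hg
    rw [comap_eq_top _ _ fun y => ?_]
    · exact isEffCartier_top
    · intro hy
      exact (g' y).2 hy
  obtain ⟨h, hh, -⟩ := hb.2 C.toScheme C.ι (hC _ (𝟙 _) (Category.id_comp _))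
  try simp only at hh
  have hrange : Set.range h ⊆ Set.range (b ⁻¹ᵁ C).ι := by
    rintro _ ⟨y, rfl⟩
    rw [Scheme.Opens.range_ι]
    change b (h y) ∈ C
    rw [← Scheme.Hom.comp_apply, hh]
    exact y.2
  let s := IsOpenImmersion.lift (b ⁻¹ᵁ C).ι h hrange
  have hs : s ≫ (b ⁻¹ᵁ C).ι = h := IsOpenImmersion.lift_fac _ _ _
  refine ⟨s, ?_, ?_⟩
  · rw [← cancel_mono (b ⁻¹ᵁ C).ι, Category.assoc, hs, Category.id_comp]
    refine (hb.2 _ ((b ∣_ C) ≫ C.ι) (hC _ (b ∣_ C) rfl)).unique ?_ ?_
    · simp only [Category.assoc, hh]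
    · exact (morphismRestrict_ι b C).symm
  · rw [← cancel_mono C.ι, Category.assoc, morphismRestrict_ι, reassoc_of% hs, hh,
      Category.id_comp]

theorem isIso_stalkMap (hb : BlowUp.IsBlowUp b I) (x : X') (hx : b x ∉ I.support) :
    IsIso (b.stalkMap x) := by
  haveI := isIso_restrict_compl hb
  have h : (MorphismProperty.isomorphisms CommRingCat.{u})
      ((b ∣_ I.support.compl).stalkMap ⟨x, hx⟩) := inferInstanceAs (IsIso _)
  exact ((MorphismProperty.isomorphisms CommRingCat.{u}).arrow_mk_iso_iff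
    (morphismRestrictStalkMap b I.support.compl ⟨x, hx⟩)).1 h

/-- A section over an affine open of `X'` vanishing at all points off the exceptional divisor is
zero. -/
theorem eq_zero_of_eq_zero_off_exceptional (hb : BlowUp.IsBlowUp b I) {V : X'.affineOpens}
    (s : Γ(X', V.1))
    (h : ∀ (x : X') (hx : x ∈ V.1), b x ∉ I.support → X'.presheaf.germ V.1 x hx s = 0) :
    s = 0 := by
  refine TopCat.Presheaf.section_ext X'.sheaf V.1 s 0 fun x hx => ?_
  change X'.presheaf.germ V.1 x hx s = X'.presheaf.germ V.1 x hx 0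
  rw [map_zero]
  obtain ⟨U, hxU, e, -, -, hU⟩ := exists_generator hb.1 x
  obtain ⟨_, ⟨W, hW, rfl⟩, hxW, hWle⟩ := X'.isBasis_affineOpens.exists_subset_of_mem_open
    (show x ∈ V.1 ⊓ U.1 from ⟨hx, hxU⟩) (V.1 ⊓ U.1).2
  have hWV : W ≤ V.1 := fun y hy => (hWle hy).1
  have hWU : W ≤ U.1 := fun y hy => (hWle hy).2
  obtain ⟨he, heI⟩ := hU ⟨W, hW⟩ hWU
  have hzero : X'.presheaf.map (homOfLE hWV).op s = 0 := by
    refine Mero.eq_zero_of_germ_eq_zero hW (Mero.mem_regSub_of_mem_nonZeroDivisors hW he) _ ?_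
    intro y hy hu
    rw [TopCat.Presheaf.germ_res_apply]
    refine h y (hWV hy) fun hmem => ?_
    have hmem' : y ∈ (I.comap b).support := by
      rw [Scheme.IdealSheafData.support_comap]; exact hmem
    rw [Scheme.IdealSheafData.mem_support_iff_of_mem (U := ⟨W, hW⟩) hy, heI,
      Scheme.zeroLocus_span, Scheme.zeroLocus_singleton] at hmem'
    exact hmem' ((X'.mem_basicOpen _ y hy).2 hu)
  have := congrArg (X'.presheaf.germ W x hxW) hzero
  rwa [map_zero, TopCat.Presheaf.germ_res_apply] at this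

/-- The inverse image of an effective Cartier ideal under a blow-up is effective Cartier. -/
theorem isEffCartier_comap (hb : BlowUp.IsBlowUp b I) {D : X.IdealSheafData}
    (hD : BlowUp.IsEffCartierIdeal D) : BlowUp.IsEffCartierIdeal (D.comap b) := by
  intro x
  obtain ⟨U, hxU, f, hf, hDU, -⟩ := exists_generator hD (b x)
  obtain ⟨_, ⟨V, hV, rfl⟩, hxV, hVU⟩ := X'.isBasis_affineOpens.exists_subset_of_mem_open
    (a := x) (show x ∈ b ⁻¹ᵁ U.1 from hxU) (b ⁻¹ᵁ U.1).2
  refine ⟨⟨V, hV⟩, hxV, b.appLE U.1 V hVU f, ?_, ?_⟩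
  · rw [mem_nonZeroDivisors_iff_right]
    intro a ha
    refine eq_zero_of_eq_zero_off_exceptional hb (V := ⟨V, hV⟩) a fun y hy hyI => ?_
    haveI := isIso_stalkMap hb y hyI
    have hgerm : X'.presheaf.germ V y hy (b.appLE U.1 V hVU f) ∈
        nonZeroDivisors (X'.presheaf.stalk y) := by
      have h1 : X'.presheaf.germ V y hy (b.appLE U.1 V hVU f) =
          b.stalkMap y (X.presheaf.germ U.1 (b y) (hVU hy) f) := by
        rw [Scheme.Hom.germ_stalkMap_apply, Scheme.Hom.appLE]
        change X'.presheaf.germ V y hy (X'.presheaf.map _ (b.app U.1 f)) = _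
        rw [TopCat.Presheaf.germ_res_apply]
      rw [h1]
      have hreg := Mero.mem_regSub_of_mem_nonZeroDivisors U.2 hf ⟨b y, hVU hy⟩
      rw [mem_nonZeroDivisors_iff_right] at hreg ⊢
      intro c hc
      let e := (asIso (b.stalkMap y)).commRingCatIsoToRingEquiv
      obtain ⟨c, rfl⟩ := e.surjective c
      change e c * e _ = 0 at hc
      rw [← map_mul, e.map_eq_zero_iff] at hc
      rw [hreg c hc, map_zero]
    have h2 := congrArg (X'.presheaf.germ V y hy) ha
    rw [map_mul, map_zero] at h2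
    exact hgerm.2 _ h2
  · rw [comap_ideal b D U ⟨V, hV⟩ hVU, hDU, Ideal.map_span, Set.image_singleton]

end Groth.L22.Ideals
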