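import Groth.Agent.L22.LocalDim
import Groth.Agent.L22.Ideal
import Mathlib.RingTheory.Ideal.Colon
import Mathlib.AlgebraicGeometry.IdealSheaf.Subscheme
import Mathlib.RingTheory.Nakayama

/-!
Splitting off integral effective Cartier divisors from a closed subscheme.
-/

universe u v

open CategoryTheory AlgebraicGeometry TopologicalSpace Opposite

namespace Groth.L22.CartierDecomp

/-- Colon ideals by finitely generated ideals commute with localisation. -/
theorem map_colon {A B : Type u} [CommRing A] [CommRing B] [Algebra A B] (M : Submonoid A)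
    [IsLocalization M B] (I D : Ideal A) (hD : D.FG) :
    (Submodule.colon I (D : Set A)).map (algebraMap A B) =
      Submodule.colon (I.map (algebraMap A B)) ((D.map (algebraMap A B) : Ideal B) : Set B) := by
  classical
  refine le_antisymm (Ideal.map_le_iff_le_comap.2 fun a ha => ?_) fun b hb => ?_
  · rw [Ideal.mem_comap, Submodule.mem_colon]
    intro d hd
    rw [SetLike.mem_coe] at hd
    induction hd using Submodule.span_induction with
    | mem d hd =>
      obtain ⟨c, hc, rfl⟩ := hd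
      rw [smul_eq_mul, ← map_mul]
      exact Ideal.mem_map_of_mem _ (Submodule.mem_colon.1 ha c hc)
    | zero => simp
    | add x y _ _ hx hy => rw [smul_add]; exact add_mem hx hy
    | smul r x _ hx => rw [smul_comm]; exact Submodule.smul_mem _ r hx
  · obtain ⟨⟨a, s⟩, rfl⟩ := IsLocalization.mk'_surjective M b
    obtain ⟨T, hT⟩ := hD
    have key : ∀ d ∈ T, ∃ t : A, t ∈ M ∧ t * (a * d) ∈ I := by
      intro d hd
      have h := Submodule.mem_colon.1 hb (algebraMap A B d)
        (Ideal.mem_map_of_mem _ (hT ▸ Submodule.subset_span hd))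
      have h' : algebraMap A B (a * d) ∈ I.map (algebraMap A B) := by
        have := Ideal.mul_mem_left _ (algebraMap A B s) h
        rwa [smul_eq_mul, ← mul_assoc, IsLocalization.mk'_spec', ← map_mul] at this
      obtain ⟨⟨⟨i, hi⟩, t⟩, hit⟩ := (IsLocalization.mem_map_algebraMap_iff M B).1 h'
      rw [← map_mul, IsLocalization.eq_iff_exists M B] at hit
      obtain ⟨v, hv⟩ := hit
      refine ⟨v * t, M.mul_mem v.2 t.2, ?_⟩
      rw [show (v : A) * t * (a * d) = v * (a * d * t) by ring, hv]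
      exact Ideal.mul_mem_left _ _ hi
    choose! t htM ht using key
    have hP : (∏ d ∈ T, t d) * a ∈ Submodule.colon I (D : Set A) := by
      rw [Submodule.mem_colon]
      intro d hd
      rw [← hT, SetLike.mem_coe] at hd
      induction hd using Submodule.span_induction with
      | mem d hd =>
        obtain ⟨c, hc⟩ := Finset.dvd_prod_of_mem t hd
        rw [smul_eq_mul, hc, show t d * c * a * d = c * (t d * (a * d)) by ring]
        exact Ideal.mul_mem_left _ _ (ht d hd)
      | zero => simp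
      | add x y _ _ hx hy => rw [smul_add]; exact add_mem hx hy
      | smul r x _ hx => rw [smul_comm]; exact Submodule.smul_mem _ r hx
    let P : M := ⟨∏ d ∈ T, t d, prod_mem fun d hd => htM d hd⟩
    have hu : IsUnit (algebraMap A B P) := IsLocalization.map_units B P
    refine (Ideal.unit_mul_mem_iff_mem _ hu).1 ?_
    rw [IsLocalization.mul_mk'_eq_mk'_of_mul, IsLocalization.mk'_mem_iff]
    exact Ideal.mem_map_of_mem _ hP

variable {X : Scheme.{u}}

theorem fg_ideal [IsLocallyNoetherian X] (D : X.IdealSheafData) (U : X.affineOpens) :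
    (D.ideal U).FG := by
  haveI : IsNoetherianRing Γ(X, U.1) := IsLocallyNoetherian.component_noetherian U
  exact IsNoetherian.noetherian _

/-- The colon ideal sheaf. -/
noncomputable def colon [IsLocallyNoetherian X] (I D : X.IdealSheafData) : X.IdealSheafData where
  ideal U := Submodule.colon (I.ideal U) (D.ideal U : Set Γ(X, U.1))
  map_ideal_basicOpen U f := by
    haveI := U.2.isLocalization_basicOpen f
    rw [← I.map_ideal_basicOpen U f, ← D.map_ideal_basicOpen U f]
    exact map_colon (Submonoid.powers f) _ _ (fg_ideal D U)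

theorem colon_ideal [IsLocallyNoetherian X] (I D : X.IdealSheafData) (U : X.affineOpens) :
    (colon I D).ideal U = Submodule.colon (I.ideal U) (D.ideal U : Set Γ(X, U.1)) := rfl

theorem le_colon [IsLocallyNoetherian X] (I D : X.IdealSheafData) : I ≤ colon I D :=
  fun U a ha => Submodule.mem_colon.2 fun d _ => Ideal.mul_mem_right _ _ ha

theorem mul_colon [IsLocallyNoetherian X] {I D : X.IdealSheafData}
    (hD : BlowUp.IsEffCartierIdeal D) (hle : I ≤ D) : D * colon I D = I := by
  choose U hxU f hf hU using hD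
  refine Scheme.IdealSheafData.ext_of_iSup_eq_top U
    (eq_top_iff.2 fun x _ => Opens.mem_iSup.2 ⟨x, hxU x⟩) fun x => ?_
  rw [Scheme.IdealSheafData.ideal_mul, Pi.mul_apply, colon_ideal]
  refine le_antisymm (Ideal.mul_le.2 fun a ha b hb => ?_) fun a ha => ?_
  · rw [mul_comm]
    exact Submodule.mem_colon.1 hb a ha
  · obtain ⟨c, rfl⟩ := Ideal.mem_span_singleton'.1 (hU x ▸ hle (U x) ha)
    rw [mul_comm c]
    refine Ideal.mul_mem_mul ((hU x).symm ▸ Ideal.mem_span_singleton_self _) ?_
    rw [Submodule.mem_colon]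
    intro d hd
    obtain ⟨e, rfl⟩ := Ideal.mem_span_singleton'.1 (hU x ▸ hd)
    rw [smul_eq_mul, show c * (e * f x) = e * (c * f x) by ring]
    exact Ideal.mul_mem_left _ _ ha

theorem wellFoundedGT [IsNoetherian X] : WellFoundedGT X.IdealSheafData := by
  choose U hxU using fun x : X =>
    show ∃ U : X.affineOpens, x ∈ U.1 from by
      obtain ⟨_, ⟨W, hW, rfl⟩, hxW, -⟩ :=
        X.isBasis_affineOpens.exists_subset_of_mem_open (Set.mem_univ x) isOpen_univ
      exact ⟨⟨W, hW⟩, hxW⟩
  obtain ⟨s, hs⟩ := isCompact_univ.elim_finite_subcover (fun x : X => ((U x).1 : Set X))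
    (fun x => (U x).1.2) fun x _ => Set.mem_iUnion.2 ⟨x, hxU x⟩
  haveI : ∀ i : s, IsNoetherianRing Γ(X, (U i.1).1) := fun i =>
    IsLocallyNoetherian.component_noetherian _
  haveI : ∀ i : s, WellFoundedLT (Ideal Γ(X, (U i.1).1))ᵒᵈ := fun i => inferInstance
  haveI : WellFoundedGT (∀ i : s, Ideal Γ(X, (U i.1).1)) :=
    ⟨(Pi.wellFoundedLT (α := fun i : s => (Ideal Γ(X, (U i.1).1))ᵒᵈ)).wf⟩
  let F : X.IdealSheafData → ∀ i : s, Ideal Γ(X, (U i.1).1) := fun I i => I.ideal (U i.1)
  have hmono : StrictMono F := by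
    refine Monotone.strictMono_of_injective (fun I J h i => h (U i.1)) fun I J h => ?_
    refine Scheme.IdealSheafData.ext_of_iSup_eq_top (fun i : s => U i.1) ?_ (congrFun h)
    refine eq_top_iff.2 fun x _ => ?_
    obtain ⟨i, hi, hxi⟩ := Set.mem_iUnion₂.1 (hs (Set.mem_univ x))
    exact Opens.mem_iSup.2 ⟨⟨i, hi⟩, hxi⟩
  exact hmono.wellFoundedGT

theorem mem_support_iff {D : X.IdealSheafData} {U : X.affineOpens} {z : X} (hz : z ∈ U.1) :
    z ∈ (D.support : Set X) ↔ D.ideal U ≤ (U.2.primeIdealOf ⟨z, hz⟩).asIdeal := by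
  rw [SetLike.mem_coe, Scheme.IdealSheafData.mem_support_iff_of_mem (U := U) hz,
    Scheme.mem_zeroLocus_iff]
  constructor
  · intro h a ha
    by_contra hnot
    exact h a ha ((LocalDim.mem_basicOpen_iff U.2 hz a).2 hnot)
  · intro h a ha hz'
    exact (LocalDim.mem_basicOpen_iff U.2 hz a).1 hz' (h ha)

theorem ideal_eq_top {D : X.IdealSheafData} {U : X.affineOpens}
    (h : ∀ z ∈ U.1, z ∉ (D.support : Set X)) : D.ideal U = ⊤ := by
  by_contra hne
  obtain ⟨M, hM, hle⟩ := Ideal.exists_le_maximal _ hne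
  let q : Spec Γ(X, U.1) := ⟨M, hM.isPrime⟩
  have hz : U.2.fromSpec q ∈ U.1 := LocalDim.fromSpec_mem U.2 q
  exact h _ hz ((mem_support_iff hz).2 (by rw [LocalDim.primeIdealOf_fromSpec]; exact hle))

theorem exists_generic (D : X.IdealSheafData) [IsIntegral D.subscheme] :
    ∃ ξ : X, IsGenericPoint ξ (D.support : Set X) := by
  refine ⟨D.subschemeι (genericPoint D.subscheme), ?_⟩
  have h := (genericPoint_spec D.subscheme).image D.subschemeι.continuous
  rwa [Set.image_univ, D.range_subschemeι, D.support.isClosed.closure_eq] at h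

theorem primeIdealOf_generic {D : X.IdealSheafData} [IsIntegral D.subscheme] {ξ : X}
    (hξ : IsGenericPoint ξ (D.support : Set X)) (U : X.affineOpens) (hξU : ξ ∈ U.1) :
    (U.2.primeIdealOf ⟨ξ, hξU⟩).asIdeal = D.ideal U := by
  have hprime : (D.ideal U).IsPrime := by
    obtain ⟨z, hz⟩ : ξ ∈ Set.range D.subschemeι := by
      rw [D.range_subschemeι]; exact hξ.mem
    haveI : Nonempty (D.subschemeι ⁻¹ᵁ U.1 : D.subscheme.Opens) :=
      ⟨⟨z, show D.subschemeι z ∈ U.1 from hz ▸ hξU⟩⟩
    haveI : IsDomain Γ(D.subscheme, D.subschemeι ⁻¹ᵁ U.1) := inferInstance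
    haveI : IsDomain (Γ(X, U.1) ⧸ D.ideal U) :=
      (D.subschemeObjIso U).commRingCatIsoToRingEquiv.symm.toMulEquiv.isDomain
    exact (Ideal.Quotient.isDomain_iff_prime _).1 this
  have h := LocalDim.primeIdealOf_mem_minimalPrimes_ideal U hξU hξ.mem fun y hy hys =>
    (hys.antisymm (hξ.specializes hy)).eq
  exact le_antisymm (h.2 ⟨hprime, le_rfl⟩ h.1.2) h.1.2

/-- A closed subscheme containing the generic point of an integral one contains that subscheme. -/
theorem le_of_generic_mem {I D : X.IdealSheafData} [IsIntegral D.subscheme] {ξ : X}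
    (hξ : IsGenericPoint ξ (D.support : Set X)) (hmem : ξ ∈ (I.support : Set X)) : I ≤ D := by
  intro U
  by_cases h : ∃ z ∈ U.1, z ∈ (D.support : Set X)
  · obtain ⟨z, hzU, hz⟩ := h
    have hξU : ξ ∈ U.1 := (hξ.specializes hz).mem_open U.1.2 hzU
    rw [← primeIdealOf_generic hξ U hξU]
    exact (mem_support_iff hξU).1 hmem
  · push Not at h
    rw [ideal_eq_top h]
    exact le_top

theorem succ_dim_le {y z : X} (h : y ⤳ z) (hne : y ≠ z) :
    ringKrullDim (X.presheaf.stalk y) + 1 ≤ ringKrullDim (X.presheaf.stalk z) := by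
  obtain ⟨_, ⟨W, hW, rfl⟩, hzW, -⟩ :=
    X.isBasis_affineOpens.exists_subset_of_mem_open (Set.mem_univ z) isOpen_univ
  change X.Opens at W
  replace hW : IsAffineOpen W := hW
  have hyW : y ∈ W := h.mem_open W.2 hzW
  rw [LocalDim.dim_stalk_eq_height hW hzW, LocalDim.dim_stalk_eq_height hW hyW]
  have hlt : (hW.primeIdealOf ⟨y, hyW⟩).asIdeal < (hW.primeIdealOf ⟨z, hzW⟩).asIdeal := by
    refine lt_of_le_of_ne (LocalDim.le_of_specializes hW hyW hzW h) fun e => hne ?_
    rw [← LocalDim.fromSpec_prime hW hyW, ← LocalDim.fromSpec_prime hW hzW, PrimeSpectrum.ext e]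
  exact_mod_cast Ideal.height_add_one_le_of_lt_of_isPrime hlt

theorem dim_le_of_specializes {y z : X} (h : y ⤳ z) :
    ringKrullDim (X.presheaf.stalk y) ≤ ringKrullDim (X.presheaf.stalk z) := by
  rcases eq_or_ne y z with rfl | hne
  · exact le_rfl
  · exact (le_add_of_nonneg_right zero_le_one).trans (succ_dim_le h hne)

theorem dim_generic_eq_one [IsLocallyNoetherian X] {D : X.IdealSheafData}
    (hD : BlowUp.IsEffCartierIdeal D) {ξ : X} (hξ : IsGenericPoint ξ (D.support : Set X)) :
    ringKrullDim (X.presheaf.stalk ξ) = 1 := by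
  refine le_antisymm (LocalDim.dim_le_one_of_locPrincipal (fun x _ => ?_) hξ.mem
    fun y hy hys => (hys.antisymm (hξ.specializes hy)).eq) ?_
  · obtain ⟨U, hx, f, -, hf⟩ := hD x
    exact ⟨U, hx, f, hf⟩
  · by_contra h
    refine notMem_support_of_maximal hD (x := ξ) (fun y hy => ?_) hξ.mem
    by_contra hne
    exact h (LocalDim.one_le_dim_of_specializes hy hne)

/-- An ideal sheaf that is divisible by itself at a point contains the maximal points above it in
its support. -/
theorem exists_maximal_mem_support [IsLocallyNoetherian X] {I D : X.IdealSheafData}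
    (h : D * I = I) {ξ : X} (hξ : ξ ∈ (D.support : Set X)) :
    ∃ y : X, (∀ y', y' ⤳ y → y' = y) ∧ y ∈ (I.support : Set X) := by
  obtain ⟨_, ⟨W, hW, rfl⟩, hξW, -⟩ :=
    X.isBasis_affineOpens.exists_subset_of_mem_open (Set.mem_univ ξ) isOpen_univ
  change X.Opens at W
  replace hW : IsAffineOpen W := hW
  set p := hW.primeIdealOf ⟨ξ, hξW⟩
  obtain ⟨q, hq, hqp⟩ := Ideal.exists_minimalPrimes_le (bot_le : (⊥ : Ideal Γ(X, W)) ≤ p.asIdeal)
  let qp : Spec Γ(X, W) := ⟨q, hq.1.1⟩
  refine ⟨hW.fromSpec qp, maximal_fromSpec hW qp hq, ?_⟩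
  rw [mem_support_iff (U := ⟨W, hW⟩) (LocalDim.fromSpec_mem hW qp), LocalDim.primeIdealOf_fromSpec]
  have hideal : D.ideal ⟨W, hW⟩ * I.ideal ⟨W, hW⟩ = I.ideal ⟨W, hW⟩ := by
    conv_rhs => rw [← h]
    rw [Scheme.IdealSheafData.ideal_mul, Pi.mul_apply]
  obtain ⟨r, hr1, hr⟩ := Submodule.exists_sub_one_mem_and_smul_eq_zero_of_fg_of_le_smul
    (D.ideal ⟨W, hW⟩) (I.ideal ⟨W, hW⟩) (fg_ideal I ⟨W, hW⟩)
    (by rw [smul_eq_mul, hideal])
  intro a ha
  have hra : r * a = 0 := hr a ha
  have hrp : r ∉ p.asIdeal := fun hrp => p.2.ne_top (p.asIdeal.eq_top_iff_one.2 (by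
    have := p.asIdeal.sub_mem hrp ((mem_support_iff (U := ⟨W, hW⟩) hξW).1 hξ hr1)
    simpa using this))
  exact (hq.1.1.mem_or_mem (hra ▸ q.zero_mem)).resolve_left fun h => hrp (hqp h)

/-- Split off integral effective Cartier divisors until their generic points are avoided. -/
theorem exists_decomp [IsNoetherian X] {ι : Type v} (D : ι → X.IdealSheafData)
    (hD : ∀ i, BlowUp.IsEffCartierIdeal (D i)) (hint : ∀ i, IsIntegral (D i).subscheme)
    (Z : X.IdealSheafData)
    (hmax : ∀ y : X, (∀ y', y' ⤳ y → y' = y) → y ∉ (Z.support : Set X)) :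
    ∃ (a : ι →₀ ℕ) (J : X.IdealSheafData), a.prod (fun i n => D i ^ n) * J = Z ∧
      ∀ (i : ι) (ξ : X), IsGenericPoint ξ ((D i).support : Set X) →
        ξ ∉ (J.support : Set X) := by
  haveI := wellFoundedGT (X := X)
  induction Z using WellFoundedGT.induction with
  | _ Z ih =>
    by_cases h : ∀ (i : ι) (ξ : X), IsGenericPoint ξ ((D i).support : Set X) →
        ξ ∉ (Z.support : Set X)
    · exact ⟨0, Z, by rw [Finsupp.prod_zero_index, one_mul], h⟩
    push Not at h
    obtain ⟨i, ξ, hξ, hmem⟩ := h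
    haveI := hint i
    have hmul := mul_colon (hD i) (le_of_generic_mem hξ hmem)
    have hlt : Z < colon Z (D i) := by
      refine lt_of_le_of_ne (le_colon _ _) fun e => ?_
      rw [← e] at hmul
      obtain ⟨y, hy, hyZ⟩ := exists_maximal_mem_support hmul hξ.mem
      exact hmax y hy hyZ
    obtain ⟨a, J, hJ, hJ'⟩ := ih _ hlt fun y hy hmem =>
      hmax y hy (Scheme.IdealSheafData.support_antitone hlt.le hmem)
    refine ⟨a + Finsupp.single i 1, J, ?_, hJ'⟩
    classical
    rw [Finsupp.prod_add_index' (fun _ => pow_zero _) (fun _ _ _ => pow_add _ _ _),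
      Finsupp.prod_single_index (h := fun i n => D i ^ n) (pow_zero _), pow_one, mul_comm _ (D i), mul_assoc, hJ, hmul]

end Groth.L22.CartierDecomp

namespace Groth.L22.CartierDecomp

variable {X : Scheme.{u}}

theorem dim_eq_zero_of_maximal {y : X} (hy : ∀ y', y' ⤳ y → y' = y) :
    ringKrullDim (X.presheaf.stalk y) = 0 := by
  obtain ⟨_, ⟨W, hW, rfl⟩, hyW, -⟩ :=
    X.isBasis_affineOpens.exists_subset_of_mem_open (Set.mem_univ y) isOpen_univ
  change X.Opens at W
  replace hW : IsAffineOpen W := hW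
  rw [LocalDim.dim_stalk_eq_height hW hyW,
    Ideal.height_eq_zero_iff.2 (primeIdealOf_mem_minimalPrimes hW hyW hy)]
  rfl

/-- In a closed subset every point generizes to a point maximal in the subset. -/
theorem exists_maximal_of_mem {Z : Set X} (hZ : IsClosed Z) {z : X} (hz : z ∈ Z) :
    ∃ y ∈ Z, y ⤳ z ∧ ∀ y' ∈ Z, y' ⤳ y → y' = y := by
  obtain ⟨_, ⟨W, hW, rfl⟩, hzW, -⟩ :=
    X.isBasis_affineOpens.exists_subset_of_mem_open (Set.mem_univ z) isOpen_univ
  change X.Opens at W
  replace hW : IsAffineOpen W := hW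
  obtain ⟨I, hI⟩ := (PrimeSpectrum.isClosed_iff_zeroLocus_ideal _).1
    (hZ.preimage hW.fromSpec.continuous)
  have hmem : ∀ q : Spec Γ(X, W), hW.fromSpec q ∈ Z ↔ I ≤ q.asIdeal := fun q =>
    Set.ext_iff.1 hI q
  let p := hW.primeIdealOf ⟨z, hzW⟩
  obtain ⟨q, hq, hqp⟩ := Ideal.exists_minimalPrimes_le
    ((hmem p).1 (by rw [LocalDim.fromSpec_prime hW hzW]; exact hz))
  let qp : Spec Γ(X, W) := ⟨q, hq.1.1⟩
  refine ⟨hW.fromSpec qp, (hmem qp).2 hq.1.2, ?_, fun y' hy' hsp => ?_⟩
  · conv_rhs => rw [← LocalDim.fromSpec_prime hW hzW]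
    exact LocalDim.fromSpec_specializes hW hqp
  · have hy'W : y' ∈ W := hsp.mem_open W.2 (LocalDim.fromSpec_mem hW qp)
    have hle := LocalDim.le_of_specializes hW hy'W (LocalDim.fromSpec_mem hW qp) hsp
    rw [LocalDim.primeIdealOf_fromSpec] at hle
    have hI' : I ≤ (hW.primeIdealOf ⟨y', hy'W⟩).asIdeal :=
      (hmem _).1 (by rw [LocalDim.fromSpec_prime hW hy'W]; exact hy')
    conv_lhs => rw [← LocalDim.fromSpec_prime hW hy'W]
    exact congrArg hW.fromSpec (PrimeSpectrum.ext (le_antisymm hle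
      (hq.2 ⟨(hW.primeIdealOf ⟨y', hy'W⟩).2, hI'⟩ hle)))

theorem notMem_of_maximal {ι : Type v} (D : ι → X.IdealSheafData)
    (hD : ∀ i, BlowUp.IsEffCartierIdeal (D i)) {y : X} (hy : ∀ y', y' ⤳ y → y' = y)
    (h : y ∈ ⋃ i, ((D i).support : Set X)) : False := by
  obtain ⟨i, hi⟩ := Set.mem_iUnion.1 h
  exact notMem_support_of_maximal (hD i) hy hi

/-- Away from the generic point, the points of an integral effective Cartier divisor have local
rings of dimension at least two. -/
theorem two_le_dim [IsLocallyNoetherian X] {D : X.IdealSheafData}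
    (hD : BlowUp.IsEffCartierIdeal D) [IsIntegral D.subscheme] {z : X}
    (hz : z ∈ (D.support : Set X)) (hne : ∀ ξ, IsGenericPoint ξ (D.support : Set X) → z ≠ ξ) :
    2 ≤ ringKrullDim (X.presheaf.stalk z) := by
  obtain ⟨ξ, hξ⟩ := exists_generic D
  have h := succ_dim_le (hξ.specializes hz) fun e => hne ξ hξ e.symm
  rw [dim_generic_eq_one hD hξ] at h
  exact h

end Groth.L22.CartierDecomp
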