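import Groth.Prelude.Def_PicF2
import Groth.Agent.L20.ModStalk
import Groth.Agent.L18.GenLocus
import Groth.Agent.L18.AmpleGG
import Groth.Agent.L21.Extend.Semilocal

/-!
The zero scheme of a section of an invertible module: its ideals on affine opens and its points.
-/

set_option autoImplicit false
set_option linter.style.haveILetI false
universe u

open CategoryTheory CategoryTheory.Limits AlgebraicGeometry TopologicalSpace Opposite

noncomputable section

namespace Groth.L22.ZeroScheme

open Groth.L18.Frame (rs ro rs_rs rs_self rs_smul ro_ro IsFrame)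
open Groth.L18.GenLoc (secOf)

variable {X : Scheme.{u}} {L : X.Modules}

/-- The functions carrying every section into the multiples of `s`. -/
def idealOn (s : Coh.structureModule X ⟶ L) (U : X.Opens) : Ideal Γ(X, U) :=
  show Ideal Γ(X, U) from PicF2.zeroIdealOn L s U

theorem secVal_eq (s : Coh.structureModule X ⟶ L) (U : X.Opens) :
    (show Γ(L, U) from PicF2.secVal L s U) = rs L (le_top : U ≤ ⊤) (secOf s) :=
  (Groth.L18.GenLoc.app_eq s U (1 : Γ(X, U))).trans (one_smul _ _)

theorem mem_idealOn_iff (s : Coh.structureModule X ⟶ L) (U : X.Opens) (a : Γ(X, U)) :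
    a ∈ idealOn s U ↔ ∀ m : Γ(L, U), ∃ b : Γ(X, U), a • m = b • rs L (le_top : U ≤ ⊤) (secOf s) := by
  rw [← secVal_eq]
  rfl

theorem map_idealOn [Coh.IsQCoh L] (hFT : CohB1.IsFT L) (s : Coh.structureModule X ⟶ L) {U : X.Opens}
    (hU : IsAffineOpen U) (f : Γ(X, U)) :
    (idealOn s U).map (X.presheaf.map (homOfLE (X.basicOpen_le f)).op).hom = idealOn s (X.basicOpen f) := by
  classical
  let σ : ∀ W : X.Opens, Γ(L, W) := fun W => rs L (le_top : W ≤ ⊤) (secOf s)
  let D := X.basicOpen f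
  have hle : D ≤ U := X.basicOpen_le f
  have hσ : rs L hle (σ U) = σ D := rs_rs L _ _ _
  haveI := hU.isLocalization_basicOpen f
  have hunit : IsUnit (ro hle f) := X.toRingedSpace.isUnit_res_basicOpen f
  refine le_antisymm (Ideal.map_le_iff_le_comap.2 fun a ha => ?_) fun a' ha' => ?_
  · rw [Ideal.mem_comap, mem_idealOn_iff]
    intro m'
    obtain ⟨n, t, ht⟩ := Groth.L16.QCohSect.exists_pow_smul_eq_res hU L f m'
    obtain ⟨b, hb⟩ := (mem_idealOn_iff s U a).1 ha t
    have hn : IsUnit (ro hle (f ^ n)) := by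
      show IsUnit (X.presheaf.map (homOfLE hle).op (f ^ n))
      rw [map_pow]; exact hunit.pow n
    refine ⟨↑hn.unit⁻¹ * ro hle b, ?_⟩
    have h1 : ro hle a • (ro hle (f ^ n) • m') = ro hle b • σ D := by
      rw [← ht, ← rs_smul, hb, rs_smul, hσ]
    calc ro hle a • m' = (↑hn.unit⁻¹ : Γ(X, D)) • (ro hle a • (ro hle (f ^ n) • m')) := by
          rw [smul_smul, smul_smul, mul_assoc, mul_comm (ro hle a) (ro hle (f ^ n)), ← mul_assoc,
            IsUnit.val_inv_mul, one_mul]
      _ = _ := by rw [h1, smul_smul]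
  · obtain ⟨⟨a, ⟨_, n, rfl⟩⟩, ha⟩ := IsLocalization.surj (Submonoid.powers f) a'
    haveI : Module.Finite Γ(X, U) Γ(L, U) := Groth.L20.ModStalk.finite_sections L ⟨inferInstance, hFT⟩ hU
    obtain ⟨T, hT⟩ := (Module.Finite.fg_top : (⊤ : Submodule Γ(X, U) Γ(L, U)).FG)
    have ha1 : a' * ro hle (f ^ n) = ro hle a := ha
    have hai : ro hle a ∈ idealOn s D := ha1 ▸ Ideal.mul_mem_right _ _ ha'
    have hP : ∀ m : Γ(L, U), ∃ (P : ℕ) (b : Γ(X, U)), (f ^ P * a) • m = b • σ U := by
      intro m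
      obtain ⟨b', hb'⟩ := (mem_idealOn_iff s D _).1 hai (rs L hle m)
      obtain ⟨⟨b, ⟨_, q, rfl⟩⟩, hb⟩ := IsLocalization.surj (Submonoid.powers f) b'
      have hb1 : b' * ro hle (f ^ q) = ro hle b := hb
      have h0 : rs L hle ((f ^ q * a) • m - b • σ U) = 0 := by
        show (L.presheaf.map (homOfLE hle).op) ((f ^ q * a) • m - b • σ U) = 0
        rw [map_sub]
        show rs L hle ((f ^ q * a) • m) - rs L hle (b • σ U) = 0
        rw [mul_smul, rs_smul, rs_smul, rs_smul, hσ, hb', smul_smul, mul_comm, hb1, sub_self]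
      obtain ⟨p, hp⟩ := Groth.L16.QCohSect.exists_pow_smul_eq_zero hU L f _ h0
      rw [smul_sub, sub_eq_zero, smul_smul, smul_smul, ← mul_assoc, ← pow_add] at hp
      exact ⟨p + q, f ^ p * b, hp⟩
    choose P b hPb using hP
    let P₀ := T.sup P
    have hmem : f ^ P₀ * a ∈ idealOn s U := by
      rw [mem_idealOn_iff]
      intro m
      have hm : m ∈ Submodule.span Γ(X, U) (T : Set Γ(L, U)) := by rw [hT]; trivial
      induction hm using Submodule.span_induction with
      | mem m hm =>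
        refine ⟨f ^ (P₀ - P m) * b m, ?_⟩
        rw [mul_smul (f ^ (P₀ - P m)), ← hPb, smul_smul, ← mul_assoc, ← pow_add,
          Nat.sub_add_cancel (Finset.le_sup (f := P) hm)]
      | zero => exact ⟨0, by simp⟩
      | add x y _ _ hx hy =>
        obtain ⟨c, hc⟩ := hx; obtain ⟨d, hd⟩ := hy
        exact ⟨c + d, by rw [smul_add, add_smul, hc, hd]⟩
      | smul r x _ hx =>
        obtain ⟨c, hc⟩ := hx
        exact ⟨r * c, by rw [smul_comm, hc, mul_smul]⟩
    have hu : IsUnit (ro hle (f ^ (P₀ + n))) := by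
      show IsUnit (X.presheaf.map (homOfLE hle).op (f ^ (P₀ + n)))
      rw [map_pow]; exact hunit.pow _
    have heq : a' = ↑hu.unit⁻¹ * ro hle (f ^ P₀ * a) := by
      have h2 : ro hle (f ^ P₀ * a) = ro hle (f ^ (P₀ + n)) * a' := by
        show X.presheaf.map (homOfLE hle).op (f ^ P₀ * a) = X.presheaf.map (homOfLE hle).op (f ^ (P₀ + n)) * a'
        rw [pow_add, map_mul, map_mul, mul_assoc]
        congr 1
        exact ha1.symm.trans (mul_comm _ _)
      rw [h2, ← mul_assoc, IsUnit.val_inv_mul, one_mul]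
    rw [heq]
    exact Ideal.mul_mem_left _ _ (Ideal.mem_map_of_mem _ hmem)

/-- The ideal of the zero scheme on an affine open. -/
theorem zeroScheme_ideal (hL : PicF.IsInvertible L) (s : Coh.structureModule X ⟶ L) (U : X.affineOpens) :
    (PicF2.zeroScheme L s).ideal U = idealOn s U.1 := by
  haveI : Coh.IsQCoh L := Groth.L21.Extend.isQCoh_of_isInvertible hL
  have hmap : ∀ (U : X.affineOpens) (f : Γ(X, U.1)),
      (idealOn s U.1).map (X.presheaf.map (homOfLE (X.basicOpen_le f)).op).hom = idealOn s (X.basicOpen f) :=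
    fun U f => map_idealOn (Groth.L18.Ample.isFT_of_isInvertible hL) s U.2 f
  let I : X.IdealSheafData := { ideal := fun U => idealOn s U.1, map_ideal_basicOpen := hmap }
  have h : PicF2.zeroScheme L s = I := Scheme.IdealSheafData.ofIdeals_ideal I
  exact congrArg (fun J : X.IdealSheafData => J.ideal U) h

/-- The zero scheme lives on the complement of the nonvanishing locus. -/
theorem support_zeroScheme (hL : PicF.IsInvertible L) (s : Coh.structureModule X ⟶ L) :
    ((PicF2.zeroScheme L s).support : Set X) = (CohB1.genLocus L s : Set X)ᶜ := by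
  ext x
  obtain ⟨W, e, hxW, he⟩ := Groth.L18.Frame.exists_frame hL x
  obtain ⟨_, ⟨V, hV, rfl⟩, hxV, hVW : V ≤ W⟩ :=
    X.isBasis_affineOpens.exists_subset_of_mem_open hxW W.isOpen
  change X.Opens at V
  have he' : IsFrame L V (rs L hVW e) := he.mono hVW
  obtain ⟨c, hc⟩ := he'.exists_coeff le_rfl (rs L (le_top : V ≤ ⊤) (secOf s))
  rw [rs_self] at hc
  have hgen : x ∈ CohB1.genLocus L s ↔ x ∈ X.basicOpen c := by
    rw [← Groth.L18.GenLoc.genLocus_inf_eq s he' hc]
    exact ⟨fun h => ⟨h, hxV⟩, fun h => h.1⟩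
  show x ∈ (PicF2.zeroScheme L s).support ↔ x ∈ (CohB1.genLocus L s : Set X)ᶜ
  rw [Scheme.IdealSheafData.mem_support_iff_of_mem (U := ⟨V, hV⟩) hxV, zeroScheme_ideal hL,
    Scheme.mem_zeroLocus_iff, Set.mem_compl_iff, SetLike.mem_coe, hgen]
  constructor
  · intro h
    refine h c ((mem_idealOn_iff s V c).2 fun m => ?_)
    obtain ⟨d, hd⟩ := he'.exists_coeff le_rfl m
    rw [rs_self] at hd
    exact ⟨d, by rw [← hd, ← hc, smul_smul, smul_smul, mul_comm]⟩
  · intro h a ha hxa
    obtain ⟨b, hb⟩ := (mem_idealOn_iff s V a).1 ha (rs L hVW e)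
    rw [← hc, smul_smul] at hb
    have hab : a = b * c := by
      refine he'.inj le_rfl ?_
      rwa [rs_self]
    rw [hab, X.basicOpen_mul] at hxa
    exact h hxa.2

end Groth.L22.ZeroScheme
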