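import Groth.Agent.L22.AffineDim
import Groth.Agent.L22.FibreIrr
import Mathlib.RingTheory.GradedAlgebra.Radical
import Mathlib.AlgebraicGeometry.ProjectiveSpectrum.Scheme
import Groth.Prelude.Def_CohB1

/-!
Dictionary between closed subsets of projective space over a field and homogeneous primes of the
polynomial ring: dimensions and components.
-/

universe u

open AlgebraicGeometry TopologicalSpace Topology Set MvPolynomial

namespace Groth.L22.ProjDict

variable {k : Type u} [Field k] {n : ℕ}

local notation "S" => MvPolynomial (Fin (n + 1)) k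
local notation "𝒜" => CohB1.polyGrading n k

/-- The vertex ideal. -/
noncomputable def vertex (k : Type u) [Field k] (n : ℕ) : Ideal (MvPolynomial (Fin (n + 1)) k) :=
  RingHom.ker (constantCoeff (R := k) (σ := Fin (n + 1)))

theorem vertex_isMaximal : (vertex k n).IsMaximal :=
  RingHom.ker_isMaximal_of_surjective _ fun c => ⟨C c, constantCoeff_C _ c⟩

theorem decompose_zero (p : S) : ((DirectSum.decompose 𝒜 p) 0 : S) = C (coeff 0 p) := by
  have h := MvPolynomial.decomposition.decompose'_apply (σ := Fin (n + 1)) (R := k) p 0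
  rw [homogeneousComponent_zero] at h
  exact h

theorem sub_constantCoeff_mem (p : S) :
    p - C (constantCoeff p) ∈ Ideal.span (Set.range (X : Fin (n + 1) → S)) := by
  induction p using MvPolynomial.induction_on with
  | C a => simp
  | add p q hp hq => rw [map_add, map_add, add_sub_add_comm]; exact Ideal.add_mem _ hp hq
  | mul_X p i hp =>
    rw [map_mul, constantCoeff_X, mul_zero, map_zero, sub_zero]
    exact Ideal.mul_mem_left _ _ (Ideal.subset_span ⟨i, rfl⟩)

theorem irrelevant_eq_vertex :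
    (HomogeneousIdeal.irrelevant 𝒜).toIdeal = vertex k n := by
  ext p
  rw [HomogeneousIdeal.toIdeal_irrelevant, RingHom.mem_ker, vertex, RingHom.mem_ker,
    GradedRing.projZeroRingHom_apply]
  change ((DirectSum.decompose 𝒜 p) 0 : S) = 0 ↔ _
  rw [decompose_zero, constantCoeff_eq]
  exact C_eq_zero

theorem le_vertex {I : Ideal S} (hI : I.IsHomogeneous 𝒜) (h : I ≠ ⊤) : I ≤ vertex k n := by
  intro p hp
  by_contra hne
  refine h (Ideal.eq_top_of_isUnit_mem _ (hI 0 hp) ?_)
  change IsUnit ((DirectSum.decompose 𝒜 p) 0 : S)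
  rw [decompose_zero]
  exact (IsUnit.mk0 _ (by rwa [vertex, RingHom.mem_ker, constantCoeff_eq] at hne)).map C

/-- A minimal prime over a homogeneous ideal is homogeneous. -/
theorem isHomogeneous_of_mem_minimalPrimes {I R : Ideal S} (hI : I.IsHomogeneous 𝒜)
    (hR : R ∈ I.minimalPrimes) : R.IsHomogeneous 𝒜 := by
  have h1 : (R.homogeneousCore 𝒜).toIdeal.IsPrime := hR.1.1.homogeneousCore
  have hle := Ideal.toIdeal_homogeneousCore_le 𝒜 R
  have h2 : I ≤ (R.homogeneousCore 𝒜).toIdeal :=
    (Ideal.homogeneousCore.gc 𝒜 ⟨I, hI⟩ R).1 hR.1.2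
  rw [← le_antisymm hle (hR.2 ⟨h1, h2⟩ hle)]
  exact (R.homogeneousCore 𝒜).isHomogeneous

theorem dim_vertex : ringKrullDim (S ⧸ vertex k n) = 0 :=
  ringKrullDim_eq_zero_of_isField
    ((Ideal.Quotient.maximal_ideal_iff_isField_quotient _).1 vertex_isMaximal)

/-- Dimensions drop strictly along strict inclusions of primes. -/
theorem dim_lt {P Q : Ideal S} [P.IsPrime] [Q.IsPrime] (h : P < Q) :
    ringKrullDim (S ⧸ Q) + 1 ≤ ringKrullDim (S ⧸ P) := by
  haveI : (Q.map (Ideal.Quotient.mk P)).IsPrime :=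
    Ideal.map_isPrime_of_surjective Ideal.Quotient.mk_surjective (by rw [Ideal.mk_ker]; exact h.le)
  obtain ⟨ht, e, d, hht, he, hd, hde⟩ := AffineDim.dim_formula k (S ⧸ P) (Q.map (Ideal.Quotient.mk P))
  rw [ringKrullDim_eq_of_ringEquiv (DoubleQuot.quotQuotEquivQuotOfLE h.le)] at he
  have hpos : ht ≠ 0 := by
    intro h0
    rw [h0, Nat.cast_zero, Ideal.height_eq_zero_iff_eq_bot] at hht
    have := congrArg (Ideal.comap (Ideal.Quotient.mk P)) hht
    rw [Ideal.comap_map_of_surjective _ Ideal.Quotient.mk_surjective, ← RingHom.ker_eq_comap_bot,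
      Ideal.mk_ker, sup_eq_left.2 h.le] at this
    exact h.ne this.symm
  rw [he, hd]
  exact_mod_cast (show e + 1 ≤ d by omega)

/-- A minimal prime over a prime and `r` further elements. -/
theorem dim_le_of_mem_minimalPrimes {r : ℕ} {P R : Ideal S} [P.IsPrime] (f : Fin r → S)
    (hR : R ∈ (P ⊔ Ideal.span (Set.range f)).minimalPrimes) :
    ringKrullDim (S ⧸ P) ≤ ringKrullDim (S ⧸ R) + (r : WithBot ℕ∞) := by
  classical
  haveI := hR.1.1
  have hle : P ≤ R := le_sup_left.trans hR.1.2
  haveI : (R.map (Ideal.Quotient.mk P)).IsPrime :=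
    Ideal.map_isPrime_of_surjective Ideal.Quotient.mk_surjective (by rwa [Ideal.mk_ker])
  obtain ⟨h, e, d, hh, he, hd, hde⟩ := AffineDim.dim_formula k (S ⧸ P) (R.map (Ideal.Quotient.mk P))
  rw [ringKrullDim_eq_of_ringEquiv (DoubleQuot.quotQuotEquivQuotOfLE hle)] at he
  have hcomap : (R.map (Ideal.Quotient.mk P)).comap (Ideal.Quotient.mk P) = R := by
    rw [Ideal.comap_map_of_surjective _ Ideal.Quotient.mk_surjective, ← RingHom.ker_eq_comap_bot,
      Ideal.mk_ker, sup_eq_left.2 hle]
  have hmin : R.map (Ideal.Quotient.mk P) ∈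
      (Ideal.span (Set.range fun i => Ideal.Quotient.mk P (f i))).minimalPrimes := by
    have hspan : (Ideal.span (Set.range f)).map (Ideal.Quotient.mk P) =
        Ideal.span (Set.range fun i => Ideal.Quotient.mk P (f i)) := by
      rw [Ideal.map_span, ← Set.range_comp]; rfl
    rw [← hspan]
    refine ⟨⟨inferInstance, Ideal.map_mono (le_sup_right.trans hR.1.2)⟩, fun W hW hWR => ?_⟩
    haveI := hW.1
    have hW' : W.comap (Ideal.Quotient.mk P) ≤ R := (Ideal.comap_mono hWR).trans_eq hcomap
    have := hR.2 ⟨Ideal.comap_isPrime _ W, sup_le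
      (fun x hx => by
        rw [Ideal.mem_comap, Ideal.Quotient.eq_zero_iff_mem.2 hx]; exact W.zero_mem)
      (Ideal.map_le_iff_le_comap.1 hW.2)⟩ hW'
    calc R.map (Ideal.Quotient.mk P) ≤ (W.comap (Ideal.Quotient.mk P)).map (Ideal.Quotient.mk P) :=
          Ideal.map_mono this
      _ ≤ W := Ideal.map_comap_le
  have hle' := Ideal.height_le_card_of_mem_minimalPrimes_span (Set.finite_range _) hmin
  rw [hh] at hle'
  have hr : h ≤ r := by
    refine (Nat.cast_le.1 hle').trans ?_
    rw [Set.ncard_eq_toFinset_card', Set.toFinset_range]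
    exact Finset.card_image_le.trans (by simp)
  rw [he, hd]
  exact_mod_cast (show d ≤ e + r by omega)

theorem dim_eq_of_mem_minimalPrimes {f : S} {P R : Ideal S} [P.IsPrime] (hf : f ∉ P)
    (hR : R ∈ (P ⊔ Ideal.span {f}).minimalPrimes) :
    ringKrullDim (S ⧸ R) + 1 = ringKrullDim (S ⧸ P) := by
  haveI := hR.1.1
  refine le_antisymm ?_ ?_
  · refine dim_lt (lt_of_le_not_ge (le_sup_left.trans hR.1.2) fun h => hf (h ?_))
    exact hR.1.2 (Ideal.mem_sup_right (Ideal.mem_span_singleton_self f))
  · have := dim_le_of_mem_minimalPrimes (P := P) (fun _ : Fin 1 => f)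
      (by rwa [Set.range_const])
    rwa [Nat.cast_one] at this

variable (k n) in
/-- The points of `P^n`. -/
abbrev Pt := ProjectiveSpectrum (CohB1.polyGrading n k)

theorem not_eq_vertex (x : Pt k n) : x.asHomogeneousIdeal.toIdeal ≠ vertex k n := fun h =>
  x.not_irrelevant_le (by
    change (HomogeneousIdeal.irrelevant 𝒜).toIdeal ≤ x.asHomogeneousIdeal.toIdeal
    rw [irrelevant_eq_vertex, h])

theorem exists_dim_eq (x : Pt k n) : ∃ e : ℕ,
    ringKrullDim (S ⧸ x.asHomogeneousIdeal.toIdeal) = ((e + 1 : ℕ) : WithBot ℕ∞) := by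
  obtain ⟨d, -, -, -, hd, -⟩ := AffineDim.exists_normalization k (S ⧸ x.asHomogeneousIdeal.toIdeal)
  haveI := vertex_isMaximal (k := k) (n := n)
  have := dim_lt (P := x.asHomogeneousIdeal.toIdeal) (Q := vertex k n)
    (lt_of_le_of_ne (le_vertex x.asHomogeneousIdeal.isHomogeneous x.isPrime.ne_top) (not_eq_vertex x))
  rw [dim_vertex, hd, zero_add] at this
  exact ⟨d - 1, by rw [hd]; exact_mod_cast (show d = d - 1 + 1 by
    have : 1 ≤ d := by exact_mod_cast this
    omega)⟩

/-- A homogeneous prime with positive-dimensional quotient is a point. -/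
noncomputable def mkPt (R : Ideal S) (hp : R.IsPrime) (hh : R.IsHomogeneous 𝒜)
    (hd : (1 : WithBot ℕ∞) ≤ ringKrullDim (S ⧸ R)) : Pt k n where
  asHomogeneousIdeal := ⟨R, hh⟩
  isPrime := hp
  not_irrelevant_le h := by
    have h' : vertex k n ≤ R := irrelevant_eq_vertex (k := k) (n := n) ▸ h
    rw [← vertex_isMaximal.eq_of_le hp.ne_top h', dim_vertex] at hd
    norm_cast at hd

theorem mem_closure_iff {x y : Pt k n} : y ∈ closure ({x} : Set (Pt k n)) ↔
    x.asHomogeneousIdeal.toIdeal ≤ y.asHomogeneousIdeal.toIdeal :=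
  (ProjectiveSpectrum.le_iff_mem_closure _ x y).symm

instance : QuasiSober (Pt k n) := inferInstanceAs (QuasiSober ↥(Proj (CohB1.polyGrading n k)))

theorem lt_of_specializes {x y : Pt k n} (h : x ⤳ y) (hne : x ≠ y) :
    x.asHomogeneousIdeal.toIdeal < y.asHomogeneousIdeal.toIdeal :=
  lt_of_le_of_ne (mem_closure_iff.1 h.mem_closure)
    fun e => hne (ProjectiveSpectrum.ext (HomogeneousIdeal.ext e))

theorem dim_le (x : Pt k n) {e : ℕ}
    (he : ringKrullDim (S ⧸ x.asHomogeneousIdeal.toIdeal) = ((e + 1 : ℕ) : WithBot ℕ∞)) :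
    topologicalKrullDim (closure ({x} : Set (Pt k n))) ≤ (e : WithBot ℕ∞) := by
  refine iSup_le fun l => ?_
  choose gen hgen using fun i => QuasiSober.sober
    ((l i).isIrreducible.image Subtype.val continuous_subtype_val.continuousOn).closure
    isClosed_closure
  choose d hd using fun i => exists_dim_eq (gen i)
  have hl : ∀ i, closure (Subtype.val '' (l i : Set (closure ({x} : Set (Pt k n))))) =
      Subtype.val '' (l i : Set (closure ({x} : Set (Pt k n)))) := fun i =>
    ((isClosed_closure (s := {x})).isClosedEmbedding_subtypeVal.isClosedMap _ (l i).isClosed).closure_eq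
  have hmono : StrictMono d := fun i j hij => by
    have hlt : (l i : Set (closure ({x} : Set (Pt k n)))) ⊂ l j :=
      SetLike.coe_ssubset_coe.2 (l.strictMono hij)
    have hne : gen j ≠ gen i := fun e => hlt.ne (Subtype.val_injective.image_injective (by
      rw [← hl i, ← hl j, ← (hgen i).def, ← (hgen j).def, e]))
    have hsp : gen j ⤳ gen i := specializes_iff_mem_closure.2 (by
      rw [(hgen j).def]
      exact closure_mono (Set.image_mono hlt.subset) (hgen i).mem)
    have := dim_lt (lt_of_specializes hsp hne)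
    rw [hd, hd] at this
    have : d i + 1 + 1 ≤ d j + 1 := by exact_mod_cast this
    omega
  have hlast : d (Fin.last l.length) ≤ e := by
    have hmem : gen (Fin.last l.length) ∈ closure ({x} : Set (Pt k n)) := by
      have := (hgen (Fin.last l.length)).mem
      rw [hl] at this
      obtain ⟨w, -, hw⟩ := this
      exact hw ▸ w.2
    by_cases hx : x = gen (Fin.last l.length)
    · have := hd (Fin.last l.length)
      rw [← hx, he] at this
      have : e + 1 = d (Fin.last l.length) + 1 := by exact_mod_cast this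
      omega
    · have := dim_lt (lt_of_specializes (specializes_iff_mem_closure.2 hmem) hx)
      rw [hd, he] at this
      have : d (Fin.last l.length) + 1 + 1 ≤ e + 1 := by exact_mod_cast this
      omega
  have hlen : ∀ i : ℕ, (hi : i ≤ l.length) → i ≤ d ⟨i, by omega⟩ := by
    intro i
    induction i with
    | zero => intro hi; exact Nat.zero_le _
    | succ i ih =>
      intro hi
      have := hmono (show (⟨i, by omega⟩ : Fin (l.length + 1)) < ⟨i + 1, by omega⟩ from
        Nat.lt_succ_self i)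
      have := ih (by omega)
      omega
  exact_mod_cast (hlen l.length le_rfl).trans hlast

theorem le_dim : ∀ (e : ℕ) (x : Pt k n),
    ringKrullDim (S ⧸ x.asHomogeneousIdeal.toIdeal) = ((e + 1 : ℕ) : WithBot ℕ∞) →
      (e : WithBot ℕ∞) ≤ topologicalKrullDim (closure ({x} : Set (Pt k n))) := by
  intro e
  induction e with
  | zero =>
    intro x _
    haveI : Nonempty (closure ({x} : Set (Pt k n))) := ⟨⟨x, subset_closure rfl⟩⟩
    exact Groth.L06.Dim.nonneg
  | succ e ih =>
    intro x hx
    obtain ⟨i, hi⟩ : ∃ i, (X i : S) ∉ x.asHomogeneousIdeal.toIdeal := by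
      by_contra h
      push Not at h
      refine not_eq_vertex x (le_antisymm
        (le_vertex x.asHomogeneousIdeal.isHomogeneous x.isPrime.ne_top) ?_)
      intro p hp
      have h0 : constantCoeff p = 0 := hp
      have h1 := sub_constantCoeff_mem p
      rw [h0, map_zero, sub_zero] at h1
      refine Ideal.span_le.2 ?_ h1
      rintro _ ⟨i, rfl⟩
      exact h i
    have hhom : (x.asHomogeneousIdeal.toIdeal ⊔ Ideal.span {X i}).IsHomogeneous 𝒜 :=
      x.asHomogeneousIdeal.isHomogeneous.sup (Ideal.homogeneous_span 𝒜 _ (by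
        rintro _ rfl; exact ⟨1, (mem_homogeneousSubmodule _ _).2 (isHomogeneous_X k i)⟩))
    have hne : x.asHomogeneousIdeal.toIdeal ⊔ Ideal.span {X i} ≠ ⊤ := by
      refine ne_top_of_le_ne_top (vertex_isMaximal (k := k) (n := n)).ne_top (sup_le
        (le_vertex x.asHomogeneousIdeal.isHomogeneous x.isPrime.ne_top) ?_)
      rw [Ideal.span_le, Set.singleton_subset_iff, SetLike.mem_coe, vertex, RingHom.mem_ker,
        constantCoeff_X]
    obtain ⟨R, hR⟩ := Ideal.nonempty_minimalPrimes hne
    haveI := hR.1.1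
    have hd := dim_eq_of_mem_minimalPrimes hi hR
    obtain ⟨r, -, -, -, hr, -⟩ := AffineDim.exists_normalization k (S ⧸ R)
    have hre : r = e + 1 := by
      rw [hr, hx] at hd
      have : r + 1 = e + 1 + 1 := by exact_mod_cast hd
      omega
    subst hre
    let y : Pt k n := mkPt R hR.1.1 (isHomogeneous_of_mem_minimalPrimes hhom hR)
      (by rw [hr]; exact_mod_cast (show 1 ≤ e + 1 by omega))
    have hxy : x ⤳ y := specializes_iff_mem_closure.2
      (mem_closure_iff.2 (le_sup_left.trans hR.1.2))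
    have hyx : ¬ y ⤳ x := fun h => by
      have := mem_closure_iff.1 h.mem_closure
      exact hi (this (hR.1.2 (Ideal.mem_sup_right (Ideal.mem_span_singleton_self _))))
    refine le_trans ?_ (FibreIrr.dim_lt_of_specializes hxy hyx)
    push_cast
    gcongr
    exact ih y hr

/-- The dimension of the closure of a point is one less than that of its cone. -/
theorem dim_closure_add_one (x : Pt k n) :
    topologicalKrullDim (closure ({x} : Set (Pt k n))) + 1 =
      ringKrullDim (S ⧸ x.asHomogeneousIdeal.toIdeal) := by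
  obtain ⟨e, he⟩ := exists_dim_eq x
  rw [le_antisymm (dim_le x he) (le_dim e x he), he]
  push_cast
  rfl

theorem exists_dim_closure (x : Pt k n) : ∃ e : ℕ,
    topologicalKrullDim (closure ({x} : Set (Pt k n))) = (e : WithBot ℕ∞) ∧
      ringKrullDim (S ⧸ x.asHomogeneousIdeal.toIdeal) = ((e + 1 : ℕ) : WithBot ℕ∞) := by
  obtain ⟨e, he⟩ := exists_dim_eq x
  exact ⟨e, le_antisymm (dim_le x he) (le_dim e x he), he⟩

theorem mem_zeroLocus_iff {T : Set S} {y : Pt k n} :
    y ∈ ProjectiveSpectrum.zeroLocus 𝒜 T ↔ Ideal.span T ≤ y.asHomogeneousIdeal.toIdeal := by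
  rw [ProjectiveSpectrum.mem_zeroLocus, Ideal.span_le]; rfl

/-- An irreducible closed set is the zero locus of the prime of its generic point. -/
theorem exists_generic {Z : Set (Pt k n)} (hc : IsClosed Z) (hi : IsIrreducible Z) :
    ∃ x : Pt k n, Z = closure {x} ∧
      ∀ y, y ∈ Z ↔ x.asHomogeneousIdeal.toIdeal ≤ y.asHomogeneousIdeal.toIdeal := by
  obtain ⟨x, hx⟩ := QuasiSober.sober hi hc
  exact ⟨x, hx.def.symm, fun y => by rw [← hx.def, mem_closure_iff]⟩

/-- Components of `V₊(I)` correspond to minimal primes of `I`. -/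
theorem component_minimalPrimes {I : Ideal S} (hI : I.IsHomogeneous 𝒜) {Z : Set (Pt k n)}
    (hZ : ∀ y, y ∈ Z ↔ I ≤ y.asHomogeneousIdeal.toIdeal) {C : Set Z}
    (hC : C ∈ irreducibleComponents Z) :
    ∃ x : Pt k n, x ∈ Z ∧ x.asHomogeneousIdeal.toIdeal ∈ I.minimalPrimes ∧
      topologicalKrullDim C = topologicalKrullDim (closure ({x} : Set (Pt k n))) := by
  have hZeq : Z = ProjectiveSpectrum.zeroLocus 𝒜 (I : Set S) := by
    ext y; rw [hZ, ProjectiveSpectrum.mem_zeroLocus]; rfl
  have hZc : IsClosed Z := hZeq ▸ ProjectiveSpectrum.isClosed_zeroLocus _ _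
  have hCc : IsClosed (Subtype.val '' C : Set (Pt k n)) :=
    hZc.isClosedEmbedding_subtypeVal.isClosedMap _ (isClosed_of_mem_irreducibleComponents C hC)
  obtain ⟨x, hx, -⟩ := exists_generic hCc (hC.1.image _ continuous_subtype_val.continuousOn)
  have hxZ : x ∈ Z := by
    have : x ∈ Subtype.val '' C := hx ▸ subset_closure rfl
    obtain ⟨w, -, hw⟩ := this
    exact hw ▸ w.2
  refine ⟨x, hxZ, ?_, ?_⟩
  · obtain ⟨R, hR, hRx⟩ := Ideal.exists_minimalPrimes_le ((hZ x).1 hxZ)
    have hRhom := isHomogeneous_of_mem_minimalPrimes hI hR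
    let y : Pt k n := ⟨⟨R, hRhom⟩, hR.1.1, fun h => x.not_irrelevant_le (h.trans hRx)⟩
    have hyZ : y ∈ Z := (hZ y).2 hR.1.2
    have hsub : Subtype.val '' C ⊆ closure ({y} : Set (Pt k n)) := by
      rw [hx]
      exact closure_minimal (Set.singleton_subset_iff.2 (mem_closure_iff.2 hRx)) isClosed_closure
    have hDirr : IsIrreducible (closure ({(⟨y, hyZ⟩ : Z)} : Set Z)) :=
      isIrreducible_singleton.closure
    have hCD : C ⊆ closure ({(⟨y, hyZ⟩ : Z)} : Set Z) := fun c hc => by
      rw [IsEmbedding.subtypeVal.isInducing.closure_eq_preimage_closure_image, Set.image_singleton]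
      exact hsub ⟨c, hc, rfl⟩
    have hyC : y ∈ Subtype.val '' C := ⟨⟨y, hyZ⟩, hC.2 hDirr hCD (subset_closure rfl), rfl⟩
    rw [hx] at hyC
    rw [← le_antisymm hRx (mem_closure_iff.1 hyC)]
    exact hR
  · refine (SchemeDim.topologicalKrullDim_eq_of_isEmbedding
      (f := fun w : C => w.1.1) (IsEmbedding.subtypeVal.comp IsEmbedding.subtypeVal) ?_).symm
    rw [Set.range_comp', Subtype.range_coe, hx]

/-- The dimension of a closed set is attained at some component. -/
theorem exists_mem_dim_le {Z : Set (Pt k n)} (hZ : IsClosed Z) {r : ℕ}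
    (h : (r : WithBot ℕ∞) ≤ topologicalKrullDim Z) :
    ∃ x ∈ Z, (r : WithBot ℕ∞) ≤ topologicalKrullDim (closure ({x} : Set (Pt k n))) := by
  haveI : QuasiSober Z := hZ.isClosedEmbedding_subtypeVal.quasiSober
  obtain ⟨x, hx⟩ := FibreDim.exists_le_dim_closure h
  rw [FibreDim.subtype_dim_closure] at hx
  exact ⟨x.1, x.2, hx.trans (SchemeDim.topologicalKrullDim_mono Set.inter_subset_left)⟩

theorem dim_closure_mono {Z : Set (Pt k n)} (hZ : IsClosed Z) {x : Pt k n} (hx : x ∈ Z) :
    topologicalKrullDim (closure ({x} : Set (Pt k n))) ≤ topologicalKrullDim Z :=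
  SchemeDim.topologicalKrullDim_mono (closure_minimal (Set.singleton_subset_iff.2 hx) hZ)

end Groth.L22.ProjDict
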