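import Groth.Prelude.Def_LambdaRing
import Mathlib.RingTheory.MvPolynomial.Symmetric.Defs
import Mathlib.RingTheory.Polynomial.Vieta
import Mathlib.RingTheory.PowerSeries.WellKnown
import Mathlib.Algebra.BigOperators.NatAntidiagonal
import Mathlib.Data.Nat.Choose.Sum
import Mathlib.Tactic.Abel
import Mathlib.Tactic.Linarith
import Mathlib.Tactic.Ring

/-!
Elementary facts on pre-lambda rings with positive structure.
-/

universe u

namespace Groth.L22.Lambda

open LambdaRing Finset

theorem esymm_cons_succ {R : Type u} [CommRing R] (a : R) (s : Multiset R) (k : ℕ) :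
    (a ::ₘ s).esymm (k + 1) = s.esymm (k + 1) + a * s.esymm k := by
  simp [Multiset.esymm, Multiset.powersetCard_cons, Multiset.map_map, Function.comp_def,
    Multiset.sum_map_mul_left]

theorem coeff_prod_one_add {R : Type u} [CommRing R] (s : Multiset R) (k : ℕ) :
    PowerSeries.coeff k (s.map fun u => 1 + PowerSeries.C u * PowerSeries.X).prod =
      s.esymm k := by
  induction s using Multiset.induction generalizing k with
  | empty =>
    rcases k with - | k <;>
      simp [Multiset.esymm, PowerSeries.coeff_one, Multiset.powersetCard_zero_right]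
  | cons a s ih =>
    rw [Multiset.map_cons, Multiset.prod_cons, add_mul, one_mul, mul_assoc]
    rcases k with - | k
    · have h0 := ih 0
      rw [PowerSeries.coeff_zero_eq_constantCoeff_apply] at h0
      simp [h0, Multiset.esymm]
    · rw [map_add, PowerSeries.coeff_C_mul, PowerSeries.coeff_succ_X_mul, ih, ih,
        esymm_cons_succ]

theorem coeff_one_add_C_mul_X {R : Type u} [CommRing R] (u : R) (k : ℕ) :
    PowerSeries.coeff k (1 + PowerSeries.C u * PowerSeries.X) =
      if k = 0 then 1 else if k = 1 then u else 0 := by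
  rcases k with - | k
  · simp
  · rw [map_add, PowerSeries.coeff_C_mul, PowerSeries.coeff_X, PowerSeries.coeff_one]
    simp only [Nat.succ_ne_zero, if_false, zero_add]
    split <;> simp

variable {K : Type u} [CommRing K] [LambdaOps K]

theorem coeff_lamSeries (i : ℕ) (x : K) :
    PowerSeries.coeff i (lamSeries x) = LambdaOps.lam i x := by
  simp [lamSeries]

theorem constantCoeff_lamSeries (x : K) : PowerSeries.constantCoeff (lamSeries x) = 1 := by
  rw [← PowerSeries.coeff_zero_eq_constantCoeff_apply, coeff_lamSeries, LambdaOps.lam_zero]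

theorem lamSeries_add (x y : K) : lamSeries (x + y) = lamSeries x * lamSeries y := by
  ext k
  rw [coeff_lamSeries, LambdaOps.lam_add, PowerSeries.coeff_mul,
    Finset.Nat.sum_antidiagonal_eq_sum_range_succ_mk]
  simp [coeff_lamSeries]

theorem isUnit_lamSeries (x : K) : IsUnit (lamSeries x) := by
  rw [PowerSeries.isUnit_iff_constantCoeff, constantCoeff_lamSeries]; exact isUnit_one

theorem lamSeries_zero : lamSeries (0 : K) = 1 := by
  have h := lamSeries_add (0 : K) 0
  rw [add_zero] at h
  exact (isUnit_lamSeries (0 : K)).mul_left_cancel (by rw [mul_one, ← h])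

theorem lam_succ_zero (k : ℕ) : LambdaOps.lam (k + 1) (0 : K) = 0 := by
  rw [← coeff_lamSeries, lamSeries_zero, PowerSeries.coeff_one]; simp

theorem lamSeries_multiset_sum (s : Multiset K) :
    lamSeries s.sum = (s.map lamSeries).prod := by
  induction s using Multiset.induction with
  | empty => simp [lamSeries_zero]
  | cons a s ih => simp [lamSeries_add, ih]

theorem constantCoeff_rescale_lamSeries (x : K) :
    PowerSeries.constantCoeff (PowerSeries.rescale (-1 : K) (lamSeries x)) = 1 := by
  rw [← PowerSeries.coeff_zero_eq_constantCoeff_apply, PowerSeries.coeff_rescale, coeff_lamSeries,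
    LambdaOps.lam_zero]
  simp

section Pos

variable (P : PosStructure K)

theorem lam_eq_zero_of_isLine {u : K} (hu : P.IsLine u) {i : ℕ} (hi : 2 ≤ i) :
    LambdaOps.lam i u = 0 :=
  P.lam_eq_zero u hu.1 i (by rw [hu.2]; exact_mod_cast hi)

theorem lamSeries_of_isLine {u : K} (hu : P.IsLine u) :
    lamSeries u = 1 + PowerSeries.C u * PowerSeries.X := by
  ext k
  rw [coeff_lamSeries, coeff_one_add_C_mul_X]
  rcases k with - | k
  · simp [LambdaOps.lam_zero]
  rcases k with - | k
  · simp [LambdaOps.lam_one]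
  · simp [lam_eq_zero_of_isLine P hu (show 2 ≤ k + 1 + 1 by omega)]

theorem isLine_one : P.IsLine (1 : K) :=
  ⟨by simpa using P.natCast_mem 1 one_pos, map_one _⟩

theorem isLine_mul {u v : K} (hu : P.IsLine u) (hv : P.IsLine v) : P.IsLine (u * v) :=
  ⟨P.mul_mem _ _ hu.1 hv.1, by rw [map_mul, hu.2, hv.2, one_mul]⟩

theorem isLine_pow {u : K} (hu : P.IsLine u) : ∀ n : ℕ, P.IsLine (u ^ n)
  | 0 => by rw [pow_zero]; exact isLine_one P
  | n + 1 => by rw [pow_succ]; exact isLine_mul P (isLine_pow hu n) hu

theorem isUnit_of_isLine {u : K} (hu : P.IsLine u) : IsUnit u := by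
  have h := P.isUnit_lam u hu.1
  rwa [hu.2, Int.toNat_one, LambdaOps.lam_one] at h

theorem lamSeries_natCast (P : PosStructure K) (n : ℕ) :
    lamSeries (n : K) = (1 + PowerSeries.X) ^ n := by
  induction n with
  | zero => simp [lamSeries_zero]
  | succ n ih =>
    rw [Nat.cast_succ, lamSeries_add, ih, lamSeries_of_isLine P (isLine_one P), map_one, one_mul,
      pow_succ]

theorem lamSeries_sum_lines {s : Multiset K} (hs : ∀ u ∈ s, P.IsLine u) :
    lamSeries s.sum = (s.map fun u => 1 + PowerSeries.C u * PowerSeries.X).prod := by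
  rw [lamSeries_multiset_sum]
  exact congrArg Multiset.prod
    (Multiset.map_congr rfl fun u hu => lamSeries_of_isLine P (hs u hu))

theorem lam_sum_lines {s : Multiset K} (hs : ∀ u ∈ s, P.IsLine u) (i : ℕ) :
    LambdaOps.lam i s.sum = s.esymm i := by
  rw [← coeff_lamSeries, lamSeries_sum_lines P hs, coeff_prod_one_add]

theorem aug_sum_lines {s : Multiset K} (hs : ∀ u ∈ s, P.IsLine u) :
    P.aug s.sum = Multiset.card s := by
  rw [map_multiset_sum, Multiset.map_congr rfl fun u hu => (hs u hu).2]
  simp

theorem esymm_aug_lines {s : Multiset K} (hs : ∀ u ∈ s, P.IsLine u) (i : ℕ) :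
    P.aug (s.esymm i) = (Multiset.card s).choose i := by
  have h : ∀ t ∈ s.powersetCard i, (P.aug ∘ Multiset.prod) t = (1 : ℤ) := fun t ht => by
    have ht' := (Multiset.mem_powersetCard.1 ht).1
    rw [Function.comp_apply, map_multiset_prod,
      Multiset.map_congr rfl fun u hu => (hs u (Multiset.mem_of_le ht' hu)).2]
    simp
  rw [Multiset.esymm, map_multiset_sum, Multiset.map_map, Multiset.map_congr rfl h]
  simp

/-- A splitting of a positive element. -/
theorem exists_splitting (hK : HasSplitting K P) {e : K} (he : e ∈ P.pos) :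
    ∃ (L : Type u) (_ : CommRing L) (_ : LambdaOps L) (Q : PosStructure L) (f : K →+* L)
      (s : Multiset L), IsExtension P Q f ∧ HasSplitting L Q ∧ (∀ u ∈ s, Q.IsLine u) ∧
        s.sum = f e ∧ (Multiset.card s : ℤ) = P.aug e ∧
        ∀ i, f (LambdaOps.lam i e) = s.esymm i := by
  obtain ⟨C, hC, h⟩ := hK
  obtain ⟨L', hL', f, hf, s, hs, hsum⟩ := h _ hC e he
  refine ⟨L'.carrier, L'.commRing, L'.lambdaOps, L'.posStr, f, s, hf, ⟨C, hL', h⟩, hs, hsum,
    ?_, fun i => ?_⟩
  · rw [← hf.aug_comp e, ← hsum, aug_sum_lines L'.posStr hs]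
  · rw [hf.isLambdaHom i e, ← hsum, lam_sum_lines L'.posStr hs]

theorem aug_lam (hK : HasSplitting K P) {e : K} (he : e ∈ P.pos) {m : ℕ} (hm : P.aug e = m)
    (i : ℕ) : P.aug (LambdaOps.lam i e) = m.choose i := by
  obtain ⟨L, _, _, Q, f, s, hf, -, hs, -, hcard, hlam⟩ := exists_splitting P hK he
  rw [← hf.aug_comp, hlam, esymm_aug_lines Q hs]
  have : Multiset.card s = m := by exact_mod_cast hcard.trans hm
  rw [this]

end Pos

end Groth.L22.Lambda
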