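import Groth.Agent.L22.AffineDim
import Groth.Agent.L03.Lattice
import Mathlib.RingTheory.FiniteStability
import Mathlib.RingTheory.TensorProduct.MvPolynomial
import Mathlib.RingTheory.Flat.Basic
import Mathlib.RingTheory.Ideal.KrullsHeightTheorem
import Mathlib.RingTheory.KrullDimension.Polynomial
import Mathlib.RingTheory.Ideal.MinimalPrime.Localization

/-!
Dimension of tensor products of affine domains and of intersections of subvarieties of affine
space.
-/

universe u

open scoped TensorProduct
open MvPolynomial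

namespace Groth.L22.TensorDim

variable (k : Type u) [Field k]

theorem eq_zero_of_map_proj {m l : ℕ} {U V : Type u} [AddCommGroup U] [Module k U]
    [AddCommGroup V] [Module k V] (x : (Fin m → U) ⊗[k] (Fin l → V))
    (h : ∀ i j, TensorProduct.map (LinearMap.proj (φ := fun _ => U) i)
      (LinearMap.proj (φ := fun _ => V) j) x = 0) : x = 0 := by
  classical
  have key : x = ∑ i, ∑ j, TensorProduct.map (LinearMap.single k (fun _ => U) i)
      (LinearMap.single k (fun _ => V) j)
      (TensorProduct.map (LinearMap.proj (φ := fun _ => U) i) (LinearMap.proj (φ := fun _ => V) j) x) := by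
    clear h
    induction x with
    | add a b ha hb =>
      simp only [map_add, Finset.sum_add_distrib]
      rw [← ha, ← hb]
    | tmul a b =>
      simp only [TensorProduct.map_tmul, LinearMap.proj_apply, LinearMap.coe_single]
      simp_rw [← TensorProduct.tmul_sum, ← TensorProduct.sum_tmul, Finset.univ_sum_single]
    | zero => simp
  rw [key]
  simp [h]

/-- Tensor products of torsion-free modules over finite extensions of polynomial rings. -/
theorem eq_zero_of_mul {U V A B : Type u} [CommRing U] [CommRing V] [IsDomain U] [IsDomain V]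
    [CommRing A] [CommRing B] [IsDomain A] [IsDomain B] [Algebra k U] [Algebra k V] [Algebra k A]
    [Algebra k B] [IsDomain (U ⊗[k] V)] (g : U →ₐ[k] A) (h : V →ₐ[k] B)
    (hg : Function.Injective g) (hh : Function.Injective h) (hgf : g.toRingHom.Finite)
    (hhf : h.toRingHom.Finite) {c : U ⊗[k] V} (hc : c ≠ 0) {t : A ⊗[k] B}
    (ht : Algebra.TensorProduct.map g h c * t = 0) : t = 0 := by
  letI := g.toRingHom.toAlgebra
  letI := h.toRingHom.toAlgebra
  haveI : IsScalarTower k U A := IsScalarTower.of_algebraMap_eq fun x => (g.commutes x).symm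
  haveI : IsScalarTower k V B := IsScalarTower.of_algebraMap_eq fun x => (h.commutes x).symm
  haveI : Module.Finite U A := hgf
  haveI : Module.Finite V B := hhf
  haveI : FaithfulSMul U A := (faithfulSMul_iff_algebraMap_injective U A).2 hg
  haveI : FaithfulSMul V B := (faithfulSMul_iff_algebraMap_injective V B).2 hh
  obtain ⟨m, f₁, g₁, c₁, hc₁, h₁, -⟩ := Groth.L03.Lattice.exists_free_comp (R := U) A
  obtain ⟨l, f₂, g₂, c₂, hc₂, h₂, -⟩ := Groth.L03.Lattice.exists_free_comp (R := V) B
  have i₁ : Function.Injective f₁ := Groth.L03.Lattice.injective_of_comp f₁ g₁ hc₁ h₁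
  have i₂ : Function.Injective f₂ := Groth.L03.Lattice.injective_of_comp f₂ g₂ hc₂ h₂
  have hinj : Function.Injective
      (TensorProduct.map (f₁.restrictScalars k) (f₂.restrictScalars k)) :=
    TensorProduct.map_injective_of_flat_flat _ _ i₁ i₂
  refine hinj ((eq_zero_of_map_proj k _ fun i j => ?_).trans (map_zero _).symm)
  let ψ : A ⊗[k] B →ₗ[k] U ⊗[k] V := TensorProduct.map
    (((LinearMap.proj (φ := fun _ => U) i).comp f₁).restrictScalars k)
    (((LinearMap.proj (φ := fun _ => V) j).comp f₂).restrictScalars k)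
  have hψ : ∀ d s, ψ (Algebra.TensorProduct.map g h d * s) = d * ψ s := by
    intro d
    induction d with
    | zero => simp
    | add a b ha hb => intro s; simp [add_mul, map_add, ha, hb]
    | tmul p q =>
      intro s
      induction s with
      | zero => simp
      | add a b ha hb => rw [mul_add, map_add, map_add, ha, hb, mul_add]
      | tmul a b =>
        simp only [ψ, Algebra.TensorProduct.map_tmul, Algebra.TensorProduct.tmul_mul_tmul,
          TensorProduct.map_tmul, LinearMap.restrictScalars_apply, LinearMap.comp_apply]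
        rw [show g p * a = p • a from rfl, show h q * b = q • b from rfl]
        simp only [map_smul, smul_eq_mul]
  have h0 : ψ t = 0 := by
    have := hψ c t
    rw [ht, map_zero] at this
    exact (mul_eq_zero.1 this.symm).resolve_left hc
  rw [← LinearMap.comp_apply, ← TensorProduct.map_comp]
  exact h0

/-- Every component of a product of affine varieties has dimension the sum of the dimensions. -/
theorem ringKrullDim_quotient_minimalPrime {A B : Type u} [CommRing A] [IsDomain A] [CommRing B]
    [IsDomain B] [Algebra k A] [Algebra.FiniteType k A] [Algebra k B] [Algebra.FiniteType k B]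
    {a b : ℕ} (ha : ringKrullDim A = (a : WithBot ℕ∞)) (hb : ringKrullDim B = (b : WithBot ℕ∞))
    {q : Ideal (A ⊗[k] B)} (hq : q ∈ minimalPrimes (A ⊗[k] B)) :
    ringKrullDim ((A ⊗[k] B) ⧸ q) = ((a + b : ℕ) : WithBot ℕ∞) := by
  obtain ⟨a', g, hginj, hgfin, ha', -⟩ := AffineDim.exists_normalization k A
  obtain ⟨b', h, hhinj, hhfin, hb', -⟩ := AffineDim.exists_normalization k B
  have e1 : a' = a := by exact_mod_cast ha'.symm.trans ha
  have e2 : b' = b := by exact_mod_cast hb'.symm.trans hb
  subst e1 e2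
  let e := MvPolynomial.tensorEquivSum k (Fin a') (Fin b') k
  haveI : IsDomain (MvPolynomial (Fin a') k ⊗[k] MvPolynomial (Fin b') k) :=
    e.toRingEquiv.isDomain _
  let φ := Algebra.TensorProduct.map g h
  haveI : q.IsPrime := hq.1.1
  have hint : φ.toRingHom.IsIntegral := by
    intro t
    induction t with
    | zero => exact RingHom.isIntegralElem_zero _
    | add x y hx hy => exact RingHom.IsIntegralElem.add _ hx hy
    | tmul x y =>
      have : x ⊗ₜ[k] y = (x ⊗ₜ[k] (1 : B)) * ((1 : A) ⊗ₜ[k] y) := by simp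
      rw [this]
      refine RingHom.IsIntegralElem.mul _ ?_ ?_
      · obtain ⟨p, hp, hpe⟩ := hgfin.to_isIntegral x
        refine ⟨p.map (Algebra.TensorProduct.includeLeft (R := k) (S := k)).toRingHom, hp.map _, ?_⟩
        rw [Polynomial.eval₂_map]
        have hc : φ.toRingHom.comp (Algebra.TensorProduct.includeLeft (R := k) (S := k)).toRingHom =
            (Algebra.TensorProduct.includeLeft (R := k) (S := k) (A := A) (B := B)).toRingHom.comp
              g.toRingHom := by
          exact RingHom.ext fun r => by simp [φ]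
        rw [hc]
        have := congrArg (Algebra.TensorProduct.includeLeft (R := k) (S := k) (A := A) (B := B)).toRingHom hpe
        rw [map_zero, Polynomial.hom_eval₂] at this
        exact this
      · obtain ⟨p, hp, hpe⟩ := hhfin.to_isIntegral y
        refine ⟨p.map (Algebra.TensorProduct.includeRight (R := k)).toRingHom, hp.map _, ?_⟩
        rw [Polynomial.eval₂_map]
        have hc : φ.toRingHom.comp (Algebra.TensorProduct.includeRight (R := k)).toRingHom =
            (Algebra.TensorProduct.includeRight (R := k) (A := A) (B := B)).toRingHom.comp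
              h.toRingHom := by
          exact RingHom.ext fun r => by simp [φ]
        rw [hc]
        have := congrArg (Algebra.TensorProduct.includeRight (R := k) (A := A) (B := B)).toRingHom hpe
        rw [map_zero, Polynomial.hom_eval₂] at this
        exact this
  let ψ := (Ideal.Quotient.mk q).comp φ.toRingHom
  have hψi : Function.Injective ψ := by
    rw [injective_iff_map_eq_zero]
    intro c hc
    by_contra hne
    have hmem : φ c ∈ q := Ideal.Quotient.eq_zero_iff_mem.1 hc
    exact notMem_nonZeroDivisors_of_mem_mem_minimalPrimes hmem hq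
      (mem_nonZeroDivisors_iff_right.2 fun t ht =>
        eq_zero_of_mul k g h hginj hhinj hgfin hhfin hne (by rw [mul_comm]; exact ht))
  letI := ψ.toAlgebra
  haveI : Algebra.IsIntegral (MvPolynomial (Fin a') k ⊗[k] MvPolynomial (Fin b') k)
      ((A ⊗[k] B) ⧸ q) :=
    ⟨RingHom.IsIntegral.trans _ _ hint
      (RingHom.isIntegral_of_surjective _ Ideal.Quotient.mk_surjective)⟩
  rw [AffineDim.ringKrullDim_eq_of_isIntegral hψi, ringKrullDim_eq_of_ringEquiv e.toRingEquiv,
    MvPolynomial.ringKrullDim_of_isNoetherianRing, ringKrullDim_eq_zero_of_field, zero_add]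
  simp

/-- The abstract form of reduction to the diagonal. -/
theorem height_ker_le {N : ℕ} (P Q Z : Ideal (MvPolynomial (Fin N) k)) [Z.IsPrime]
    (hZ : Z ∈ (P ⊔ Q).minimalPrimes) {T : Type u} [CommRing T] [Algebra k T] [IsNoetherianRing T]
    (iL iR : MvPolynomial (Fin N) k →ₐ[k] T) (π : T →ₐ[k] MvPolynomial (Fin N) k ⧸ Z)
    (hπL : ∀ r, π (iL r) = Ideal.Quotient.mk Z r) (hπR : ∀ r, π (iR r) = Ideal.Quotient.mk Z r)
    (hP : ∀ p ∈ P, iL p = 0) (hQ : ∀ q ∈ Q, iR q = 0)
    (hgen : ∀ t : T, t ∈ Algebra.adjoin k (Set.range iL ∪ Set.range iR)) :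
    (RingHom.ker π.toRingHom).height ≤ (N : ℕ∞) := by
  classical
  haveI : (RingHom.ker π.toRingHom).IsPrime := RingHom.ker_isPrime _
  let J : Ideal T := Ideal.span (Set.range fun i : Fin N => iL (X i) - iR (X i))
  have hJ : J ≤ RingHom.ker π.toRingHom := Ideal.span_le.2 (by
    rintro _ ⟨i, rfl⟩
    change π _ = 0
    rw [map_sub, hπL, hπR, sub_self])
  have hLR : ∀ r, iL r - iR r ∈ J := by
    intro r
    rw [← Ideal.Quotient.mk_eq_mk_iff_sub_mem]
    have : (Ideal.Quotient.mkₐ k J).comp iL = (Ideal.Quotient.mkₐ k J).comp iR :=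
      MvPolynomial.algHom_ext fun i => (Ideal.Quotient.mk_eq_mk_iff_sub_mem _ _).2
        (Ideal.subset_span ⟨i, rfl⟩)
    exact congrArg (fun φ : MvPolynomial (Fin N) k →ₐ[k] T ⧸ J => φ r) this
  have hsurj : ∀ t : T, ∃ r, t - iL r ∈ J := by
    intro t
    induction hgen t using Algebra.adjoin_induction with
    | mem x hx =>
      rcases hx with ⟨r, rfl⟩ | ⟨r, rfl⟩
      · exact ⟨r, by simp⟩
      · exact ⟨r, by rw [← neg_sub]; exact J.neg_mem (hLR r)⟩
    | algebraMap c => exact ⟨algebraMap k _ c, by simp⟩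
    | add x y _ _ hx hy =>
      obtain ⟨r, hr⟩ := hx
      obtain ⟨s, hs⟩ := hy
      exact ⟨r + s, by rw [map_add, add_sub_add_comm]; exact J.add_mem hr hs⟩
    | mul x y _ _ hx hy =>
      obtain ⟨r, hr⟩ := hx
      obtain ⟨s, hs⟩ := hy
      refine ⟨r * s, ?_⟩
      rw [map_mul, show x * y - iL r * iL s = x * (y - iL s) + (x - iL r) * iL s by ring]
      exact J.add_mem (J.mul_mem_left _ hs) (J.mul_mem_right _ hr)
  have hmin : RingHom.ker π.toRingHom ∈ J.minimalPrimes := by
    refine ⟨⟨inferInstance, hJ⟩, ?_⟩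
    rintro W ⟨hW, hJW⟩ hWZ t ht
    haveI := hW
    have hw : W.comap iL = Z := by
      have hle : W.comap iL ≤ Z := fun r hr => by
        have : π (iL r) = 0 := hWZ hr
        rwa [hπL, Ideal.Quotient.eq_zero_iff_mem] at this
      refine le_antisymm hle (hZ.2 ⟨Ideal.comap_isPrime _ _, sup_le (fun p hp => ?_) fun p hp => ?_⟩ hle)
      · change iL p ∈ W
        rw [hP p hp]; exact W.zero_mem
      · change iL p ∈ W
        have := hJW (hLR p)
        rwa [hQ p hp, sub_zero] at this
    obtain ⟨r, hr⟩ := hsurj t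
    have hrZ : r ∈ Z := by
      have h1 : π (t - iL r) = 0 := hJ hr
      have h2 : π t = 0 := ht
      rw [map_sub, h2, zero_sub, neg_eq_zero, hπL, Ideal.Quotient.eq_zero_iff_mem] at h1
      exact h1
    rw [← hw] at hrZ
    have := W.add_mem (hJW hr) (show iL r ∈ W from hrZ)
    rwa [sub_add_cancel] at this
  refine (Ideal.height_le_card_of_mem_minimalPrimes_span (Set.finite_range _) hmin).trans ?_
  rw [Set.ncard_eq_toFinset_card' , Set.toFinset_range]
  exact_mod_cast (Finset.card_image_le.trans (by simp))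

theorem finiteType_tensor (A B : Type u) [CommRing A] [CommRing B] [Algebra k A] [Algebra k B]
    [hA : Algebra.FiniteType k A] [hB : Algebra.FiniteType k B] : Algebra.FiniteType k (A ⊗[k] B) := by
  haveI : Algebra.FiniteType A (A ⊗[k] B) := inferInstance
  exact Algebra.FiniteType.trans (R := k) (S := A) (A := A ⊗[k] B) inferInstance inferInstance

theorem adjoin_tensor_eq_top (A B : Type u) [CommRing A] [CommRing B] [Algebra k A] [Algebra k B]
    (t : A ⊗[k] B) :
    t ∈ Algebra.adjoin k (Set.range (fun a : A => a ⊗ₜ[k] (1 : B)) ∪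
      Set.range (fun b : B => (1 : A) ⊗ₜ[k] b)) := by
  induction t with
  | zero => exact zero_mem _
  | add x y hx hy => exact add_mem hx hy
  | tmul x y =>
    rw [show x ⊗ₜ[k] y = (x ⊗ₜ[k] (1 : B)) * ((1 : A) ⊗ₜ[k] y) by simp]
    exact mul_mem (Algebra.subset_adjoin (Or.inl ⟨x, rfl⟩))
      (Algebra.subset_adjoin (Or.inr ⟨y, rfl⟩))

theorem le_dim_add {N s : ℕ} (P Q Z : Ideal (MvPolynomial (Fin N) k)) [Z.IsPrime]
    (hZ : Z ∈ (P ⊔ Q).minimalPrimes) {T : Type u} [CommRing T] [Algebra k T]
    [Algebra.FiniteType k T]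
    (hT : ∀ q ∈ minimalPrimes T, ringKrullDim (T ⧸ q) = (s : WithBot ℕ∞))
    (iL iR : MvPolynomial (Fin N) k →ₐ[k] T) (π : T →ₐ[k] MvPolynomial (Fin N) k ⧸ Z)
    (hπL : ∀ r, π (iL r) = Ideal.Quotient.mk Z r) (hπR : ∀ r, π (iR r) = Ideal.Quotient.mk Z r)
    (hP : ∀ p ∈ P, iL p = 0) (hQ : ∀ q ∈ Q, iR q = 0)
    (hgen : ∀ t : T, t ∈ Algebra.adjoin k (Set.range iL ∪ Set.range iR)) :
    (s : WithBot ℕ∞) ≤ ringKrullDim (MvPolynomial (Fin N) k ⧸ Z) + (N : WithBot ℕ∞) := by
  haveI : IsNoetherianRing T := Algebra.FiniteType.isNoetherianRing k T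
  haveI : (RingHom.ker π.toRingHom).IsPrime := RingHom.ker_isPrime _
  have hht := height_ker_le k P Q Z hZ iL iR π hπL hπR hP hQ hgen
  obtain ⟨q, hq, hqZ⟩ := Ideal.exists_minimalPrimes_le (bot_le : ⊥ ≤ RingHom.ker π.toRingHom)
  haveI := hq.1.1
  haveI : ((RingHom.ker π.toRingHom).map (Ideal.Quotient.mk q)).IsPrime :=
    Ideal.map_isPrime_of_surjective Ideal.Quotient.mk_surjective (by rwa [Ideal.mk_ker])
  obtain ⟨h, e, d, hh, he, hd, hhe⟩ :=
    AffineDim.dim_formula k (T ⧸ q) ((RingHom.ker π.toRingHom).map (Ideal.Quotient.mk q))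
  have hde : d = s := by exact_mod_cast hd.symm.trans (hT q hq)
  obtain ⟨z, -, -, -, hz, -⟩ := AffineDim.exists_normalization k (MvPolynomial (Fin N) k ⧸ Z)
  have hez : e = z := by
    rw [ringKrullDim_eq_of_ringEquiv (DoubleQuot.quotQuotEquivQuotOfLE hqZ)] at he
    have hs : Function.Surjective π := fun w => by
      obtain ⟨r, rfl⟩ := Ideal.Quotient.mk_surjective w
      exact ⟨iL r, hπL r⟩
    rw [ringKrullDim_eq_of_ringEquiv
      (RingHom.quotientKerEquivOfSurjective (f := π.toRingHom) hs), hz] at he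
    exact_mod_cast he.symm
  have hmono : StrictMono (PrimeSpectrum.comap (Ideal.Quotient.mk q)) :=
    RingHom.strictMono_comap_of_surjective Ideal.Quotient.mk_surjective
  have hle := Order.height_le_height_apply_of_strictMono _ hmono
    ⟨(RingHom.ker π.toRingHom).map (Ideal.Quotient.mk q), inferInstance⟩
  rw [← PrimeSpectrum.height_eq_orderHeight, ← PrimeSpectrum.height_eq_orderHeight] at hle
  change _ ≤ Ideal.height (((RingHom.ker π.toRingHom).map (Ideal.Quotient.mk q)).comap _) at hle
  rw [Ideal.comap_map_of_surjective _ Ideal.Quotient.mk_surjective, ← RingHom.ker_eq_comap_bot,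
    sup_eq_left.2 (Ideal.mk_ker.le.trans hqZ), hh] at hle
  have hhN : h ≤ N := by exact_mod_cast hle.trans hht
  rw [hz]
  exact_mod_cast (show s ≤ z + N by omega)

/-- Dimension of a component of the intersection of two subvarieties of affine space. -/
theorem dim_add_dim_le {N : ℕ} (P Q Z : Ideal (MvPolynomial (Fin N) k)) [P.IsPrime] [Q.IsPrime]
    (hZ : Z ∈ (P ⊔ Q).minimalPrimes) :
    ringKrullDim (MvPolynomial (Fin N) k ⧸ P) + ringKrullDim (MvPolynomial (Fin N) k ⧸ Q) ≤
      ringKrullDim (MvPolynomial (Fin N) k ⧸ Z) + (N : WithBot ℕ∞) := by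
  haveI : Z.IsPrime := hZ.1.1
  obtain ⟨a, -, -, -, ha, -⟩ := AffineDim.exists_normalization k (MvPolynomial (Fin N) k ⧸ P)
  obtain ⟨b, -, -, -, hb, -⟩ := AffineDim.exists_normalization k (MvPolynomial (Fin N) k ⧸ Q)
  haveI := finiteType_tensor k (MvPolynomial (Fin N) k ⧸ P) (MvPolynomial (Fin N) k ⧸ Q)
  rw [ha, hb, ← Nat.cast_add]
  refine le_dim_add k P Q Z hZ
    (fun q hq => ringKrullDim_quotient_minimalPrime k ha hb hq)
    (Algebra.TensorProduct.includeLeft.comp (Ideal.Quotient.mkₐ k P))
    (Algebra.TensorProduct.includeRight.comp (Ideal.Quotient.mkₐ k Q))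
    (Algebra.TensorProduct.lift
      (Ideal.quotientMapₐ Z (AlgHom.id k _) (le_sup_left.trans hZ.1.2))
      (Ideal.quotientMapₐ Z (AlgHom.id k _) (le_sup_right.trans hZ.1.2))
      fun _ _ => Commute.all _ _)
    (fun r => by simp) (fun r => by simp)
    (fun p hp => by simp [Ideal.Quotient.eq_zero_iff_mem.2 hp])
    (fun p hp => by simp [Ideal.Quotient.eq_zero_iff_mem.2 hp]) fun t => ?_
  refine Algebra.adjoin_mono (Set.union_subset_union ?_ ?_) (adjoin_tensor_eq_top k _ _ t)
  · rintro _ ⟨a, rfl⟩
    obtain ⟨r, rfl⟩ := Ideal.Quotient.mk_surjective a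
    exact ⟨r, rfl⟩
  · rintro _ ⟨a, rfl⟩
    obtain ⟨r, rfl⟩ := Ideal.Quotient.mk_surjective a
    exact ⟨r, rfl⟩

end Groth.L22.TensorDim
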