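import Groth.Agent.L03.Catenary
import Mathlib.RingTheory.KrullDimension.Polynomial
import Mathlib.RingTheory.AlgebraicIndependent.TranscendenceBasis
import Mathlib.RingTheory.Algebraic.Integral
import Mathlib.SetTheory.Cardinal.ENat

/-!
The dimension formula (inequality for Noetherian domains, equality over universally catenary ones).
-/

universe u

open Polynomial Cardinal

namespace Groth.L22.DimFormula

/-! ### Heights in quotients -/

theorem height_map_mk_add_le {A : Type u} [CommRing A] [IsNoetherianRing A] {Q P : Ideal A}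
    [Q.IsPrime] [P.IsPrime] (h : Q ≤ P) :
    (P.map (Ideal.Quotient.mk Q)).height + Q.height ≤ P.height := by
  haveI : (P.map (Ideal.Quotient.mk Q)).IsPrime :=
    Ideal.map_isPrime_of_surjective Ideal.Quotient.mk_surjective (by rw [Ideal.mk_ker]; exact h)
  obtain ⟨s, hsl, hsn⟩ := Q.exists_ltSeries_length_eq_height
  obtain ⟨t, htl, htn⟩ := (P.map (Ideal.Quotient.mk Q)).exists_ltSeries_length_eq_height
  let e : PrimeSpectrum (A ⧸ Q) → PrimeSpectrum A := PrimeSpectrum.comap (Ideal.Quotient.mk Q)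
  let t' := t.map e (RingHom.strictMono_comap_of_surjective Ideal.Quotient.mk_surjective)
  have hcomap : (P.map (Ideal.Quotient.mk Q)).comap (Ideal.Quotient.mk Q) = P := by
    rw [Ideal.comap_map_mk h]
  have hlast : t'.last.asIdeal = P := by
    rw [LTSeries.last_map, htl]
    exact hcomap
  have hhead : Q ≤ t'.head.asIdeal := by
    rw [LTSeries.head_map]
    intro a ha
    show Ideal.Quotient.mk Q a ∈ t.head.asIdeal
    rw [Ideal.Quotient.eq_zero_iff_mem.2 ha]
    exact zero_mem _
  have key : ∀ (l : LTSeries (PrimeSpectrum A)), l.last.asIdeal = P →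
      (l.length : ℕ∞) ≤ P.height := fun l hl => by
    rw [show P.height = Order.height (⟨P, inferInstance⟩ : PrimeSpectrum A) from
      PrimeSpectrum.height_eq_orderHeight ⟨P, inferInstance⟩]
    have : l.last = ⟨P, inferInstance⟩ := PrimeSpectrum.ext hl
    exact Order.length_le_height (this.le)
  rcases eq_or_lt_of_le hhead with heq | hlt
  · have h1 : s.last = t'.head := by rw [hsl]; exact PrimeSpectrum.ext heq
    have h2 := key (s.smash t' h1) (by rw [RelSeries.last_smash]; exact hlast)
    rw [RelSeries.smash_length, Nat.cast_add] at h2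
    rw [← hsn, ← htn, add_comm]
    exact h2
  · have h1 : s.last < t'.head := by rw [hsl]; exact hlt
    have h2 := key (s.append t' h1) (by rw [RelSeries.last_append]; exact hlast)
    rw [RelSeries.append_length] at h2
    rw [← hsn, ← htn, add_comm]
    refine le_trans ?_ h2
    norm_cast
    show s.length + t.length ≤ s.length + t.length + 1
    omega

theorem covBy_of_length_eq_height {α : Type*} [PartialOrder α] {s : LTSeries α}
    (hs : (s.length : ℕ∞) = Order.height s.last) :
    IsMin s.head ∧ ∀ i : Fin s.length, s (Fin.castSucc i) ⋖ s (Fin.succ i) := by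
  refine ⟨?_, fun i => ⟨s.step i, fun z h1 h2 => ?_⟩⟩
  · rw [← Order.height_eq_zero, RelSeries.head, Order.height_eq_index_of_length_eq_height_last hs]
    simp
  · have a := Order.height_eq_index_of_length_eq_height_last hs (Fin.castSucc i)
    have b := Order.height_eq_index_of_length_eq_height_last hs (Fin.succ i)
    have c := Order.height_add_one_le h1
    have d := Order.height_add_one_le h2
    rw [a] at c
    rw [b] at d
    have e := (add_le_add c le_rfl).trans d
    simp only [Fin.val_castSucc, Fin.val_succ] at e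
    norm_cast at e
    omega

theorem height_map_mk_add_eq {A : Type u} [CommRing A] [IsDomain A] [IsNoetherianRing A]
    (hA : CAlg.IsCatenary A) {Q P : Ideal A} [Q.IsPrime] [P.IsPrime] (h : Q ≤ P) :
    (P.map (Ideal.Quotient.mk Q)).height + Q.height = P.height := by
  haveI : (P.map (Ideal.Quotient.mk Q)).IsPrime :=
    Ideal.map_isPrime_of_surjective Ideal.Quotient.mk_surjective (by rw [Ideal.mk_ker]; exact h)
  obtain ⟨s, hsl, hsn⟩ := Q.exists_ltSeries_length_eq_height
  obtain ⟨t, htl, htn⟩ := (P.map (Ideal.Quotient.mk Q)).exists_ltSeries_length_eq_height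
  obtain ⟨u, hul, hun⟩ := P.exists_ltSeries_length_eq_height
  let e : PrimeSpectrum (A ⧸ Q) ↪o PrimeSpectrum A :=
    Groth.L03.Catenary.comapEmb (Ideal.Quotient.mk Q) fun x y h a ha => by
      obtain ⟨b, rfl⟩ := Ideal.Quotient.mk_surjective a
      exact h ha
  have he : (Set.range e).OrdConnected := by
    have : Set.range e = PrimeSpectrum.zeroLocus (Q : Set A) := by
      change Set.range (PrimeSpectrum.comap (Ideal.Quotient.mk Q)) = _
      rw [range_comap_of_surjective _ _ Ideal.Quotient.mk_surjective, Ideal.mk_ker]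
    rw [this]
    exact ⟨fun x hx y _ z hz => (show (Q : Set A) ⊆ x.asIdeal from hx).trans hz.1⟩
  have cs := covBy_of_length_eq_height (s := s) (by
    rw [hsn, hsl]; exact PrimeSpectrum.height_eq_orderHeight ⟨_, _⟩)
  have ct := covBy_of_length_eq_height (s := t) (by
    rw [htn, htl]; exact PrimeSpectrum.height_eq_orderHeight ⟨_, _⟩)
  have cu := covBy_of_length_eq_height (s := u) (by
    rw [hun, hul]; exact PrimeSpectrum.height_eq_orderHeight ⟨_, _⟩)
  let t' := t.map e e.strictMono
  let bq : PrimeSpectrum (A ⧸ Q) := ⟨⊥, Ideal.isPrime_bot⟩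
  have hth : t.head = bq := le_antisymm (ct.1 (show bq ≤ t.head from bot_le)) bot_le
  have hhead : s.last = t'.head := by
    rw [hsl, LTSeries.head_map, hth]
    refine PrimeSpectrum.ext ?_
    show Q = Ideal.comap (Ideal.Quotient.mk Q) ⊥
    rw [← RingHom.ker, Ideal.mk_ker]
  have hlast : (s.smash t' hhead).last = u.last := by
    rw [RelSeries.last_smash, LTSeries.last_map, hul, htl]
    refine PrimeSpectrum.ext ?_
    show (P.map (Ideal.Quotient.mk Q)).comap (Ideal.Quotient.mk Q) = P
    rw [Ideal.comap_map_mk h]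
  let b0 : PrimeSpectrum A := ⟨⊥, Ideal.isPrime_bot⟩
  have hheads : (s.smash t' hhead).head = u.head := by
    rw [RelSeries.head_smash]
    exact (le_antisymm (cs.1 (show b0 ≤ s.head from bot_le)) (show b0 ≤ s.head from bot_le)).trans
      (le_antisymm (cu.1 (show b0 ≤ u.head from bot_le)) (show b0 ≤ u.head from bot_le)).symm
  have hlen := hA.2 (s.smash t' hhead) u hheads hlast (fun i => ?_) cu.2
  · rw [RelSeries.smash_length] at hlen
    rw [← hsn, ← htn, ← hun, ← hlen, add_comm]
    exact Nat.cast_add _ _ |>.symm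
  · refine Fin.addCases (fun j => ?_) (fun j => ?_) i
    · erw [RelSeries.smash_castAdd hhead j, RelSeries.smash_succ_castAdd hhead j]
      exact cs.2 j
    · erw [RelSeries.smash_natAdd hhead j, RelSeries.smash_succ_natAdd hhead j]
      exact (he.apply_covBy_apply_iff e).2 (ct.2 j)

/-! ### Primes of polynomial rings -/

theorem isAlgebraic_quotient {D : Type u} [CommRing D] [IsDomain D] {Q : Ideal D[X]} (hQ : Q ≠ ⊥) :
    Algebra.IsAlgebraic D (D[X] ⧸ Q) := by
  obtain ⟨f, hf, hf0⟩ := Submodule.exists_mem_ne_zero_of_ne_bot hQ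
  have hx : IsAlgebraic D (Ideal.Quotient.mkₐ D Q X) :=
    ⟨f, hf0, by rw [aeval_algHom_apply, aeval_X_left_apply]; exact Ideal.Quotient.eq_zero_iff_mem.2 hf⟩
  have htop : Algebra.adjoin D {Ideal.Quotient.mkₐ D Q X} = ⊤ := by
    rw [← AlgHom.map_adjoin_singleton, Polynomial.adjoin_X, Algebra.map_top]
    exact (AlgHom.range_eq_top _).2 Ideal.Quotient.mk_surjective
  have h := (Algebra.isAlgebraic_adjoin_iff (R := D) (s := {Ideal.Quotient.mkₐ D Q X})).2
    (by rintro x rfl; exact hx)
  rw [htop] at h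
  exact ⟨fun x => h x trivial⟩

theorem height_add_trdeg_poly_over_bot {D : Type u} [CommRing D] [IsDomain D] (Q : Ideal D[X])
    [Q.IsPrime] (hQ : Q.comap C = ⊥) :
    (Q.height : Cardinal.{u}) + Algebra.trdeg D (D[X] ⧸ Q) = 1 ∧ Q.height ≤ 1 := by
  by_cases hQ0 : Q = ⊥
  · subst hQ0
    rw [Ideal.height_bot]
    refine ⟨?_, zero_le⟩
    rw [Cardinal.ofENat_zero, zero_add, (AlgEquiv.quotientBot D D[X]).trdeg_eq,
      Polynomial.trdeg_of_isDomain]
  · haveI := isAlgebraic_quotient hQ0
    rw [trdeg_eq_zero, add_zero]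
    suffices h : Q.height = 1 by rw [h]; simp
    let K := FractionRing D
    letI : Algebra D[X] K[X] := Polynomial.algebra D K
    haveI : IsLocalization ((nonZeroDivisors D).map C) K[X] :=
      Polynomial.isLocalization (nonZeroDivisors D) K
    have hdisj : Disjoint (((nonZeroDivisors D).map C : Submonoid D[X]) : Set D[X]) Q := by
      refine Set.disjoint_left.2 ?_
      rintro a ⟨b, hb, rfl⟩ ha
      refine nonZeroDivisors.ne_zero hb ?_
      have : b ∈ Q.comap C := ha
      rwa [hQ, Ideal.mem_bot] at this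
    rw [← IsLocalization.height_map_of_disjoint ((nonZeroDivisors D).map C) Q hdisj (S := K[X])]
    haveI hp : (Q.map (algebraMap D[X] K[X])).IsPrime :=
      IsLocalization.isPrime_of_isPrime_disjoint ((nonZeroDivisors D).map C) K[X] Q inferInstance hdisj
    have hne : Q.map (algebraMap D[X] K[X]) ≠ ⊥ := fun h => hQ0 (by
      rw [Ideal.map_eq_bot_iff_of_injective
        (Polynomial.map_injective _ (IsFractionRing.injective D K))] at h
      exact h)
    haveI := hp.isMaximal hne
    exact IsPrincipalIdealRing.height_eq_one_of_isMaximal _ (Polynomial.not_isField K)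

/-- The dimension formula for one polynomial variable. -/
theorem height_add_one_eq {A : Type u} [CommRing A] [IsNoetherianRing A] (p : Ideal A) [p.IsPrime]
    (q : Ideal A[X]) [q.IsPrime] [q.LiesOver p] :
    (p.height : Cardinal.{u}) + 1 = (q.height : Cardinal.{u}) + Algebra.trdeg (A ⧸ p) (A[X] ⧸ q) := by
  rw [Ideal.height_eq_height_add_of_liesOver_of_hasGoingDown p q, Cardinal.ofENat_add, add_assoc,
    Polynomial.algebraMap_eq]
  congr 1
  have hqp : p = q.comap C := q.over_def p
  have hle : p.map C ≤ q := Ideal.map_le_iff_le_comap.2 hqp.le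
  let e : (A[X] ⧸ (p.map C : Ideal A[X])) ≃+* (A ⧸ p)[X] :=
    (Ideal.polynomialQuotientEquivQuotientPolynomial p).symm
  let Qb := q.map (Ideal.Quotient.mk (p.map C : Ideal A[X]))
  haveI : Qb.IsPrime :=
    Ideal.map_isPrime_of_surjective Ideal.Quotient.mk_surjective (by rw [Ideal.mk_ker]; exact hle)
  let Q : Ideal (A ⧸ p)[X] := Qb.map e
  haveI : Q.IsPrime := Ideal.map_isPrime_of_equiv e
  let ψ : A[X] →+* (A ⧸ p)[X] := mapRingHom (Ideal.Quotient.mk p)
  have hψ : ∀ f, e (Ideal.Quotient.mk _ f) = ψ f := fun f =>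
    Ideal.polynomialQuotientEquivQuotientPolynomial_symm_mk p f
  have hψs : Function.Surjective ψ := map_surjective _ Ideal.Quotient.mk_surjective
  have hQ : Q = q.map ψ := by
    show (q.map (Ideal.Quotient.mk (p.map C : Ideal A[X]))).map e.toRingHom = _
    rw [Ideal.map_map]
    exact congrArg (fun φ => Ideal.map φ q) (RingHom.ext hψ)
  have hQq : Q.comap ψ = q := by
    rw [hQ, Ideal.comap_map_of_surjective _ hψs, sup_eq_left, ← RingHom.ker_eq_comap_bot,
      ker_mapRingHom, Ideal.mk_ker]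
    exact hle
  have hQC : Q.comap C = ⊥ := by
    rw [eq_bot_iff]
    intro a ha
    obtain ⟨a, rfl⟩ := Ideal.Quotient.mk_surjective a
    rw [Ideal.mem_bot, Ideal.Quotient.eq_zero_iff_mem, hqp]
    show C a ∈ q
    rw [← hQq, Ideal.mem_comap]
    show (C a).map (Ideal.Quotient.mk p) ∈ Q
    rwa [map_C]
  rw [← (height_add_trdeg_poly_over_bot Q hQC).1,
    show (Q.height : ℕ∞) = Qb.height from e.height_map Qb]
  congr 1
  let φ : A[X] →+* (A ⧸ p)[X] ⧸ Q := (Ideal.Quotient.mk Q).comp ψ
  have hφker : RingHom.ker φ = q := by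
    rw [← RingHom.comap_ker, Ideal.mk_ker, hQq]
  let e₂ : (A[X] ⧸ q) ≃+* ((A ⧸ p)[X] ⧸ Q) :=
    (Ideal.quotEquivOfEq hφker.symm).trans
      (RingHom.quotientKerEquivOfSurjective (Ideal.Quotient.mk_surjective.comp hψs))
  refine (AlgEquiv.ofRingEquiv (f := e₂) fun a => ?_).trdeg_eq.symm
  obtain ⟨a, rfl⟩ := Ideal.Quotient.mk_surjective a
  show φ (C a) = _
  show Ideal.Quotient.mk Q ((C a).map (Ideal.Quotient.mk p)) = _
  rw [map_C]
  rfl

/-! ### The dimension formula -/

theorem height_ne_top {A : Type u} [CommRing A] [IsNoetherianRing A] (P : Ideal A) [P.IsPrime] :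
    P.height ≠ ⊤ := Ideal.height_ne_top (Ideal.IsPrime.ne_top ‹_›)

variable {R S : Type u} [CommRing R] [IsDomain R] [IsNoetherianRing R] [CommRing S] [IsDomain S]
  [Algebra R S] [FaithfulSMul R S]

theorem dim_formula_step (x : S) (hx : Algebra.adjoin R {x} = ⊤) (p : Ideal R) [p.IsPrime]
    (q : Ideal S) [q.IsPrime] [q.LiesOver p] :
    (q.height : Cardinal.{u}) + Algebra.trdeg (R ⧸ p) (S ⧸ q) ≤
        (p.height : Cardinal.{u}) + Algebra.trdeg R S ∧
      (CAlg.IsCatenary R[X] → (q.height : Cardinal.{u}) + Algebra.trdeg (R ⧸ p) (S ⧸ q) =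
        (p.height : Cardinal.{u}) + Algebra.trdeg R S) := by
  let φ : R[X] →ₐ[R] S := aeval x
  have hφ : Function.Surjective φ := by
    rw [← AlgHom.range_eq_top, ← Algebra.adjoin_singleton_eq_range_aeval, hx]
  let Q : Ideal R[X] := RingHom.ker φ
  haveI : Q.IsPrime := RingHom.ker_isPrime _
  let q' : Ideal R[X] := q.comap φ
  haveI : q'.IsPrime := Ideal.IsPrime.comap _
  have hQq : Q ≤ q' := fun f hf => by
    show φ f ∈ q
    rw [show φ f = 0 from hf]
    exact zero_mem _
  haveI : q'.LiesOver p := ⟨by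
    rw [q.over_def p]
    ext a
    show algebraMap R S a ∈ q ↔ φ (algebraMap R R[X] a) ∈ q
    rw [AlgHom.commutes]⟩
  have hQC : Q.comap C = ⊥ := by
    rw [eq_bot_iff]
    intro a ha
    rw [Ideal.mem_bot]
    refine (map_eq_zero_iff _ (FaithfulSMul.algebraMap_injective R S)).1 ?_
    rw [← aeval_C (R := R) x a]
    exact ha
  let e : (R[X] ⧸ Q) ≃ₐ[R] S := Ideal.quotientKerAlgEquivOfSurjective hφ
  have hh : q.height = (q'.map (Ideal.Quotient.mk Q)).height := by
    rw [← RingEquiv.height_map e.toRingEquiv (q'.map (Ideal.Quotient.mk Q))]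
    show q.height = ((q'.map (Ideal.Quotient.mk Q)).map e.toRingEquiv.toRingHom).height
    rw [Ideal.map_map, show e.toRingEquiv.toRingHom.comp (Ideal.Quotient.mk Q) = φ.toRingHom from
        RingHom.ext fun f => rfl]
    exact congrArg Ideal.height (Ideal.map_comap_of_surjective φ.toRingHom hφ q).symm
  have hT := (height_add_trdeg_poly_over_bot Q hQC).1
  have hQ1 : (Q.height : Cardinal.{u}) < ℵ₀ := by
    rw [Cardinal.ofENat_lt_aleph0]; exact (height_ne_top Q).lt_top
  rw [e.trdeg_eq] at hT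
  have hp := height_add_one_eq p q'
  let e₂ : (R[X] ⧸ q') ≃+* (S ⧸ q) :=
    (Ideal.quotEquivOfEq (show q' = RingHom.ker ((Ideal.Quotient.mk q).comp φ.toRingHom) by
      rw [← RingHom.comap_ker, Ideal.mk_ker]; rfl)).trans
      (RingHom.quotientKerEquivOfSurjective (Ideal.Quotient.mk_surjective.comp hφ))
  have ht : Algebra.trdeg (R ⧸ p) (R[X] ⧸ q') = Algebra.trdeg (R ⧸ p) (S ⧸ q) :=
    (AlgEquiv.ofRingEquiv (f := e₂) fun a => by
      obtain ⟨a, rfl⟩ := Ideal.Quotient.mk_surjective a
      show Ideal.Quotient.mk q (φ (algebraMap R R[X] a)) = _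
      rw [AlgHom.commutes]
      rfl).trdeg_eq
  rw [ht] at hp
  constructor
  · rw [← Cardinal.add_le_add_iff_of_lt_aleph0 hQ1]
    calc (q.height : Cardinal.{u}) + Algebra.trdeg (R ⧸ p) (S ⧸ q) + Q.height
        = ((q.height + Q.height : ℕ∞) : Cardinal.{u}) + Algebra.trdeg (R ⧸ p) (S ⧸ q) := by
          rw [Cardinal.ofENat_add, add_right_comm]
      _ ≤ (q'.height : Cardinal.{u}) + Algebra.trdeg (R ⧸ p) (S ⧸ q) := by
          gcongr
          rw [hh]
          exact height_map_mk_add_le hQq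
      _ = (p.height : Cardinal.{u}) + Algebra.trdeg R S + Q.height := by
          rw [← hp, ← hT, add_assoc, add_comm (Algebra.trdeg R S)]
  · intro hcat
    refine Cardinal.eq_of_add_eq_add_right ?_ hQ1
    calc (q.height : Cardinal.{u}) + Algebra.trdeg (R ⧸ p) (S ⧸ q) + Q.height
        = ((q.height + Q.height : ℕ∞) : Cardinal.{u}) + Algebra.trdeg (R ⧸ p) (S ⧸ q) := by
          rw [Cardinal.ofENat_add, add_right_comm]
      _ = (q'.height : Cardinal.{u}) + Algebra.trdeg (R ⧸ p) (S ⧸ q) := by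
          rw [hh, height_map_mk_add_eq hcat hQq]
      _ = (p.height : Cardinal.{u}) + Algebra.trdeg R S + Q.height := by
          rw [← hp, ← hT, add_assoc, add_comm (Algebra.trdeg R S)]

omit [IsDomain S] [FaithfulSMul R S] in
theorem isUniversallyCatenary_of_finiteType (hR : CAlg.IsUniversallyCatenary R)
    [Algebra.FiniteType R S] : CAlg.IsUniversallyCatenary S :=
  ⟨Algebra.FiniteType.isNoetherianRing R S, fun T _ _ hT => by
    letI : Algebra R T := ((algebraMap S T).comp (algebraMap R S)).toAlgebra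
    haveI : IsScalarTower R S T := IsScalarTower.of_algebraMap_eq fun _ => rfl
    exact hR.2 T (Algebra.FiniteType.trans ‹_› hT)⟩

theorem dim_formula_aux : ∀ (n : ℕ) (S : Type u) [CommRing S] [IsDomain S] [Algebra R S]
    [FaithfulSMul R S] (v : Fin n → S) (_ : Algebra.adjoin R (Set.range v) = ⊤)
    (p : Ideal R) [p.IsPrime] (q : Ideal S) [q.IsPrime] [q.LiesOver p],
    (q.height : Cardinal.{u}) + Algebra.trdeg (R ⧸ p) (S ⧸ q) ≤
        (p.height : Cardinal.{u}) + Algebra.trdeg R S ∧
      (CAlg.IsUniversallyCatenary R → (q.height : Cardinal.{u}) + Algebra.trdeg (R ⧸ p) (S ⧸ q) =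
        (p.height : Cardinal.{u}) + Algebra.trdeg R S) := by
  intro n
  induction n with
  | zero =>
    intro S _ _ _ _ v hv p _ q _ _
    have hs : Function.Surjective (algebraMap R S) := by
      intro y
      have : y ∈ Algebra.adjoin R (Set.range v) := hv ▸ trivial
      rwa [Set.range_eq_empty, Algebra.adjoin_empty, Algebra.mem_bot] at this
    let e : R ≃+* S := RingEquiv.ofBijective (algebraMap R S)
      ⟨FaithfulSMul.algebraMap_injective R S, hs⟩
    have hh : q.height = p.height := by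
      rw [q.over_def p]
      exact (RingEquiv.height_comap e q).symm
    haveI : Algebra.IsAlgebraic R S :=
      ⟨fun y => by obtain ⟨a, rfl⟩ := hs y; exact isAlgebraic_algebraMap a⟩
    haveI : Algebra.IsAlgebraic (R ⧸ p) (S ⧸ q) := ⟨fun y => by
      obtain ⟨y, rfl⟩ := Ideal.Quotient.mk_surjective y
      obtain ⟨a, rfl⟩ := hs y
      exact isAlgebraic_algebraMap (R := R ⧸ p) (A := S ⧸ q) (Ideal.Quotient.mk p a)⟩
    simp [hh, trdeg_eq_zero]
  | succ n ih =>
    intro S _ _ _ _ v hv p _ q _ _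
    let S₁ := Algebra.adjoin R (Set.range (v ∘ Fin.castSucc))
    let v₁ : Fin n → S₁ := fun i => ⟨v i.castSucc, Algebra.subset_adjoin ⟨i, rfl⟩⟩
    have hv₁ : Algebra.adjoin R (Set.range v₁) = ⊤ := by
      refine Subalgebra.map_injective (f := S₁.val) Subtype.val_injective ?_
      rw [AlgHom.map_adjoin, Algebra.map_top, ← Set.range_comp, Subalgebra.range_val]
      rfl
    haveI : Algebra.FiniteType R S₁ :=
      ⟨⟨(Set.finite_range v₁).toFinset, by rw [Set.Finite.coe_toFinset]; exact hv₁⟩⟩
    haveI : IsNoetherianRing S₁ := Algebra.FiniteType.isNoetherianRing R S₁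
    haveI : FaithfulSMul R S₁ := (faithfulSMul_iff_algebraMap_injective _ _).2 fun a b h =>
      FaithfulSMul.algebraMap_injective R S (congrArg Subtype.val h)
    haveI : FaithfulSMul S₁ S := (faithfulSMul_iff_algebraMap_injective _ _).2 Subtype.val_injective
    have hxS : Algebra.adjoin S₁ {v (Fin.last n)} = ⊤ := by
      refine Subalgebra.restrictScalars_injective R ?_
      rw [Subalgebra.restrictScalars_top, ← Algebra.adjoin_union_eq_adjoin_adjoin, eq_top_iff, ← hv]
      refine Algebra.adjoin_mono ?_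
      rintro _ ⟨i, rfl⟩
      induction i using Fin.lastCases with
      | last => exact Or.inr rfl
      | cast i => exact Or.inl ⟨i, rfl⟩
    let q₁ : Ideal S₁ := q.under S₁
    haveI : q₁.IsPrime := Ideal.IsPrime.under _ _
    haveI : q.LiesOver q₁ := ⟨rfl⟩
    haveI : q₁.LiesOver p := Ideal.LiesOver.tower_bot q q₁ p
    have h1 := ih S₁ v₁ hv₁ p q₁
    have h2 := dim_formula_step (R := S₁) (v (Fin.last n)) hxS q₁ q
    have hT : Algebra.trdeg R S₁ + Algebra.trdeg S₁ S = Algebra.trdeg R S := trdeg_add_eq R S₁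
    haveI : IsScalarTower (R ⧸ p) (S₁ ⧸ q₁) (S ⧸ q) := IsScalarTower.of_algebraMap_eq fun a => by
      obtain ⟨a, rfl⟩ := Ideal.Quotient.mk_surjective a
      rfl
    have ht : Algebra.trdeg (R ⧸ p) (S₁ ⧸ q₁) + Algebra.trdeg (S₁ ⧸ q₁) (S ⧸ q) =
        Algebra.trdeg (R ⧸ p) (S ⧸ q) := trdeg_add_eq (R ⧸ p) (S₁ ⧸ q₁)
    constructor
    · calc (q.height : Cardinal.{u}) + Algebra.trdeg (R ⧸ p) (S ⧸ q)
          = (q.height : Cardinal.{u}) + Algebra.trdeg (S₁ ⧸ q₁) (S ⧸ q) +
              Algebra.trdeg (R ⧸ p) (S₁ ⧸ q₁) := by rw [← ht, add_assoc]; congr 1; exact add_comm _ _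
        _ ≤ (q₁.height : Cardinal.{u}) + Algebra.trdeg S₁ S +
              Algebra.trdeg (R ⧸ p) (S₁ ⧸ q₁) := add_le_add h2.1 le_rfl
        _ = (q₁.height : Cardinal.{u}) + Algebra.trdeg (R ⧸ p) (S₁ ⧸ q₁) + Algebra.trdeg S₁ S :=
            add_right_comm _ _ _
        _ ≤ (p.height : Cardinal.{u}) + Algebra.trdeg R S₁ + Algebra.trdeg S₁ S :=
            add_le_add h1.1 le_rfl
        _ = _ := by rw [add_assoc, hT]
    · intro hR
      have hc : CAlg.IsCatenary S₁[X] :=
        (isUniversallyCatenary_of_finiteType (S := S₁) hR).2 _ inferInstance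
      rw [← ht, add_comm (Algebra.trdeg (R ⧸ p) (S₁ ⧸ q₁)), ← add_assoc, h2.2 hc,
        add_right_comm, h1.2 hR, add_assoc, hT]

theorem dim_formula [Algebra.FiniteType R S] (p : Ideal R) [p.IsPrime] (q : Ideal S) [q.IsPrime]
    [q.LiesOver p] :
    (q.height : Cardinal.{u}) + Algebra.trdeg (R ⧸ p) (S ⧸ q) ≤
        (p.height : Cardinal.{u}) + Algebra.trdeg R S ∧
      (CAlg.IsUniversallyCatenary R → (q.height : Cardinal.{u}) + Algebra.trdeg (R ⧸ p) (S ⧸ q) =
        (p.height : Cardinal.{u}) + Algebra.trdeg R S) := by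
  obtain ⟨s, hs⟩ := (Algebra.FiniteType.out : (⊤ : Subalgebra R S).FG)
  refine dim_formula_aux s.card S (fun i => (s.equivFin.symm i : S)) ?_ p q
  rw [← hs]
  congr 1
  ext y
  exact ⟨fun ⟨i, hi⟩ => hi ▸ (s.equivFin.symm i).2, fun hy => ⟨s.equivFin ⟨y, hy⟩, by simp⟩⟩

end Groth.L22.DimFormula
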