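import Groth.Agent.L01.TorLES
import Groth.Agent.L28.TorFacts
import Mathlib.CategoryTheory.Abelian.Projective.Dimension

/-!
`Tor_i(M, N) = 0` for `i` above the projective dimension of `N`.
-/

set_option autoImplicit false
universe u

open CategoryTheory CategoryTheory.Limits

namespace Groth.L22.TorPd

variable {A : Type u} [CommRing A]

theorem isZero_tor_of_hasProjectiveDimensionLE (M : ModuleCat.{u} A) (d : ℕ) :
    ∀ (N : ModuleCat.{u} A) [HasProjectiveDimensionLE N d] (i : ℕ), d < i →
      IsZero (((CategoryTheory.Tor (ModuleCat.{u} A) i).obj M).obj N) := by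
  induction d with
  | zero =>
    intro N hN i hi
    obtain ⟨n, rfl⟩ := Nat.exists_eq_add_one_of_ne_zero hi.ne'
    have : Projective N := (projective_iff_hasProjectiveDimensionLE_zero N).2 hN
    haveI : Module.Projective A N := (IsProjective.iff_projective _).mpr this
    exact Groth.L28.TorFacts.isZero_of_flat_right M N n
  | succ d ih =>
    intro N hN i hi
    obtain ⟨n, rfl⟩ := Nat.exists_eq_add_one_of_ne_zero (show i ≠ 0 by omega)
    let S := ShortComplex.mk (kernel.ι (Projective.π N)) (Projective.π N) (kernel.condition _)
    have hS : S.ShortExact :=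
      { exact := ShortComplex.exact_of_f_is_kernel _ (kernelIsKernel _) }
    haveI : Projective S.X₂ := inferInstanceAs (Projective (Projective.over N))
    haveI : HasProjectiveDimensionLE S.X₁ d := (hS.hasProjectiveDimensionLT_X₃_iff d inferInstance).1 hN
    haveI : Module.Projective A S.X₂ := (IsProjective.iff_projective _).mpr inferInstance
    exact Groth.L01.TorLES.isZero_three M hS n (Groth.L28.TorFacts.isZero_of_flat_right M S.X₂ n)
      (ih S.X₁ n (by omega))

end Groth.L22.TorPd
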