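import Groth.Agent.L22.Monomial
import Groth.Prelude.Def_FEt
import Mathlib.RingTheory.Ideal.KrullsHeightTheorem
import Mathlib.AlgebraicGeometry.AffineScheme
import Mathlib.AlgebraicGeometry.Morphisms.ClosedImmersion

/-!
The punctured spectrum of a Noetherian local ring is affine iff the dimension is at most one.
-/

universe u

open CategoryTheory AlgebraicGeometry TopologicalSpace Opposite

namespace Groth.L22.Punctured

/-- Two step chains below the maximal ideal detect dimension `> 1`. -/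
theorem exists_chain_of_not_dim_le_one (A : Type u) [CommRing A] [IsLocalRing A]
    (h : ¬ ringKrullDim A ≤ 1) :
    ∃ p q : Ideal A, p.IsPrime ∧ q.IsPrime ∧ p < q ∧ q < IsLocalRing.maximalIdeal A := by
  by_contra hcon
  push Not at hcon
  refine h ?_
  have : Ring.KrullDimLE 1 A := Ring.krullDimLE_one_iff.2 fun I hI => by
    by_cases hm : I = IsLocalRing.maximalIdeal A
    · exact Or.inr (hm ▸ IsLocalRing.maximalIdeal.isMaximal A)
    left
    obtain ⟨p, hp, hpI⟩ := Ideal.exists_minimalPrimes_le (bot_le : (⊥ : Ideal A) ≤ I)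
    rcases eq_or_lt_of_le hpI with rfl | hlt
    · exact hp
    · exact absurd (lt_of_le_of_ne (IsLocalRing.le_maximalIdeal hI.ne_top) hm)
        (hcon p I hp.1.1 hI hlt)
  exact_mod_cast (Ring.krullDimLE_iff.1 this)

theorem eq_maximal_of_dim_le_one {A : Type u} [CommRing A] [IsLocalRing A]
    (h : ringKrullDim A ≤ 1) {p q : Ideal A} [hp : p.IsPrime] [hq : q.IsPrime] (hpq : p < q) :
    q = IsLocalRing.maximalIdeal A := by
  have : Ring.KrullDimLE 1 A := Ring.krullDimLE_iff.2 (by exact_mod_cast h)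
  rcases Ring.krullDimLE_one_iff.1 this q hq with hmin | hmax
  · exact absurd (hmin.2 ⟨hp, bot_le⟩ hpq.le) (not_le_of_gt hpq)
  · exact IsLocalRing.eq_maximalIdeal hmax

theorem mem_basicOpen_res {R : CommRingCat.{u}} {U : (Spec R).Opens} (a : R) {z : Spec R} :
    z ∈ (Spec R).basicOpen (algebraMap R Γ(Spec R, U) a) ↔
      z ∈ U ∧ a ∉ (z : PrimeSpectrum R).asIdeal := by
  rw [IsAffineOpen.algebraMap_Spec_obj, CommRingCat.hom_comp, RingHom.comp_apply]
  erw [Scheme.basicOpen_res, basicOpen_eq_of_affine]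
  exact Iff.rfl

theorem res_algebraMap {R : CommRingCat.{u}} {U V : (Spec R).Opens} (h : V ≤ U) (a : R) :
    (Spec R).presheaf.map (homOfLE h).op (algebraMap R Γ(Spec R, U) a) =
      algebraMap R Γ(Spec R, V) a := by
  rw [IsAffineOpen.algebraMap_Spec_obj, IsAffineOpen.algebraMap_Spec_obj]
  change (Spec R).presheaf.map (homOfLE h).op
    ((Spec R).presheaf.map (homOfLE le_top).op ((Scheme.ΓSpecIso R).inv a)) = _
  rw [← ConcreteCategory.comp_apply, ← Functor.map_comp]
  rfl

set_option backward.isDefEq.respectTransparency false in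
theorem exists_mul_pow_eq {R : CommRingCat.{u}} (y : R)
    (α : Γ(Spec R, PrimeSpectrum.basicOpen y)) :
    ∃ (k : ℕ) (a : R), α * algebraMap R Γ(Spec R, PrimeSpectrum.basicOpen y) y ^ k =
      algebraMap R Γ(Spec R, PrimeSpectrum.basicOpen y) a :=
  IsLocalization.Away.surj y α

set_option backward.isDefEq.respectTransparency false in
/-- An affine open covered by `D(x)` and `D(y)` gives monomial relations. -/
theorem exists_relation {R : CommRingCat.{u}} [IsDomain R] {U : (Spec R).Opens}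
    (hU : IsAffineOpen U) {x y : R} (hx0 : x ≠ 0) (hy0 : y ≠ 0)
    (hx : (PrimeSpectrum.basicOpen x : (Spec R).Opens) ≤ U)
    (hy : (PrimeSpectrum.basicOpen y : (Spec R).Opens) ≤ U)
    (hcov : ∀ z : Spec R, z ∈ U →
      x ∉ (z : PrimeSpectrum R).asIdeal ∨ y ∉ (z : PrimeSpectrum R).asIdeal) (s : ℕ) :
    ∃ (k : ℕ) (a b : R), (x * y) ^ k = a * x ^ (k + s) + b * y ^ (k + s) := by
  have hspan : Ideal.span ({algebraMap R Γ(Spec R, U) x, algebraMap R Γ(Spec R, U) y} :
      Set Γ(Spec R, U)) = ⊤ := by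
    rw [← hU.iSup_basicOpen_eq_self_iff]
    refine le_antisymm (iSup_le fun f => (Spec R).basicOpen_le _) fun z hz => ?_
    rw [Opens.mem_iSup]
    rcases hcov z hz with h | h
    · exact ⟨⟨_, Set.mem_insert _ _⟩, (mem_basicOpen_res _).2 ⟨hz, h⟩⟩
    · exact ⟨⟨_, Set.mem_insert_of_mem _ rfl⟩, (mem_basicOpen_res _).2 ⟨hz, h⟩⟩
  have h1 := Ideal.span_pow_eq_top _ hspan s
  rw [Ideal.eq_top_iff_one, Set.image_insert_eq, Set.image_singleton, Ideal.mem_span_pair] at h1
  obtain ⟨α, β, hαβ⟩ := h1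
  obtain ⟨k1, a, ha⟩ := exists_mul_pow_eq y
    ((Spec R).presheaf.map (homOfLE hy).op α : Γ(Spec R, PrimeSpectrum.basicOpen y))
  obtain ⟨k2, b, hb⟩ := exists_mul_pow_eq x
    ((Spec R).presheaf.map (homOfLE hx).op β : Γ(Spec R, PrimeSpectrum.basicOpen x))
  let W : (Spec R).Opens := PrimeSpectrum.basicOpen (x * y)
  have hWx : W ≤ PrimeSpectrum.basicOpen x := PrimeSpectrum.basicOpen_mul_le_left x y
  have hWy : W ≤ PrimeSpectrum.basicOpen y := PrimeSpectrum.basicOpen_mul_le_right x y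
  have hWU : W ≤ U := hWx.trans hx
  let r : Γ(Spec R, U) →+* Γ(Spec R, W) := ((Spec R).presheaf.map (homOfLE hWU).op).hom
  let ι : R →+* Γ(Spec R, W) := algebraMap R Γ(Spec R, W)
  have hι : ∀ c : R, r (algebraMap R Γ(Spec R, U) c) = ι c := res_algebraMap hWU
  have ha' : r α * ι y ^ k1 = ι a := by
    have := congrArg ((Spec R).presheaf.map (homOfLE hWy).op).hom ha
    rw [map_mul, map_pow] at this
    erw [res_algebraMap hWy y, res_algebraMap hWy a, ← ConcreteCategory.comp_apply, ← Functor.map_comp] at this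
    exact this
  have hb' : r β * ι x ^ k2 = ι b := by
    have := congrArg ((Spec R).presheaf.map (homOfLE hWx).op).hom hb
    rw [map_mul, map_pow] at this
    erw [res_algebraMap hWx x, res_algebraMap hWx b, ← ConcreteCategory.comp_apply, ← Functor.map_comp] at this
    exact this
  have h1' : r α * ι x ^ s + r β * ι y ^ s = 1 := by
    have := congrArg r hαβ
    simpa only [map_add, map_mul, map_one, map_pow, hι] using this
  have hinj : Function.Injective ι :=
    IsLocalization.injective (M := Submonoid.powers (x * y)) _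
      (powers_le_nonZeroDivisors_of_noZeroDivisors (mul_ne_zero hx0 hy0))
  refine ⟨k1 + k2, a * y ^ k2, b * x ^ k1, hinj ?_⟩
  simp only [map_mul, map_add, map_pow]
  rw [← ha', ← hb', show (ι x * ι y) ^ (k1 + k2) =
    (ι x * ι y) ^ (k1 + k2) * (r α * ι x ^ s + r β * ι y ^ s) by rw [h1', mul_one]]
  ring

/-- A domain with a chain of length two has non-affine punctured spectrum, provided all its
nonzero primes are at most one step from the maximal ideal. -/
theorem not_isAffineOpen_of_domain (B : Type u) [CommRing B] [IsDomain B] [IsLocalRing B]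
    [IsNoetherianRing B] {q : Ideal B} [hq : q.IsPrime] (hq0 : q ≠ ⊥)
    (hqm : q < IsLocalRing.maximalIdeal B)
    (h : ∀ p p' : Ideal B, p.IsPrime → p'.IsPrime → p ≠ ⊥ → p < p' →
      p' = IsLocalRing.maximalIdeal B) :
    ¬ IsAffineOpen (FEt.puncturedSpec B) := by
  set m := IsLocalRing.maximalIdeal B with hm
  obtain ⟨x, hxq, hx0⟩ := Submodule.exists_mem_ne_zero_of_ne_bot hq0
  have hxm : x ∈ m := hqm.le hxq
  have hfin : (Ideal.span {x}).minimalPrimes.Finite := Ideal.finite_minimalPrimes_of_isNoetherianRing B _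
  have hmin : ∀ p ∈ (Ideal.span {x}).minimalPrimes, p ≠ m := fun p hp hpm => by
    subst hpm
    exact not_le_of_gt hqm (hp.2 ⟨hq, (Ideal.span_singleton_le_iff_mem q).2 hxq⟩ hqm.le)
  obtain ⟨y, hym, hy⟩ : ∃ y ∈ m, ∀ p ∈ (Ideal.span {x}).minimalPrimes, y ∉ p := by
    by_contra hcon
    push Not at hcon
    have hsub : (m : Set B) ⊆ ⋃ p ∈ (hfin.toFinset : Set (Ideal B)), ((id p : Ideal B) : Set B) :=
      fun z hz => by
        obtain ⟨p, hp, hzp⟩ := hcon z hz
        exact Set.mem_biUnion (hfin.mem_toFinset.2 hp) hzp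
    obtain ⟨p, hp, hmp⟩ := (Ideal.subset_union_prime ⊥ ⊥
      (fun p hp _ _ => (hfin.mem_toFinset.1 hp).1.1)).1 hsub
    rw [hfin.mem_toFinset] at hp
    exact hmin p hp (le_antisymm (IsLocalRing.le_maximalIdeal hp.1.1.ne_top) hmp)
  -- the only prime containing `x` and `y` is `m`
  have hxy : ∀ P : Ideal B, P.IsPrime → x ∈ P → y ∈ P → P = m := by
    intro P hP hxP hyP
    obtain ⟨p, hp, hpP⟩ := Ideal.exists_minimalPrimes_le
      ((Ideal.span_singleton_le_iff_mem P).2 hxP)
    refine h p P hp.1.1 hP ?_ (lt_of_le_of_ne hpP fun e => hy p hp (e ▸ hyP))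
    intro hp0
    exact hx0 (by simpa [hp0] using hp.1.2 (Ideal.mem_span_singleton_self x))
  have hy0 : y ≠ 0 := by
    intro hy0
    obtain ⟨p, hp, -⟩ := Ideal.exists_minimalPrimes_le
      ((Ideal.span_singleton_le_iff_mem m).2 hxm)
    exact hy p hp (hy0 ▸ zero_mem p)
  have hpar : Monomial.Param x y := by
    refine ⟨mem_nonZeroDivisors_of_ne_zero hx0, mem_nonZeroDivisors_of_ne_zero hy0, ?_⟩
    rw [Ideal.radical_eq_sInf]
    refine le_sInf fun P ⟨hle, hP⟩ => ?_
    exact (hxy P hP (hle (Ideal.subset_span (Set.mem_insert _ _)))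
      (hle (Ideal.subset_span (Set.mem_insert_of_mem _ rfl)))).ge
  have hpow : ∀ k : ℕ, x ^ k ∉ Ideal.span {y} := by
    intro k hk
    have hmy : m ∈ (Ideal.span {y}).minimalPrimes := by
      obtain ⟨P, hP, hPm⟩ := Ideal.exists_minimalPrimes_le
        ((Ideal.span_singleton_le_iff_mem m).2 hym)
      rwa [← hxy P hP.1.1 (hP.1.1.mem_of_pow_mem k (hP.1.2 hk))
        (hP.1.2 (Ideal.mem_span_singleton_self y))]
    have h1 := Ideal.height_le_one_of_isPrincipal_of_mem_minimalPrimes _ m hmy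
    have h2 := Ideal.height_add_one_le_of_lt_of_isPrime hqm
    have h3 := Ideal.height_add_one_le_of_lt_of_isPrime (bot_lt_iff_ne_bot.2 hq0)
    have h4 : (1 : ℕ∞) + 1 ≤ 1 := by
      refine le_trans ?_ (h2.trans h1)
      gcongr
      exact le_trans le_add_self h3
    revert h4; decide
  obtain ⟨s, hs⟩ := Monomial.exists_forall_ne hpar hxm hpow
  intro hU
  haveI : IsDomain (CommRingCat.of B) := ‹IsDomain B›
  obtain ⟨k, a, b, hk⟩ := exists_relation (R := CommRingCat.of B) (x := x) (y := y) hU hx0 hy0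
    (fun z hz e => hz (by rw [e]; exact hxm)) (fun z hz e => hz (by rw [e]; exact hym))
    (fun z hz => by
      by_contra hcon
      push Not at hcon
      exact hz (PrimeSpectrum.ext (hxy _ z.2 hcon.1 hcon.2))) s
  exact hs k a b hk

theorem dim_le_one_of_isAffine (A : Type u) [CommRing A] [IsLocalRing A] [IsNoetherianRing A]
    (h : IsAffine (FEt.puncturedSpec A : Scheme.{u})) : ringKrullDim A ≤ 1 := by
  by_contra hdim
  obtain ⟨p₀, q₀, hp₀, hq₀, hpq₀, hqm₀⟩ := exists_chain_of_not_dim_le_one A hdim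
  obtain ⟨p, ⟨hp, q, hq, hpq, hqm⟩, hmax⟩ := set_has_maximal_iff_noetherian.2
    (inferInstance : IsNoetherian A A)
    {p : Ideal A | p.IsPrime ∧ ∃ q : Ideal A, q.IsPrime ∧ p < q ∧
      q < IsLocalRing.maximalIdeal A} ⟨p₀, hp₀, q₀, hq₀, hpq₀, hqm₀⟩
  haveI := hp
  let π : A →+* A ⧸ p := Ideal.Quotient.mk p
  have hπ : Function.Surjective π := Ideal.Quotient.mk_surjective
  haveI : Nontrivial (A ⧸ p) := Ideal.Quotient.nontrivial_iff.2 hp.ne_top
  haveI : IsLocalRing (A ⧸ p) := IsLocalRing.of_surjective' π hπ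
  haveI : IsLocalHom π := hπ.isLocalHom
  let g : Spec (CommRingCat.of (A ⧸ p)) ⟶ Spec (CommRingCat.of A) :=
    Spec.map (CommRingCat.ofHom π)
  have hpre : g ⁻¹ᵁ FEt.puncturedSpec A = FEt.puncturedSpec (A ⧸ p) := by
    refine Opens.ext (Set.ext fun z => ?_)
    change PrimeSpectrum.comap π z ≠ IsLocalRing.closedPoint A ↔ z ≠ IsLocalRing.closedPoint _
    rw [not_iff_not, ← IsLocalRing.comap_closedPoint π]
    exact (PrimeSpectrum.comap_injective_of_surjective π hπ).eq_iff
  have hcomap : ∀ I : Ideal (A ⧸ p), p ≤ I.comap π := fun I z hz => by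
    rw [Ideal.mem_comap, Ideal.Quotient.eq_zero_iff_mem.2 hz]; exact zero_mem I
  have hker : (⊥ : Ideal (A ⧸ p)).comap π = p := by
    rw [← RingHom.ker, Ideal.mk_ker]
  have hqe : (q.map π).comap π = q := by
    rw [Ideal.comap_map_of_surjective π hπ, hker]
    exact sup_eq_left.2 hpq.le
  haveI : (q.map π).IsPrime :=
    Ideal.map_isPrime_of_surjective hπ (by rw [Ideal.mk_ker]; exact hpq.le)
  refine not_isAffineOpen_of_domain (A ⧸ p) (q := q.map π) ?_ ?_ ?_
    (hpre ▸ IsAffineOpen.preimage (show IsAffineOpen (FEt.puncturedSpec A) from h) g)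
  · intro e
    rw [e, hker] at hqe
    exact hpq.ne hqe
  · refine lt_of_le_of_ne (IsLocalRing.le_maximalIdeal (Ideal.IsPrime.ne_top inferInstance))
      fun e => hqm.ne ?_
    rw [← hqe, e]
    haveI := IsLocalRing.maximalIdeal.isMaximal (A ⧸ p)
    exact IsLocalRing.eq_maximalIdeal (Ideal.comap_isMaximal_of_surjective π hπ)
  · intro a a' ha ha' ha0 hlt
    by_contra hne
    refine hmax (a.comap π) ⟨Ideal.comap_isPrime π a, a'.comap π, Ideal.comap_isPrime π a', ?_, ?_⟩ ?_
    · refine lt_of_le_of_ne (Ideal.comap_mono hlt.le) fun e => hlt.ne ?_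
      exact Ideal.comap_injective_of_surjective π hπ e
    · refine lt_of_le_of_ne (IsLocalRing.le_maximalIdeal (Ideal.comap_ne_top π ha'.ne_top))
        fun e => hne ?_
      refine IsLocalRing.eq_maximalIdeal ?_
      rw [← Ideal.map_comap_of_surjective π hπ a', e]
      exact (Ideal.map_eq_top_or_isMaximal_of_surjective π hπ
        (IsLocalRing.maximalIdeal.isMaximal A)).resolve_left (by
          rw [← e, Ideal.map_comap_of_surjective π hπ a']; exact ha'.ne_top)
    · refine lt_of_le_of_ne (hcomap a) fun e => ha0 ?_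
      exact Ideal.comap_injective_of_surjective π hπ (e.symm.trans hker.symm)

theorem exists_eq_basicOpen (A : Type u) [CommRing A] [IsLocalRing A] [IsNoetherianRing A]
    (h : ringKrullDim A ≤ 1) :
    ∃ x : A, ∀ p : PrimeSpectrum A,
      p ≠ IsLocalRing.closedPoint A ↔ x ∉ p.asIdeal := by
  set m := IsLocalRing.maximalIdeal A with hm
  have hfin : {p ∈ minimalPrimes A | p ≠ m}.Finite :=
    (minimalPrimes.finite_of_isNoetherianRing A).subset (fun p hp => hp.1)
  obtain ⟨x, hxm, hx⟩ : ∃ x ∈ m, ∀ p ∈ minimalPrimes A, p ≠ m → x ∉ p := by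
    by_contra hcon
    push Not at hcon
    have hsub : (m : Set A) ⊆ ⋃ p ∈ (hfin.toFinset : Set (Ideal A)), ((id p : Ideal A) : Set A) :=
      fun z hz => by
        obtain ⟨p, hp, hpm, hzp⟩ := hcon z hz
        exact Set.mem_biUnion (hfin.mem_toFinset.2 ⟨hp, hpm⟩) hzp
    obtain ⟨p, hp, hmp⟩ := (Ideal.subset_union_prime ⊥ ⊥
      (fun p hp _ _ => (hfin.mem_toFinset.1 hp).1.1.1)).1 hsub
    rw [hfin.mem_toFinset] at hp
    exact hp.2 (le_antisymm (IsLocalRing.le_maximalIdeal hp.1.1.1.ne_top) hmp)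
  refine ⟨x, fun p => ⟨fun hp hxp => ?_, fun hxp e => hxp (e ▸ hxm)⟩⟩
  have hpm : p.asIdeal ≠ m := fun e => hp (PrimeSpectrum.ext e)
  obtain ⟨q, hq, hqp⟩ := Ideal.exists_minimalPrimes_le (bot_le : (⊥ : Ideal A) ≤ p.asIdeal)
  rcases eq_or_lt_of_le hqp with rfl | hlt
  · exact hx _ hq hpm hxp
  · haveI := hq.1.1
    exact hpm (eq_maximal_of_dim_le_one h hlt)

theorem isAffine_of_dim_le_one (A : Type u) [CommRing A] [IsLocalRing A] [IsNoetherianRing A]
    (h : ringKrullDim A ≤ 1) : IsAffine (FEt.puncturedSpec A : Scheme.{u}) := by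
  obtain ⟨x, hx⟩ := exists_eq_basicOpen A h
  have e : FEt.puncturedSpec A = PrimeSpectrum.basicOpen (R := CommRingCat.of A) x :=
    Opens.ext (Set.ext fun p => hx p)
  change IsAffineOpen (FEt.puncturedSpec A)
  rw [e]
  refine (congrArg IsAffineOpen (basicOpen_eq_of_affine (R := CommRingCat.of A) x)).mp ?_
  exact (isAffineOpen_top _).basicOpen _

end Groth.L22.Punctured
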