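import Groth.Agent.L22.DimFormula
import Groth.Agent.L22.Cyc.RelDim
import Mathlib.AlgebraicGeometry.Morphisms.FiniteType

/-!
The dimension formula along a morphism locally of finite type.
-/

universe u

open AlgebraicGeometry CategoryTheory Cardinal

namespace Groth.L22.DimFormula

theorem isAlgebraic_of_fractions {A B : Type u} [CommRing A] [IsDomain A] [CommRing B]
    [Algebra A B] (h : ∀ z : B, ∃ s t : A, s ≠ 0 ∧ z * algebraMap A B s = algebraMap A B t) :
    Algebra.IsAlgebraic A B := ⟨fun z => by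
  obtain ⟨s, t, hs, hz⟩ := h z
  refine ⟨Polynomial.C s * Polynomial.X - Polynomial.C t, fun h0 => hs ?_, ?_⟩
  · simpa using congrArg (fun P => Polynomial.coeff P 1) h0
  · simp only [map_sub, map_mul, Polynomial.aeval_C, Polynomial.aeval_X]
    rw [← hz]; ring⟩

/-- The dimension formula for a local domain essentially of finite type over another one. -/
theorem local_dim_formula {R O : Type u} [CommRing R] [IsDomain R] [IsNoetherianRing R]
    [IsLocalRing R] [CommRing O] [IsDomain O] [IsLocalRing O] [Algebra R O] [FaithfulSMul R O]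
    [IsLocalHom (algebraMap R O)] [(IsLocalRing.maximalIdeal O).LiesOver (IsLocalRing.maximalIdeal R)]
    (s : Finset O)
    (hs : ∀ o : O, ∃ t t' : Algebra.adjoin R (s : Set O), IsUnit (t : O) ∧ o * t = t')
    {n N : ℕ}
    (hn : Algebra.trdeg (R ⧸ IsLocalRing.maximalIdeal R) (O ⧸ IsLocalRing.maximalIdeal O) = n)
    (hN : Algebra.trdeg R O = N) :
    ringKrullDim O + n ≤ ringKrullDim R + N ∧
      (CAlg.IsUniversallyCatenary R → ringKrullDim O + n = ringKrullDim R + N) := by
  let T := Algebra.adjoin R (s : Set O)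
  haveI : Algebra.FiniteType R T := Algebra.FiniteType.adjoin_of_finite s.finite_toSet
  haveI : IsNoetherianRing T := Algebra.FiniteType.isNoetherianRing R T
  haveI : FaithfulSMul R T := (faithfulSMul_iff_algebraMap_injective _ _).2 fun a b h =>
    FaithfulSMul.algebraMap_injective R O (congrArg Subtype.val h)
  let m := IsLocalRing.maximalIdeal O
  let q : Ideal T := m.comap T.val
  haveI : q.IsPrime := Ideal.IsPrime.comap _
  let p : Ideal R := IsLocalRing.maximalIdeal R
  haveI : q.LiesOver p := ⟨by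
    ext a
    show a ∈ p ↔ algebraMap R O a ∈ m
    exact ⟨fun h hu => h ((isUnit_map_iff _ a).1 hu), fun h hu => h (hu.map _)⟩⟩
  haveI : FaithfulSMul T O := (faithfulSMul_iff_algebraMap_injective _ _).2 Subtype.val_injective
  haveI hloc : IsLocalization.AtPrime O q :=
    { map_units := fun t => not_not.1 fun h => t.2 h
      surj := fun o => by
        obtain ⟨t, t', ht, he⟩ := hs o
        exact ⟨⟨t', ⟨t, fun hq => hq ht⟩⟩, he⟩
      exists_of_eq := fun h => ⟨1, by rw [Subtype.val_injective h]⟩ }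
  have hdO : ringKrullDim O = q.height := IsLocalization.AtPrime.ringKrullDim_eq_height q O
  have hdR : ringKrullDim R = p.height := (IsLocalRing.maximalIdeal_height_eq_ringKrullDim).symm
  haveI : Algebra.IsAlgebraic T O := isAlgebraic_of_fractions fun o => by
    obtain ⟨t, t', ht, he⟩ := hs o
    exact ⟨t, t', fun h => by simp [h] at ht, he⟩
  have hT : Algebra.trdeg R T = N := by
    rw [← hN, ← trdeg_add_eq R T (A := O), trdeg_eq_zero (R := T), add_zero]
  let ψ : (T ⧸ q) →+* O ⧸ m :=
    Ideal.Quotient.lift q ((Ideal.Quotient.mk m).comp T.val.toRingHom) fun a ha =>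
      Ideal.Quotient.eq_zero_iff_mem.2 ha
  have hψ : Function.Injective ψ := (injective_iff_map_eq_zero _).2 fun z hz => by
    obtain ⟨a, rfl⟩ := Ideal.Quotient.mk_surjective z
    exact Ideal.Quotient.eq_zero_iff_mem.2
      ((Ideal.Quotient.eq_zero_iff_mem (I := m) (a := (a : O))).1 hz :)
  letI : Algebra (T ⧸ q) (O ⧸ m) := ψ.toAlgebra
  haveI : FaithfulSMul (T ⧸ q) (O ⧸ m) := (faithfulSMul_iff_algebraMap_injective _ _).2 hψ
  haveI : IsDomain (O ⧸ m) := Ideal.Quotient.isDomain m
  haveI : Algebra.IsAlgebraic (T ⧸ q) (O ⧸ m) :=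
    isAlgebraic_of_fractions fun z => by
      obtain ⟨o, rfl⟩ := Ideal.Quotient.mk_surjective z
      obtain ⟨t, t', ht, he⟩ := hs o
      refine ⟨Ideal.Quotient.mk q t, Ideal.Quotient.mk q t',
        fun h => (Ideal.Quotient.eq_zero_iff_mem.1 h) ht, ?_⟩
      show Ideal.Quotient.mk m o * Ideal.Quotient.mk m (t : O) = Ideal.Quotient.mk m (t' : O)
      rw [← map_mul, he]
  haveI : IsScalarTower (R ⧸ p) (T ⧸ q) (O ⧸ m) :=
    IsScalarTower.of_algebraMap_eq fun a => by
      obtain ⟨a, rfl⟩ := Ideal.Quotient.mk_surjective a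
      rfl
  haveI : IsDomain (R ⧸ p) := Ideal.Quotient.isDomain p
  have hn' : Algebra.trdeg (R ⧸ p) (T ⧸ q) = n := by
    rw [← add_zero (Algebra.trdeg (R ⧸ p) (T ⧸ q)),
      ← trdeg_eq_zero (R := T ⧸ q) (A := O ⧸ m),
      trdeg_add_eq (R ⧸ p) (T ⧸ q)]
    exact hn
  have key := dim_formula (R := R) (S := T) p q
  rw [hn', hT] at key
  rw [hdO, hdR]
  have conv : ∀ (a : ℕ∞) (m : ℕ), (a : Cardinal.{u}) + m = ((a + m : ℕ∞) : Cardinal.{u}) :=
    fun a m => by simp
  constructor
  · have h := key.1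
    rw [conv, conv, Cardinal.ofENat_le_ofENat] at h
    exact_mod_cast h
  · intro hR
    have h := key.2 hR
    rw [conv, conv, Cardinal.ofENat_inj] at h
    exact_mod_cast h

end Groth.L22.DimFormula

namespace Groth.L22.DimFormula

open Groth.L22.Cyc (rtrdeg trdeg_eq_of_square)

variable {X S : Scheme.{u}}

theorem isUniversallyCatenary_quotient {A : Type u} [CommRing A] (hA : CAlg.IsUniversallyCatenary A)
    (I : Ideal A) : CAlg.IsUniversallyCatenary (A ⧸ I) := by
  haveI := hA.1
  refine ⟨inferInstance, fun T _ _ hT => ?_⟩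
  letI : Algebra A T := ((algebraMap (A ⧸ I) T).comp (Ideal.Quotient.mk I)).toAlgebra
  haveI : IsScalarTower A (A ⧸ I) T := IsScalarTower.of_algebraMap_eq fun _ => rfl
  exact hA.2 T (Algebra.FiniteType.trans inferInstance hT)

theorem specMap_residueFieldMap (f : X ⟶ S) {x ξ : X} (h : ξ ⤳ x) (a : S.presheaf.stalk (f x)) :
    f.residueFieldMap ξ (Cyc.specMap (f x) (f ξ) (h.map f.continuous) a) =
      Cyc.specMap x ξ h ((f.stalkMap x).hom a) := by
  have h2 : (S.presheaf.stalkSpecializes (h.map f.continuous) ≫ S.residue (f ξ)) ≫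
      f.residueFieldMap ξ = f.stalkMap x ≫ X.presheaf.stalkSpecializes h ≫ X.residue ξ := by
    rw [Category.assoc, Scheme.residue_residueFieldMap]
    exact Scheme.Hom.stalkSpecializes_stalkMap_assoc f ξ x h (X.residue ξ)
  exact congrArg (fun φ => φ.hom a) h2

/-- The residue fields along a surjection of local rings. -/
noncomputable def residueEquiv {A B : Type u} [CommRing A] [IsLocalRing A] [CommRing B]
    [IsLocalRing B] (π : A →+* B) [IsLocalHom π] (hπ : Function.Surjective π) :
    IsLocalRing.ResidueField A ≃+* B ⧸ IsLocalRing.maximalIdeal B :=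
  RingEquiv.ofBijective
    (IsLocalRing.ResidueField.map π : IsLocalRing.ResidueField A →+* IsLocalRing.ResidueField B)
    ⟨RingHom.injective _, fun z => by
      obtain ⟨b, rfl⟩ := IsLocalRing.residue_surjective (R := B) z
      obtain ⟨a, rfl⟩ := hπ b
      exact ⟨IsLocalRing.residue _ a, rfl⟩⟩

/-- The residue field of a scheme and the residue field of a quotient of the local ring. -/
noncomputable def residueEquiv' (x : X) {B : Type u} [CommRing B] [IsLocalRing B]
    (π : X.presheaf.stalk x →+* B) [IsLocalHom π] (hπ : Function.Surjective π) :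
    X.residueField x ≃+* B ⧸ IsLocalRing.maximalIdeal B :=
  residueEquiv π hπ

theorem isDomain_locQuot (x ξ : X) (h : ξ ⤳ x) : IsDomain (Cyc.LocQuot x ξ h) :=
  (RingHom.kerLift_injective (Cyc.specMap x ξ h)).isDomain

theorem isLocalRing_locQuot (x ξ : X) (h : ξ ⤳ x) : IsLocalRing (Cyc.LocQuot x ξ h) :=
  haveI : Nontrivial (Cyc.LocQuot x ξ h) := (isDomain_locQuot x ξ h).toNontrivial
  IsLocalRing.of_surjective' (Ideal.Quotient.mk _) Ideal.Quotient.mk_surjective

theorem isAlgebraic_locQuot (x ξ : X) (h : ξ ⤳ x) :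
    Algebra.IsAlgebraic (Cyc.LocQuot x ξ h) (X.residueField ξ) := by
  haveI := isDomain_locQuot x ξ h
  refine isAlgebraic_of_fractions fun z => ?_
  obtain ⟨_, ⟨U, hU, rfl⟩, hxU, -⟩ :=
    X.isBasis_affineOpens.exists_subset_of_mem_open (Set.mem_univ x) isOpen_univ
  have hξU : ξ ∈ U := h.mem_open U.2 hxU
  letI := X.presheaf.algebra_section_stalk ⟨ξ, hξU⟩
  haveI := hU.isLocalization_stalk ⟨ξ, hξU⟩
  obtain ⟨z, rfl⟩ := X.residue_surjective ξ z
  obtain ⟨⟨t, s⟩, hst⟩ := IsLocalization.surj (hU.primeIdealOf ⟨ξ, hξU⟩).asIdeal.primeCompl z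
  have key : ∀ c : Γ(X, U), Cyc.specMap x ξ h (X.presheaf.germ U x hxU c) =
      X.residue ξ (algebraMap Γ(X, U) (X.presheaf.stalk ξ) c) := fun c =>
    congrArg (X.residue ξ) (TopCat.Presheaf.germ_stalkSpecializes_apply X.presheaf hxU h c)
  refine ⟨Ideal.Quotient.mk _ (X.presheaf.germ U x hxU s),
    Ideal.Quotient.mk _ (X.presheaf.germ U x hxU t), fun h0 => ?_, ?_⟩
  · have h1 : Cyc.specMap x ξ h (X.presheaf.germ U x hxU (s : Γ(X, U))) = 0 :=
      Ideal.Quotient.eq_zero_iff_mem.1 h0
    rw [key] at h1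
    exact (IsLocalRing.residue_eq_zero_iff _).1 h1
      (IsLocalization.map_units (X.presheaf.stalk ξ) s)
  · show X.residue ξ z * Cyc.specMap x ξ h (X.presheaf.germ U x hxU (s : Γ(X, U))) =
      Cyc.specMap x ξ h (X.presheaf.germ U x hxU t)
    rw [key, key, ← map_mul]
    exact congrArg _ hst

/-- The dimension formula at a specialization, for a morphism locally of finite type. -/
theorem scheme_dim_formula [IsLocallyNoetherian S] (f : X ⟶ S) [LocallyOfFiniteType f] {x ξ : X}
    (h : ξ ⤳ x) {n N : ℕ} (hn : rtrdeg f x = n) (hN : rtrdeg f ξ = N) :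
    ringKrullDim (Cyc.LocQuot x ξ h) + n ≤
        ringKrullDim (Cyc.LocQuot (f x) (f ξ) (h.map f.continuous)) + N ∧
      (CAlg.IsUniversallyCatenary (S.presheaf.stalk (f x)) →
        ringKrullDim (Cyc.LocQuot x ξ h) + n =
          ringKrullDim (Cyc.LocQuot (f x) (f ξ) (h.map f.continuous)) + N) := by
  classical
  let R := Cyc.LocQuot (f x) (f ξ) (h.map f.continuous)
  let O := Cyc.LocQuot x ξ h
  haveI : IsDomain R := isDomain_locQuot _ _ _
  haveI : IsDomain O := isDomain_locQuot _ _ _
  haveI : IsLocalRing R := isLocalRing_locQuot _ _ _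
  haveI : IsLocalRing O := isLocalRing_locQuot _ _ _
  haveI : IsNoetherianRing R := inferInstance
  have hle : RingHom.ker (Cyc.specMap (f x) (f ξ) (h.map f.continuous)) ≤
      (RingHom.ker (Cyc.specMap x ξ h)).comap (f.stalkMap x).hom := fun a ha => by
    rw [Ideal.mem_comap, RingHom.mem_ker, ← specMap_residueFieldMap f h,
      RingHom.mem_ker.1 ha, map_zero]
  let φ : R →+* O := Ideal.quotientMap _ (f.stalkMap x).hom hle
  letI : Algebra R O := φ.toAlgebra
  letI : Algebra R (X.residueField ξ) :=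
    ((algebraMap O (X.residueField ξ)).comp φ).toAlgebra
  haveI : IsScalarTower R O (X.residueField ξ) := IsScalarTower.of_algebraMap_eq fun _ => rfl
  letI := (f.residueFieldMap ξ).hom.toAlgebra
  haveI : IsScalarTower R (S.residueField (f ξ)) (X.residueField ξ) :=
    IsScalarTower.of_algebraMap_eq fun a => by
      obtain ⟨a, rfl⟩ := Ideal.Quotient.mk_surjective a
      exact (specMap_residueFieldMap f h a).symm
  haveI : FaithfulSMul O (X.residueField ξ) :=
    (faithfulSMul_iff_algebraMap_injective _ _).2 (RingHom.kerLift_injective _)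
  haveI : FaithfulSMul R (S.residueField (f ξ)) :=
    (faithfulSMul_iff_algebraMap_injective _ _).2 (RingHom.kerLift_injective _)
  haveI : FaithfulSMul R O := (faithfulSMul_iff_algebraMap_injective _ _).2 fun a b hab => by
    have h1 := congrArg (algebraMap O (X.residueField ξ)) hab
    rw [← IsScalarTower.algebraMap_apply R O (X.residueField ξ),
      ← IsScalarTower.algebraMap_apply R O (X.residueField ξ),
      IsScalarTower.algebraMap_apply R (S.residueField (f ξ)) (X.residueField ξ),
      IsScalarTower.algebraMap_apply R (S.residueField (f ξ)) (X.residueField ξ)] at h1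
    exact FaithfulSMul.algebraMap_injective R (S.residueField (f ξ))
      ((algebraMap (S.residueField (f ξ)) (X.residueField ξ)).injective h1)
  haveI hφl : IsLocalHom φ := ⟨fun a ha => by
    obtain ⟨a, rfl⟩ := Ideal.Quotient.mk_surjective a
    have h1 : IsUnit (Ideal.Quotient.mk (RingHom.ker (Cyc.specMap x ξ h)) ((f.stalkMap x).hom a)) := ha
    haveI : IsLocalHom (Ideal.Quotient.mk (RingHom.ker (Cyc.specMap x ξ h))) :=
      IsLocalHom.of_surjective _ Ideal.Quotient.mk_surjective
    haveI : IsLocalHom (f.stalkMap x).hom := f.toLRSHom.prop x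
    exact ((isUnit_map_iff (f.stalkMap x).hom a).1 ((isUnit_map_iff _ _).1 h1)).map _⟩
  haveI : IsLocalHom (algebraMap R O) := hφl
  -- transcendence degrees
  haveI := isAlgebraic_locQuot x ξ h
  haveI := isAlgebraic_locQuot (f x) (f ξ) (h.map f.continuous)
  have hNO : Algebra.trdeg R O = N := by
    rw [← add_zero (Algebra.trdeg R O), ← trdeg_eq_zero (R := O) (A := X.residueField ξ),
      trdeg_add_eq R O, ← trdeg_add_eq R (S.residueField (f ξ)),
      trdeg_eq_zero (R := R), zero_add]
    exact hN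
  haveI : (IsLocalRing.maximalIdeal O).LiesOver (IsLocalRing.maximalIdeal R) := ⟨by
    ext a
    show a ∈ IsLocalRing.maximalIdeal R ↔ φ a ∈ IsLocalRing.maximalIdeal O
    exact ⟨fun h1 hu => h1 ((isUnit_map_iff φ a).1 hu), fun h1 hu => h1 (hu.map _)⟩⟩
  have hnO : Algebra.trdeg (R ⧸ IsLocalRing.maximalIdeal R) (O ⧸ IsLocalRing.maximalIdeal O) = n := by
    haveI : IsLocalHom (Ideal.Quotient.mk (RingHom.ker (Cyc.specMap x ξ h))) :=
      IsLocalHom.of_surjective _ Ideal.Quotient.mk_surjective
    haveI : IsLocalHom (Ideal.Quotient.mk (RingHom.ker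
        (Cyc.specMap (f x) (f ξ) (h.map f.continuous)))) :=
      IsLocalHom.of_surjective _ Ideal.Quotient.mk_surjective
    letI := (f.residueFieldMap x).hom.toAlgebra
    letI : Field (R ⧸ IsLocalRing.maximalIdeal R) := Ideal.Quotient.field _
    letI : Field (O ⧸ IsLocalRing.maximalIdeal O) := Ideal.Quotient.field _
    rw [← hn]
    show _ = Algebra.trdeg (S.residueField (f x)) (X.residueField x)
    refine (trdeg_eq_of_square
      (residueEquiv' (f x) (Ideal.Quotient.mk (RingHom.ker
        (Cyc.specMap (f x) (f ξ) (h.map f.continuous)))) Ideal.Quotient.mk_surjective)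
      (residueEquiv' x (Ideal.Quotient.mk (RingHom.ker (Cyc.specMap x ξ h)))
        Ideal.Quotient.mk_surjective) fun a => ?_).symm
    obtain ⟨a, rfl⟩ := S.residue_surjective (f x) a
    rfl
  -- generators
  obtain ⟨_, ⟨V, hV, rfl⟩, hxV, -⟩ :=
    S.isBasis_affineOpens.exists_subset_of_mem_open (Set.mem_univ (f x)) isOpen_univ
  obtain ⟨_, ⟨U, hU, rfl⟩, hxU, hUV⟩ :=
    X.isBasis_affineOpens.exists_subset_of_mem_open (show x ∈ f ⁻¹ᵁ V from hxV) (f ⁻¹ᵁ V).2
  letI := (f.appLE V U hUV).hom.toAlgebra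
  obtain ⟨gs, hgs⟩ : (⊤ : Subalgebra Γ(S, V) Γ(X, U)).FG :=
    (show Algebra.FiniteType Γ(S, V) Γ(X, U) from f.finiteType_appLE hV hU hUV).out
  let γ : Γ(X, U) →+* O := (Ideal.Quotient.mk _).comp (X.presheaf.germ U x hxU).hom
  have hγ : ∀ b, γ b ∈ Algebra.adjoin R (↑(gs.image γ) : Set O) := fun b => by
    have hb : b ∈ Algebra.adjoin Γ(S, V) (gs : Set Γ(X, U)) := hgs ▸ trivial
    induction hb using Algebra.adjoin_induction with
    | mem g hg => exact Algebra.subset_adjoin (Finset.mem_coe.2 (Finset.mem_image_of_mem γ hg))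
    | algebraMap a =>
      have h1 : γ (algebraMap Γ(S, V) Γ(X, U) a) =
          algebraMap R O (Ideal.Quotient.mk _ (S.presheaf.germ V (f x) hxV a)) := by
        show Ideal.Quotient.mk _ (X.presheaf.germ U x hxU (f.appLE V U hUV a)) =
          Ideal.Quotient.mk _ ((f.stalkMap x).hom (S.presheaf.germ V (f x) hxV a))
        refine congrArg _ ?_
        rw [Scheme.Hom.appLE, CommRingCat.comp_apply]
        exact (TopCat.Presheaf.germ_res_apply X.presheaf (homOfLE hUV) x hxU _).trans
          (Scheme.Hom.germ_stalkMap_apply f V x hxV a).symm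
      rw [h1]
      exact Subalgebra.algebraMap_mem _ _
    | add a b _ _ ha hb => rw [map_add]; exact add_mem ha hb
    | mul a b _ _ ha hb => rw [map_mul]; exact mul_mem ha hb
  have hs : ∀ o : O, ∃ t t' : Algebra.adjoin R (↑(gs.image γ) : Set O),
      IsUnit (t : O) ∧ o * t = t' := fun o => by
    obtain ⟨o, rfl⟩ := Ideal.Quotient.mk_surjective o
    letI := X.presheaf.algebra_section_stalk ⟨x, hxU⟩
    haveI := hU.isLocalization_stalk ⟨x, hxU⟩
    obtain ⟨⟨b, s⟩, hbs⟩ := IsLocalization.surj (hU.primeIdealOf ⟨x, hxU⟩).asIdeal.primeCompl o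
    refine ⟨⟨γ s, hγ s⟩, ⟨γ b, hγ b⟩, (IsLocalization.map_units (X.presheaf.stalk x) s).map
      (Ideal.Quotient.mk (RingHom.ker (Cyc.specMap x ξ h))), ?_⟩
    show Ideal.Quotient.mk _ o * Ideal.Quotient.mk _ (X.presheaf.germ U x hxU (s : Γ(X, U))) = _
    rw [← map_mul]
    exact congrArg _ hbs
  have key := local_dim_formula (gs.image γ) hs hnO hNO
  exact ⟨key.1, fun hc => key.2 (isUniversallyCatenary_quotient hc _)⟩

end Groth.L22.DimFormula
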