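import Groth.Agent.L22.SmoothInterAlg
import Groth.Agent.L22.SchemeDim
import Groth.Agent.L22.Adjunction.SmoothDual
import Mathlib.RingTheory.Smooth.StandardSmoothCotangent

/-!
Dimension of components of intersections on smooth schemes over a field.
-/

set_option autoImplicit false
set_option linter.style.haveILetI false
universe u

open CategoryTheory AlgebraicGeometry TopologicalSpace Topology

noncomputable section

namespace Groth.L22.SmoothInter

variable {k : Type u} [Field k] {X : Scheme.{u}} (f : X ⟶ Spec (CommRingCat.of k)) [Smooth f]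

include f in
/-- The dimension bound at the generic point of a component. -/
theorem dim_closure_add_le {η ξ ζ : X} (h₁ : η ⤳ ζ) (h₂ : ξ ⤳ ζ)
    (hmax : ∀ z : X, η ⤳ z → ξ ⤳ z → z ⤳ ζ → z = ζ) :
    topologicalKrullDim (closure ({η} : Set X)) + topologicalKrullDim (closure ({ξ} : Set X)) ≤
      topologicalKrullDim (closure ({ζ} : Set X)) + topologicalKrullDim X := by
  letI : X.Over (Spec (CommRingCat.of k)) := ⟨f⟩
  haveI : LocallyOfFiniteType (X ↘ Spec (CommRingCat.of k)) :=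
    inferInstanceAs (LocallyOfFiniteType f)
  obtain ⟨U', hU', V, hV, hζ, e, hsm⟩ := Smooth.exists_isStandardSmooth f ζ
  have hUtop : U' = ⊤ := by
    ext y
    simp only [TopologicalSpace.Opens.coe_top, Set.mem_univ, iff_true]
    obtain rfl : y = f ζ := Subsingleton.elim (α := PrimeSpectrum k) _ _
    exact e hζ
  subst hUtop
  have h' : ((f.appLE ⊤ V e).hom.comp (Scheme.ΓSpecIso (CommRingCat.of k)).inv.hom).IsStandardSmooth :=
    RingHom.isStandardSmooth_respectsIso.2 _
      (Scheme.ΓSpecIso (CommRingCat.of k)).symm.commRingCatIsoToRingEquiv hsm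
  have hsec : SchemeDim.sectHom k X V =
      (f.appLE ⊤ V e).hom.comp (Scheme.ΓSpecIso (CommRingCat.of k)).inv.hom := rfl
  rw [← hsec] at h'
  letI : Algebra k Γ(X, V) := (SchemeDim.sectHom k X V).toAlgebra
  haveI : Algebra.FiniteType k Γ(X, V) :=
    RingHom.finiteType_algebraMap.1 (SchemeDim.finiteType_sectHom k X hV)
  have hη : η ∈ V := h₁.mem_open V.2 hζ
  have hξ : ξ ∈ V := h₂.mem_open V.2 hζ
  let pr : ∀ x : X, x ∈ V → PrimeSpectrum Γ(X, V) := fun x hx => hV.primeIdealOf ⟨x, hx⟩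
  have hpr : ∀ x hx, hV.fromSpec (pr x hx) = x := fun x hx => hV.fromSpec_primeIdealOf ⟨x, hx⟩
  have hle : ∀ (p q : Spec Γ(X, V)), p.asIdeal ≤ q.asIdeal ↔ hV.fromSpec p ⤳ hV.fromSpec q :=
    fun p q => (PrimeSpectrum.le_iff_specializes p q).trans
      hV.fromSpec.isOpenEmbedding.isInducing.specializes_iff.symm
  have hle' : ∀ x hx y hy, x ⤳ y → (pr x hx).asIdeal ≤ (pr y hy).asIdeal := fun x hx y hy h =>
    (hle (pr x hx) (pr y hy)).2 (by rw [hpr, hpr]; exact h)
  have hmin : (pr ζ hζ).asIdeal ∈ ((pr η hη).asIdeal ⊔ (pr ξ hξ).asIdeal).minimalPrimes := by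
    refine ⟨⟨(pr ζ hζ).2, sup_le (hle' η hη ζ hζ h₁) (hle' ξ hξ ζ hζ h₂)⟩, ?_⟩
    rintro q ⟨hq, hPQ⟩ hqZ
    let qp : Spec Γ(X, V) := ⟨q, hq⟩
    have a₁ := (hle (pr η hη) qp).1 (le_sup_left.trans hPQ)
    have a₂ := (hle (pr ξ hξ) qp).1 (le_sup_right.trans hPQ)
    have a₃ := (hle qp (pr ζ hζ)).1 hqZ
    rw [hpr] at a₁ a₂ a₃
    have heq : qp = pr ζ hζ :=
      hV.fromSpec.isOpenEmbedding.injective ((hmax _ a₁ a₂ a₃).trans (hpr ζ hζ).symm)
    exact (congrArg PrimeSpectrum.asIdeal heq).ge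
  haveI := (pr η hη).2
  haveI := (pr ξ hξ).2
  haveI := (pr ζ hζ).2
  haveI : Nontrivial Γ(X, V) :=
    ⟨⟨0, 1, fun h => (pr ζ hζ).2.ne_top ((Ideal.eq_top_iff_one _).2
      (h ▸ (pr ζ hζ).asIdeal.zero_mem))⟩⟩
  obtain ⟨ι, σ, _, _, ⟨P⟩⟩ := (show Algebra.IsStandardSmooth k Γ(X, V) from h').out
  haveI : Algebra.IsStandardSmoothOfRelativeDimension P.dimension k Γ(X, V) := P.isStandardSmoothOfRelativeDimension rfl
  letI := Fintype.ofFinite ((Set.range P.map)ᶜ : Set _)
  have hcard : Fintype.card ((Set.range P.map)ᶜ : Set _) = P.dimension := by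
    have h1 := rank_eq_card_basis P.basisKaehler
    rw [P.rank_kaehlerDifferential] at h1
    exact_mod_cast h1.symm
  have hspan : Submodule.span Γ(X, V) (Set.range fun i : ((Set.range P.map)ᶜ : Set _) =>
      KaehlerDifferential.D k Γ(X, V) (P.val i)) = ⊤ := by
    rw [← P.basisKaehler.span_eq]
    congr 2
    funext i
    exact (P.basisKaehler_apply i).symm
  have halg := dim_add_dim_le k _ hspan _ _ _ hmin
  let S := Spec Γ(X, V)
  letI : S.Over (Spec (CommRingCat.of k)) :=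
    ⟨Spec.map (CommRingCat.ofHom (SchemeDim.sectHom k X V))⟩
  haveI : SmoothOfRelativeDimension P.dimension (S ↘ Spec (CommRingCat.of k)) :=
    (HasRingHomProperty.Spec_iff (P := @SmoothOfRelativeDimension P.dimension)).2
      (RingHom.locally_of RingHom.isStandardSmoothOfRelativeDimension_respectsIso _ ‹_›)
  haveI : Nonempty S := ⟨pr ζ hζ⟩
  have hdim : (P.dimension : WithBot ℕ∞) ≤ topologicalKrullDim X := by
    rw [← Adjunction.topologicalKrullDim_eq_relDim k P.dimension S]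
    exact hV.fromSpec.isOpenEmbedding.isInducing.topologicalKrullDim_le
  rw [hcard] at halg
  have hd : ∀ x hx, topologicalKrullDim (closure ({x} : Set X)) =
      ringKrullDim (Γ(X, V) ⧸ (pr x hx).asIdeal) := by
    intro x hx
    obtain ⟨a, ha, hta⟩ := SchemeDim.exists_dim_closure_eq_trdeg k X x
    obtain ⟨b, hb, htb⟩ := SchemeDim.exists_dim_quotient_eq_trdeg k X hV hx
    rw [ha]
    refine Eq.trans ?_ hb.symm
    exact_mod_cast (show a = b by exact_mod_cast hta.symm.trans htb)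
  rw [hd η hη, hd ξ hξ, hd ζ hζ]
  exact halg.trans (add_le_add le_rfl hdim)

end Groth.L22.SmoothInter
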