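import Groth.Agent.L27.Quot.Finite
import Groth.Agent.L27.Quot.Local
import Groth.Agent.L22.SymQuot.BaseChange
import Groth.Agent.L19.Topology
import Groth.Agent.L05.Henselization.FlatQFComponents
import Groth.Agent.L05.CurveNorm.Algebra
import Groth.Agent.L16.CurveCompletion.Normal
import Groth.Agent.L21.Smooth.Scheme
import Groth.Agent.L21.Curve.NormalConnected
import Groth.Agent.L21.CurvFib.DimExt
import Mathlib.AlgebraicGeometry.Geometrically.Connected
import Mathlib.AlgebraicGeometry.Noetherian
import Mathlib.RingTheory.IsGaloisGroup.Basic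
import Mathlib.FieldTheory.Galois.IsGaloisGroup
import Mathlib.AlgebraicGeometry.Morphisms.FlatRank
import Mathlib.AlgebraicGeometry.Morphisms.LocalFlatDescent
import Mathlib.RingTheory.DedekindDomain.Basic
import Mathlib.RingTheory.Flat.TorsionFree

/-!
# Quotients of normal curves by finite groups
-/

set_option autoImplicit false
set_option linter.style.haveILetI false
set_option linter.unusedSectionVars false
set_option backward.isDefEq.respectTransparency false

universe u

open CategoryTheory CategoryTheory.Limits AlgebraicGeometry TopologicalSpace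

noncomputable section

namespace Groth.L22.CurveQuot

section Alg

variable {A B : Type u} [CommRing A] [CommRing B] [IsDomain B] [Algebra A B]

/-- Invariants of an integrally closed domain are integrally closed. -/
theorem isIntegrallyClosed_invariants (G : Type u) [Group G] [MulSemiringAction G B]
    [Algebra.IsInvariant A B G] [SMulCommClass G A B] [IsDomain A] (hinj : Function.Injective (algebraMap A B))
    [IsIntegrallyClosed B] : IsIntegrallyClosed A := by
  let K := FractionRing A
  let L := FractionRing B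
  have hi : Function.Injective ((algebraMap B L).comp (algebraMap A B)) :=
    (IsFractionRing.injective B L).comp hinj
  let φ : K →+* L := IsFractionRing.lift hi
  have hφ : ∀ a, φ (algebraMap A K a) = algebraMap B L (algebraMap A B a) := fun a =>
    IsFractionRing.lift_algebraMap hi a
  rw [isIntegrallyClosed_iff K]
  intro x hx
  obtain ⟨a, s, hs, hx'⟩ := IsFractionRing.div_surjective A x
  have hy : IsIntegral B (φ x) := by
    obtain ⟨p, hpm, hp⟩ := hx
    refine ⟨p.map (algebraMap A B), hpm.map _, ?_⟩
    rw [Polynomial.eval₂_map, show (algebraMap B L).comp (algebraMap A B) = φ.comp (algebraMap A K) from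
      RingHom.ext fun a => (hφ a).symm, ← Polynomial.hom_eval₂, hp, map_zero]
  obtain ⟨b, hb⟩ := IsIntegrallyClosed.algebraMap_eq_of_integral hy
  have hs0 : algebraMap A B s ≠ 0 := (map_ne_zero_iff _ hinj).2 (nonZeroDivisors.ne_zero hs)
  have hbs : b * algebraMap A B s = algebraMap A B a := by
    apply IsFractionRing.injective B L
    rw [map_mul, hb, ← hx', map_div₀, hφ, hφ, div_mul_cancel₀]
    exact (map_ne_zero_iff _ (IsFractionRing.injective B L)).2 hs0
  obtain ⟨c, hc⟩ := Algebra.IsInvariant.isInvariant (A := A) (G := G) b (fun g => by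
    have h : g • b * algebraMap A B s = b * algebraMap A B s := by
      calc g • b * algebraMap A B s = g • (b * algebraMap A B s) := by rw [smul_mul', smul_algebraMap]
        _ = b * algebraMap A B s := by rw [hbs, smul_algebraMap]
    exact mul_right_cancel₀ hs0 h)
  exact ⟨c, φ.injective (by rw [hφ, hc, hb])⟩

end Alg

/-- A connected scheme proper and smooth over a field is integral. -/
theorem isIntegral_of_smooth {k : Type u} [Field k] {X : Scheme.{u}} (f : X ⟶ Spec (CommRingCat.of k)) [IsProper f]
    [Smooth f] [GeometricallyConnected f] : IsIntegral X := by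
  haveI : Subsingleton ↥(Spec (CommRingCat.of k)) := inferInstanceAs (Subsingleton (PrimeSpectrum k))
  haveI : Nonempty ↥(Spec (CommRingCat.of k)) := inferInstanceAs (Nonempty (PrimeSpectrum k))
  haveI : ConnectedSpace ↥X := GeometricallyConnected.connectedSpace_of_subsingleton f
  haveI : IsLocallyNoetherian X := LocallyOfFiniteType.isLocallyNoetherian f
  haveI : CompactSpace X := QuasiCompact.compactSpace_of_compactSpace f
  haveI : IsNoetherian X := { }
  exact Groth.L21.NormalTotal.isIntegral_of_connected fun y => Groth.L21.Smooth.isDomain_stalk f y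

/-- Sections of an integral scheme smooth over a field are integrally closed. -/
theorem isIntegrallyClosed_of_smooth {k : Type u} [Field k] {X : Scheme.{u}} (f : X ⟶ Spec (CommRingCat.of k))
    [Smooth f] [IsIntegral X] (U : X.Opens) (hU : Nonempty U) : IsIntegrallyClosed Γ(X, U) :=
  Groth.L16.CurveCompletion.isIntegrallyClosed_sections (Groth.L21.Smooth.isIntegrallyClosed_stalk f) U hU

variable {k : Type u} [Field k] {X Y : Scheme.{u}} {p : X ⟶ Spec (CommRingCat.of k)} {G : Type u} [Group G]
  [Finite G] {ρ : G →* Aut X} {π : X ⟶ Y} {q : Y ⟶ Spec (CommRingCat.of k)} (hπ : π ≫ q = p)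
  (hquot : SGA1.IsQuot ρ π)

include hquot in
/-- A quotient of an integral scheme is integral. -/
theorem isIntegral_quot [IsIntegral X] : IsIntegral Y := by
  haveI : _root_.IrreducibleSpace Y := by
    obtain ⟨x⟩ := (inferInstance : Nonempty X)
    exact { toNonempty := ⟨π x⟩
            isPreirreducible_univ := by
              have h := (IrreducibleSpace.isIrreducible_univ X).isPreirreducible.image π π.continuous.continuousOn
              rwa [Set.image_univ, (Groth.L27.Quot.surjective hquot).range_eq] at h }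
  haveI : AlgebraicGeometry.IsReduced Y := ⟨fun U => isReduced_of_injective (π.app U).hom (hquot.injective U)⟩
  exact isIntegral_of_irreducibleSpace_of_isReduced Y

include hquot in
theorem nonempty_preimage {U : Y.Opens} (hU : Nonempty U) : Nonempty (π ⁻¹ᵁ U) := by
  obtain ⟨⟨y, hy⟩⟩ := hU
  obtain ⟨x, rfl⟩ := Groth.L27.Quot.surjective hquot y
  exact ⟨⟨x, hy⟩⟩

include hπ hquot in
theorem topologicalKrullDim_quot [IsProper p] : topologicalKrullDim Y = topologicalKrullDim X := by
  haveI : LocallyOfFiniteType (π ≫ q) := hπ ▸ inferInstance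
  haveI := Groth.L27.Quot.isFinite_of_comp hquot q
  refine le_antisymm (Groth.L19.topologicalKrullDim_le_of_surjective_specializing
    (Groth.L27.Quot.surjective hquot) π.isClosedMap.specializingMap) ?_
  rw [Groth.L19.topologicalKrullDim_eq_krullDim, Groth.L19.topologicalKrullDim_eq_krullDim]
  let _ := specializationOrder X
  let _ := specializationOrder Y
  refine Order.krullDim_le_of_strictMono π fun a b hab => ?_
  refine lt_of_le_of_ne (Specializes.map hab.le π.continuous) fun e => hab.ne ?_
  exact (Groth.L05.Henselization.FlatQF.eq_of_specializes π (hab.le : b ⤳ a) e.symm).symm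

include hπ hquot in
theorem locallyOfFiniteType_quot [LocallyOfFiniteType p] : LocallyOfFiniteType q := by
  haveI : LocallyOfFiniteType (π ≫ q) := hπ ▸ inferInstance
  exact Groth.L27.Quot.locallyOfFiniteType_desc hquot q

variable (hN : ∀ U : X.Opens, Nonempty U → IsIntegrallyClosed Γ(X, U))

include hπ hquot hN in
/-- The affine opens of the quotient are spectra of Dedekind domains. -/
theorem isDedekindDomain_quot [IsIntegral X] [IsProper p] (hdim : topologicalKrullDim X = 1) {U : Y.Opens}
    (hU : IsAffineOpen U) (hne : Nonempty U) : IsDedekindDomain Γ(Y, U) := by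
  haveI := isIntegral_quot hquot
  haveI := locallyOfFiniteType_quot hπ hquot
  haveI : IsLocallyNoetherian Y := LocallyOfFiniteType.isLocallyNoetherian q
  haveI : Nonempty (π ⁻¹ᵁ U) := nonempty_preimage hquot hne
  haveI := hN (π ⁻¹ᵁ U) ‹_›
  haveI : IsNoetherianRing Γ(Y, U) := IsLocallyNoetherian.component_noetherian ⟨U, hU⟩
  letI := (π.app U).hom.toAlgebra
  letI := Groth.L27.Quot.sectionsAction hquot.inv U
  obtain ⟨h1, h2⟩ := Groth.L27.Quot.sections_props hquot U
  haveI := h1
  haveI := h2
  haveI : IsIntegrallyClosed Γ(Y, U) := isIntegrallyClosed_invariants G (hquot.injective U)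
  haveI : Ring.KrullDimLE 1 Γ(Y, U) := by
    rw [Ring.krullDimLE_iff, ← SchemeDim.topologicalKrullDim_affineOpen hU]
    refine ((Topology.IsEmbedding.subtypeVal (p := fun x : Y => x ∈ (U : Set Y))).isInducing.topologicalKrullDim_le).trans ?_
    rw [topologicalKrullDim_quot hπ hquot, hdim]
    rfl
  haveI : Ring.DimensionLEOne Γ(Y, U) := ⟨fun {P} hP0 hP => hP.isMaximal_of_ne_bot hP0⟩
  haveI : IsDedekindRing Γ(Y, U) := { }
  exact { }

include hπ hquot hN in
/-- A quotient of a normal curve is flat. -/
theorem flat_quot [IsIntegral X] [IsProper p] (hdim : topologicalKrullDim X = 1) : Flat π := by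
  haveI := hquot.affine
  haveI := isIntegral_quot hquot
  rw [HasRingHomProperty.iff_exists_appLE (P := @Flat) (RingHom.Flat.stableUnderComposition.stableUnderCompositionWithLocalizationAway RingHom.Flat.holdsForLocalizationAway).left]
  intro x
  obtain ⟨U, hU, hxU, -⟩ := exists_isAffineOpen_mem_and_subset (X := Y) (U := ⊤) (x := π x) trivial
  refine ⟨⟨U, hU⟩, ⟨π ⁻¹ᵁ U, hU.preimage π⟩, hxU, le_rfl, ?_⟩
  haveI := isDedekindDomain_quot hπ hquot hN hdim hU ⟨⟨_, hxU⟩⟩
  haveI : Nonempty (π ⁻¹ᵁ U) := ⟨⟨x, hxU⟩⟩
  rw [← Scheme.Hom.app_eq_appLE]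
  letI := (π.app U).hom.toAlgebra
  haveI : FaithfulSMul Γ(Y, U) Γ(X, π ⁻¹ᵁ U) := (faithfulSMul_iff_algebraMap_injective _ _).2 (hquot.injective U)
  exact (inferInstance : Module.Flat Γ(Y, U) Γ(X, π ⁻¹ᵁ U))

variable (hρ : Function.Injective ρ) (hρk : ∀ g : G, (ρ g).hom ≫ p = p)

include hπ hquot hN hρ hρk in
/-- The degree of a faithful quotient of a normal curve is the order of the group. -/
theorem finrank_quot [IsIntegral X] [IsProper p] (hdim : topologicalKrullDim X = 1) (y : Y) :
    π.finrank y = Nat.card G := by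
  haveI := hquot.affine
  haveI := isIntegral_quot hquot
  haveI : LocallyOfFiniteType (π ≫ q) := hπ ▸ inferInstance
  haveI := Groth.L27.Quot.isFinite_of_comp hquot q
  haveI := flat_quot hπ hquot hN hdim
  obtain ⟨U, hU, hyU, -⟩ := exists_isAffineOpen_mem_and_subset (X := Y) (U := ⊤) (x := y) trivial
  obtain ⟨z, rfl⟩ : y ∈ Set.range hU.fromSpec := by rw [hU.range_fromSpec]; exact hyU
  haveI := isDedekindDomain_quot hπ hquot hN hdim hU ⟨⟨_, hyU⟩⟩
  haveI : Nonempty (π ⁻¹ᵁ U) := nonempty_preimage hquot ⟨⟨_, hyU⟩⟩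
  have hW := hU.preimage π
  letI := (π.app U).hom.toAlgebra
  letI := Groth.L27.Quot.sectionsAction hquot.inv U
  obtain ⟨h1, h2⟩ := Groth.L27.Quot.sections_props hquot U
  haveI : FaithfulSMul Γ(Y, U) Γ(X, π ⁻¹ᵁ U) := (faithfulSMul_iff_algebraMap_injective _ _).2 (hquot.injective U)
  haveI : IsGaloisGroup G Γ(Y, U) Γ(X, π ⁻¹ᵁ U) := by
    refine ⟨⟨fun {g₁ g₂} hg => ?_⟩, h2, h1⟩
    rw [← inv_mul_eq_one]
    apply hρ
    rw [map_one]
    refine Iso.ext ?_
    show (ρ (g₁⁻¹ * g₂)).hom = 𝟙 X
    have hact : Groth.L27.Quot.act hquot.inv (g₁⁻¹ * g₂) U = 𝟙 _ := by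
      ext s
      have h := hg s
      have e : ((g₂⁻¹ * g₁) : G) • s = s := by rw [mul_smul, h, inv_smul_smul]
      change (Groth.L27.Quot.act hquot.inv (g₂⁻¹ * g₁)⁻¹ U).hom s = s at e
      rwa [mul_inv_rev, inv_inv] at e
    haveI : IsDominant hW.fromSpec := by
      refine ⟨?_⟩
      rw [DenseRange, hW.range_fromSpec]
      exact (π ⁻¹ᵁ U).isOpen.dense (Set.nonempty_coe_sort.1 ‹Nonempty (π ⁻¹ᵁ U)›)
    haveI : IsSeparated p := inferInstance
    refine ext_of_isDominant_of_isSeparated p (by rw [hρk, Category.id_comp]) hW.fromSpec ?_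
    rw [Category.comp_id, ← hW.SpecMap_appLE_fromSpec (ρ (g₁⁻¹ * g₂)).hom hW
      (SGA1.preimage_le_of_inv ρ π hquot.inv _ U)]
    show Spec.map (Groth.L27.Quot.act hquot.inv (g₁⁻¹ * g₂) U) ≫ hW.fromSpec = _
    rw [hact, Spec.map_id, Category.id_comp]
  haveI : Module.Finite Γ(Y, U) Γ(X, π ⁻¹ᵁ U) := π.finite_app U hU
  have hsq : IsPullback (hW).fromSpec (Spec.map (π.app U)) π hU.fromSpec :=
    (IsOpenImmersion.isPullback _ _ _ _
      (by rw [Scheme.Hom.app_eq_appLE]; exact (hU.SpecMap_appLE_fromSpec π hW le_rfl).symm)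
      (by rw [hU.opensRange_fromSpec, hW.opensRange_fromSpec])).flip
  rw [← Scheme.Hom.finrank_of_isPullback _ _ _ _ hsq z]
  show Scheme.Hom.finrank (Spec.map (CommRingCat.ofHom (algebraMap Γ(Y, U) Γ(X, π ⁻¹ᵁ U)))) z = _
  rw [Scheme.Hom.finrank_SpecMap_algebraMap]
  exact ((Module.rankAtStalk_eq (R := Γ(Y, U)) (M := Γ(X, π ⁻¹ᵁ U)) z).trans
    (Ideal.finrank_fiber_eq_finrank z.asIdeal)).trans
    (IsGaloisGroup.card_eq_finrank' G Γ(Y, U) Γ(X, π ⁻¹ᵁ U)).symm

include hπ hquot hN in
/-- A quotient of a normal curve over a perfect field is smooth. -/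
theorem smooth_quot [PerfectField k] [IsIntegral X] [IsProper p] (hdim : topologicalKrullDim X = 1) :
    Smooth q := by
  haveI := isIntegral_quot hquot
  haveI := locallyOfFiniteType_quot hπ hquot
  refine HasRingHomProperty.of_iSup_eq_top (P := @Smooth) (fun V : Y.affineOpens => V)
    (iSup_affineOpens_eq_top Y) fun V => ?_
  have hft : (q.appLE ⊤ V.1 le_top).hom.FiniteType :=
    HasRingHomProperty.appLE @LocallyOfFiniteType q ‹_› ⟨⊤, isAffineOpen_top _⟩ V le_top
  let φ : k →+* Γ(Y, V.1) := ((Scheme.ΓSpecIso (CommRingCat.of k)).inv ≫ q.appLE ⊤ V.1 le_top).hom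
  have hφ : φ.FiniteType := RingHom.finiteType_respectsIso.2 _
    (Scheme.ΓSpecIso (CommRingCat.of k)).symm.commRingCatIsoToRingEquiv hft
  have hsm' : φ.Smooth := by
    by_cases hne : Nonempty V.1
    · letI := φ.toAlgebra
      haveI : Algebra.FiniteType k Γ(Y, V.1) := RingHom.finiteType_algebraMap.mp hφ
      haveI := isDedekindDomain_quot hπ hquot hN hdim V.2 hne
      exact RingHom.smooth_algebraMap.mpr (Groth.L05.CurveNorm.smooth_of_dedekind k Γ(Y, V.1))
    · have hbot : V.1 = ⊥ := Opens.ext (Set.eq_empty_of_forall_notMem fun y hy => hne ⟨⟨y, hy⟩⟩)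
      haveI : Subsingleton Γ(Y, V.1) := by rw [hbot]; infer_instance
      letI := φ.toAlgebra
      exact RingHom.smooth_algebraMap.mpr inferInstance
  have := RingHom.Smooth.respectsIso.2 φ (Scheme.ΓSpecIso (CommRingCat.of k)).commRingCatIsoToRingEquiv hsm'
  convert this using 1
  ext a
  exact congrArg _ (Iso.hom_inv_id_apply (Scheme.ΓSpecIso (CommRingCat.of k)) a).symm

include hπ hquot in
/-- A quotient of a geometrically connected scheme is geometrically connected. -/
theorem geometricallyConnected_quot [GeometricallyConnected p] : GeometricallyConnected q := by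
  refine ⟨fun K _ y Z fst snd h => ?_⟩
  let fp := pullback.fst p y
  let e : pullback p y ⟶ Z := h.lift (fp ≫ π) (pullback.snd p y) (by rw [Category.assoc, hπ, pullback.condition])
  haveI : ConnectedSpace ↥(pullback p y) :=
    GeometricallyConnected.geometrically_connectedSpace y _ _ (IsPullback.of_hasPullback p y)
  have H : IsPullback fp e π fst := by
    refine IsPullback.of_bot ?_ (h.lift_fst _ _ _).symm h
    rw [h.lift_snd, hπ]
    exact IsPullback.of_hasPullback p y
  haveI : Surjective π := ⟨Groth.L27.Quot.surjective hquot⟩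
  haveI : Surjective e := MorphismProperty.of_isPullback H ‹Surjective π›
  exact e.surjective.connectedSpace e.continuous

end Groth.L22.CurveQuot
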