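import Groth.Agent.L22.HypCover
import Groth.Agent.L22.Reg.Forms
import Groth.Agent.L18.ConeMaps
import Groth.Agent.L22.FibreDim
import Mathlib.AlgebraicGeometry.Morphisms.Finite
import Mathlib.RingTheory.MvPolynomial.Homogeneous

/-!
Linear projections of projective schemes onto projective spaces of the same dimension.
-/

set_option autoImplicit false
set_option backward.isDefEq.respectTransparency false
set_option linter.style.haveILetI false
universe u

open CategoryTheory CategoryTheory.Limits AlgebraicGeometry TopologicalSpace HomogeneousLocalization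

noncomputable section

namespace Groth.L22.LinProj

open Groth.L22.HypCover (Dh)
open Groth.L22.Reg (Form)

variable {k : Type u} [Field k] {n : ℕ}

/-- `r` linear forms without common zero on a closed set of dimension less than `r`. -/
theorem exists_forms [Infinite k] :
    ∀ (r : ℕ) (Z : Set (CohB1.ProjSpace n k)), IsClosed Z →
      (∀ x ∈ Z, topologicalKrullDim (closure ({x} : Set (CohB1.ProjSpace n k))) < (r : WithBot ℕ∞)) →
      ∃ f : Fin r → Form n k, Z ⊆ ⋃ j, (Dh (f j).1 : Set (CohB1.ProjSpace n k))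
  | 0, Z, _, hdim => ⟨Fin.elim0, fun x hx => by
      have h := hdim x hx
      exact absurd (Groth.L03.Euler.zero_le_topologicalKrullDim ((Set.singleton_nonempty x).mono subset_closure))
        (not_le.2 (by simpa using h))⟩
  | r + 1, Z, hZ, hdim => by
    classical
    haveI := Groth.L22.PDual.proper n k
    haveI := Groth.L21.RR.isNoetherian_of_proper (X := CohB1.ProjSpace n k) k
    haveI : QuasiSober Z := hZ.isClosedEmbedding_subtypeVal.quasiSober
    haveI : NoetherianSpace Z := (Topology.IsInducing.subtypeVal (t := Z)).noetherianSpace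
    have hfin : {y : Z | closure {y} ∈ irreducibleComponents Z}.Finite := by
      refine Set.Finite.of_finite_image (f := fun y : Z => closure ({y} : Set Z))
        ((NoetherianSpace.finite_irreducibleComponents (α := Z)).subset ?_) fun y _ y' _ h => ?_
      · rintro _ ⟨y, hy, rfl⟩
        exact hy
      · exact (inseparable_iff_closure_eq.2 h).eq
    obtain ⟨h, hEh⟩ := Groth.L22.Reg.exists_form_avoiding (n := n) (k := k) (hfin.image Subtype.val)
    let D : (CohB1.ProjSpace n k).Opens := Dh h.1
    obtain ⟨hs, hcov⟩ := exists_forms r (Z \ (D : Set (CohB1.ProjSpace n k))) (hZ.sdiff D.2) fun x hx => by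
      obtain ⟨C, hC, hxC⟩ := exists_mem_irreducibleComponents_subset_of_isIrreducible _
        (isIrreducible_singleton (x := (⟨x, hx.1⟩ : Z)))
      obtain ⟨η, hη⟩ := QuasiSober.sober hC.1 (isClosed_of_mem_irreducibleComponents C hC)
      have hspec : (η : CohB1.ProjSpace n k) ⤳ x := (subtype_specializes_iff _ _).1 (hη.specializes (hxC rfl))
      have hηD : (η : CohB1.ProjSpace n k) ∈ D :=
        hEh _ ⟨η, (Eq.mpr (congrArg (· ∈ irreducibleComponents ↥Z) hη.def) hC :
          closure {η} ∈ irreducibleComponents ↥Z), rfl⟩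
      have hsub : closure ({x} : Set (CohB1.ProjSpace n k)) ⊆ closure ({(η : CohB1.ProjSpace n k)} : Set _) :=
        closure_minimal (Set.singleton_subset_iff.2 (specializes_iff_mem_closure.1 hspec)) isClosed_closure
      have hne : closure ({x} : Set (CohB1.ProjSpace n k)) ≠ closure ({(η : CohB1.ProjSpace n k)} : Set _) :=
        fun he => hx.2 ((inseparable_iff_closure_eq.2 he).eq ▸ hηD)
      have h2 := lt_of_le_of_lt (Groth.L03.Euler.topologicalKrullDim_add_one_le isClosed_closure
        isIrreducible_singleton.closure hsub hne) (hdim η η.2)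
      obtain ⟨m, hm⟩ := WithBot.ne_bot_iff_exists.1 (ne_bot_of_le_ne_bot (by simp)
        (Groth.L03.Euler.zero_le_topologicalKrullDim ((Set.singleton_nonempty x).mono subset_closure)))
      rw [← hm] at h2 ⊢
      have h3 : m + 1 < ((r + 1 : ℕ) : ℕ∞) := WithBot.coe_lt_coe.1 h2
      obtain ⟨m', rfl⟩ := WithTop.ne_top_iff_exists.1 (ne_top_of_le_ne_top (ENat.natCast_ne_top (r + 1))
        (le_self_add.trans h3.le))
      have h4 : m' + 1 < r + 1 := (Nat.cast_lt (α := ℕ∞)).1 (by rw [Nat.cast_add, Nat.cast_one]; exact h3)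
      exact WithBot.coe_lt_coe.2 (Nat.cast_lt.2 (by omega : m' < r))
    refine ⟨Fin.cons h hs, fun x hxZ => ?_⟩
    by_cases hxD : x ∈ D
    · exact Set.mem_iUnion.2 ⟨0, hxD⟩
    · obtain ⟨j, hj⟩ := Set.mem_iUnion.1 (hcov ⟨hxZ, hxD⟩)
      exact Set.mem_iUnion.2 ⟨j.succ, by simpa using hj⟩

variable {d : ℕ} (f : Fin (d + 1) → Form n k)

/-- The substitution of linear forms. -/
def subst : CohB1.polyGrading d k →+*ᵍ CohB1.polyGrading n k where
  __ := (MvPolynomial.aeval (fun j => (f j).1) :
    MvPolynomial (Fin (d + 1)) k →ₐ[k] MvPolynomial (Fin (n + 1)) k).toRingHom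
  map_mem {i x} hx := by
    show ((MvPolynomial.aeval fun j => (f j).1) x).IsHomogeneous i
    have h := (show x.IsHomogeneous i from hx).aeval (fun j => (f j).1) (fun j => (f j).2)
    rwa [one_mul] at h

theorem subst_C (c : k) : subst f (MvPolynomial.C c) = MvPolynomial.C c :=
  MvPolynomial.aeval_C _ c

/-- Base maps of the standard charts. -/
theorem awayι_toSpec {m : ℕ} {g : MvPolynomial (Fin (m + 1)) k} {e : ℕ} (hg : g ∈ CohB1.polyGrading m k e) (he : 0 < e) :
    Proj.awayι (CohB1.polyGrading m k) g hg he ≫ CohB1.ProjSpace.toSpec m k =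
      Spec.map (CommRingCat.ofHom ((fromZeroRingHom (CohB1.polyGrading m k) (.powers g)).comp
        (algebraMap k (CohB1.polyGrading m k 0)))) := by
  show Proj.awayι _ g hg he ≫ Proj.toSpecZero _ ≫ _ = _
  rw [Proj.awayι_toSpecZero_assoc, ← Spec.map_comp]
  rfl

/-- The projection from the common zeros of linear forms. -/
theorem exists_proj :
    ∃ p : (PCone.dom (subst f) : Scheme.{u}) ⟶ CohB1.ProjSpace d k,
      IsAffineHom p ∧ p ≫ CohB1.ProjSpace.toSpec d k = (PCone.dom (subst f)).ι ≫ CohB1.ProjSpace.toSpec n k := by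
  obtain ⟨p, hp, -⟩ := Groth.L18.Cones.existsUnique_pmap (subst f)
  refine ⟨p, Groth.L18.Cones.pmap_isAffineHom (subst f) p hp, ?_⟩
  refine Scheme.hom_ext_of_forall _ _ fun z => ?_
  obtain ⟨q, hq⟩ := Groth.L18.Cones.pchart_cover (subst f) z
  refine ⟨(PCone.chart (subst f) q.2.2 q.2.1).opensRange, hq, ?_⟩
  rw [← cancel_epi (PCone.chart (subst f) q.2.2 q.2.1).isoOpensRange.hom]
  simp only [Scheme.Hom.isoOpensRange_hom_ι_assoc]
  rw [← Category.assoc (PCone.chart _ _ _), hp _ _ q.2.1 q.2.2, ← Category.assoc (PCone.chart _ _ _),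
    Groth.L18.Cones.pchart_ι, Category.assoc, awayι_toSpec, awayι_toSpec, ← Spec.map_comp]
  congr 1
  refine CommRingCat.hom_ext (RingHom.ext fun c => ?_)
  apply HomogeneousLocalization.val_injective
  show ((Away.map (subst f) q.1.2) (fromZeroRingHom (CohB1.polyGrading d k) _ (algebraMap k _ c))).val =
    (fromZeroRingHom (CohB1.polyGrading n k) _ (algebraMap k _ c)).val
  simp only [HomogeneousLocalization.fromZeroRingHom, Away.map, HomogeneousLocalization.map_mk, RingHom.coe_mk,
    MonoidHom.coe_mk, OneHom.coe_mk, HomogeneousLocalization.val_mk, map_one]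
  congr 1
  · exact subst_C f c
  · exact Subtype.ext (map_one (subst f))

/-- A finite surjective linear projection onto projective space of the same dimension. -/
theorem exists_finite_surjective [Infinite k] {X : Scheme.{u}} (ι : X ⟶ CohB1.ProjSpace n k) [IsClosedImmersion ι]
    (d : ℕ) (hd : topologicalKrullDim X = d) :
    ∃ π : X ⟶ CohB1.ProjSpace d k, π ≫ CohB1.ProjSpace.toSpec d k = ι ≫ CohB1.ProjSpace.toSpec n k ∧
      IsFinite π ∧ Surjective π := by
  have hZ : IsClosed (Set.range ι.base) := ι.isClosedEmbedding.isClosed_range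
  obtain ⟨f, hf⟩ := exists_forms (n := n) (k := k) (d + 1) _ hZ fun x hx => by
    have h1 : (d : WithBot ℕ∞) < ((d + 1 : ℕ) : WithBot ℕ∞) := by exact_mod_cast Nat.lt_succ_self d
    refine lt_of_le_of_lt ((Topology.IsEmbedding.inclusion
      (closure_minimal (Set.singleton_subset_iff.2 hx) hZ)).isInducing.topologicalKrullDim_le.trans (le_of_eq ?_)) h1
    rw [← hd]
    exact (IsHomeomorph.topologicalKrullDim_eq _ ι.isClosedEmbedding.isEmbedding.toHomeomorph.isHomeomorph).symm
  obtain ⟨p, hpa, hpk⟩ := exists_proj f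
  let U : (CohB1.ProjSpace n k).Opens := PCone.dom (subst f)
  have hr : Set.range ι.base ⊆ Set.range U.ι.base := by
    rw [Scheme.Opens.range_ι]
    intro x hx
    obtain ⟨j, hj⟩ := Set.mem_iUnion.1 (hf hx)
    refine Opens.mem_iSup.2 ⟨⟨MvPolynomial.X j, 1, one_pos, MvPolynomial.isHomogeneous_X k j⟩, ?_⟩
    show x ∈ Dh ((MvPolynomial.aeval fun j => (f j).1) (MvPolynomial.X j))
    rw [MvPolynomial.aeval_X]
    exact hj
  let l : X ⟶ U.toScheme := IsOpenImmersion.lift U.ι ι hr
  have hl : l ≫ U.ι = ι := IsOpenImmersion.lift_fac _ _ _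
  haveI : IsClosedImmersion (l ≫ U.ι) := by rw [hl]; infer_instance
  haveI : IsClosedImmersion l := IsClosedImmersion.of_comp l U.ι
  let π : X ⟶ CohB1.ProjSpace d k := l ≫ p
  have hπ : π ≫ CohB1.ProjSpace.toSpec d k = ι ≫ CohB1.ProjSpace.toSpec n k := by
    rw [Category.assoc, hpk, ← Category.assoc, hl]
  haveI := Groth.L22.PDual.proper n k
  haveI := Groth.L22.PDual.proper d k
  haveI : IsProper (CohB1.ProjSpace.toSpec n k) := Groth.L22.PDual.proper n k
  haveI : IsProper (CohB1.ProjSpace.toSpec d k) := Groth.L22.PDual.proper d k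
  haveI : IsProper (π ≫ CohB1.ProjSpace.toSpec d k) := by rw [hπ]; infer_instance
  haveI : IsProper π := IsProper.of_comp π (CohB1.ProjSpace.toSpec d k)
  haveI : IsAffineHom l := inferInstance
  haveI : IsAffineHom π := MorphismProperty.comp_mem _ l p inferInstance hpa
  haveI hfin : IsFinite π := IsFinite.iff_isProper_and_isAffineHom.2 ⟨inferInstance, inferInstance⟩
  refine ⟨π, hπ, hfin, ⟨?_⟩⟩
  letI : X.Over (Spec (CommRingCat.of k)) := ⟨ι ≫ CohB1.ProjSpace.toSpec n k⟩
  haveI : LocallyOfFiniteType (CohB1.ProjSpace d k ↘ Spec (CommRingCat.of k)) :=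
    (inferInstance : LocallyOfFiniteType (CohB1.ProjSpace.toSpec d k))
  obtain ⟨x, hx⟩ := Groth.L22.FibreDim.exists_le_dim_closure (T := X) (r := d) hd.ge
  obtain ⟨a, b, ha, hb, hab⟩ := Groth.L22.FibreDim.exists_dim_closure_add k π hπ x
  have hb0 : b = 0 := by
    haveI : DiscreteTopology (π ⁻¹' {π x} : Set X) :=
      (π.isDiscrete_preimage_singleton (π x)).to_subtype
    haveI : DiscreteTopology (closure ({x} : Set X) ∩ π ⁻¹' {π x} : Set X) :=
      DiscreteTopology.of_subset inferInstance Set.inter_subset_right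
    exact Nat.le_zero.1 (by exact_mod_cast hb.symm.le.trans (topologicalKrullDim_zero_of_discreteTopology _))
  rw [hb0, add_zero] at hab
  have hle : (d : WithBot ℕ∞) ≤ topologicalKrullDim (closure ({π x} : Set (CohB1.ProjSpace d k))) :=
    ha ▸ hab ▸ hx
  have huniv : closure ({π x} : Set (CohB1.ProjSpace d k)) = Set.univ := by
    by_contra hne
    haveI : IrreducibleSpace (CohB1.ProjSpace d k) := inferInstance
    have h1 := Groth.L03.Euler.topologicalKrullDim_add_one_le isClosed_closure
      (IrreducibleSpace.isIrreducible_univ _) (Set.subset_univ _) hne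
    rw [IsHomeomorph.topologicalKrullDim_eq _ (Homeomorph.Set.univ (CohB1.ProjSpace d k)).isHomeomorph,
      Groth.L16.ProjSpace.topologicalKrullDim_eq_of_field, ha] at h1
    rw [ha] at hle
    have h2 : a + 1 ≤ d := by
      have h : (a : ℕ∞) + 1 ≤ (d : ℕ∞) := WithBot.coe_le_coe.1 h1
      exact_mod_cast h
    have h3 : d ≤ a := by exact_mod_cast WithBot.coe_le_coe.1 hle
    omega
  intro y
  have hcl : IsClosed (Set.range π.base) := π.isClosedMap.isClosed_range
  exact closure_minimal (Set.singleton_subset_iff.2 (Set.mem_range_self x)) hcl (huniv ▸ Set.mem_univ y)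

end Groth.L22.LinProj
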