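import Groth.Agent.L22.Lambda
import Mathlib.RingTheory.PowerSeries.Derivative
import Mathlib.Tactic.LinearCombination

/-!
Adams operations of a pre-lambda ring: additivity and values on line elements.
-/

universe u

namespace Groth.L22.Lambda

open LambdaRing Finset

variable {K : Type u} [CommRing K] [LambdaOps K]

theorem adamsSeries_add (P : PosStructure K) (x y : K) :
    adamsSeries P (x + y) = adamsSeries P x + adamsSeries P y := by
  unfold adamsSeries
  rw [lamSeries_add, map_mul, map_add, Int.cast_add, map_add, Derivation.leibniz]
  set a := PowerSeries.rescale (-1 : K) (lamSeries x)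
  set b := PowerSeries.rescale (-1 : K) (lamSeries y)
  have ha : PowerSeries.constantCoeff a = ((1 : Kˣ) : K) := by
    rw [Units.val_one]; exact constantCoeff_rescale_lamSeries x
  have hb : PowerSeries.constantCoeff b = ((1 : Kˣ) : K) := by
    rw [Units.val_one]; exact constantCoeff_rescale_lamSeries y
  have hab : PowerSeries.constantCoeff (a * b) = ((1 : Kˣ) : K) := by
    rw [map_mul, ha, hb, Units.val_one, one_mul]
  have A := PowerSeries.mul_invOfUnit a 1 ha
  have B := PowerSeries.mul_invOfUnit b 1 hb
  have AB := PowerSeries.mul_invOfUnit (a * b) 1 hab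
  have inv : PowerSeries.invOfUnit (a * b) 1 =
      PowerSeries.invOfUnit a 1 * PowerSeries.invOfUnit b 1 := by
    linear_combination
      (PowerSeries.invOfUnit a 1 * PowerSeries.invOfUnit b 1) * AB -
        (PowerSeries.invOfUnit (a * b) 1) * (b * PowerSeries.invOfUnit b 1) * A -
        (PowerSeries.invOfUnit (a * b) 1) * B
  simp only [smul_eq_mul, inv]
  linear_combination (-PowerSeries.X * (PowerSeries.derivative K b) * PowerSeries.invOfUnit b 1) * A +
    (-PowerSeries.X * (PowerSeries.derivative K a) * PowerSeries.invOfUnit a 1) * B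

theorem adams_add (P : PosStructure K) (j : ℕ) (x y : K) :
    adams P j (x + y) = adams P j x + adams P j y := by
  rw [adams, adamsSeries_add, map_add]; rfl

/-- The Adams operation as an additive map. -/
noncomputable def adamsHom (P : PosStructure K) (j : ℕ) : K →+ K :=
  AddMonoidHom.mk' (adams P j) (adams_add P j)

theorem adams_of_isLine (P : PosStructure K) {u : K} (hu : P.IsLine u) (j : ℕ) :
    adams P j u = u ^ j := by
  let g : PowerSeries K := PowerSeries.mk fun i => u ^ i
  have hl : PowerSeries.rescale (-1 : K) (lamSeries u) = 1 - PowerSeries.C u * PowerSeries.X := by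
    ext k
    rw [PowerSeries.coeff_rescale, coeff_lamSeries, ← coeff_lamSeries k u,
      lamSeries_of_isLine P hu, coeff_one_add_C_mul_X, map_sub, PowerSeries.coeff_C_mul,
      PowerSeries.coeff_X, PowerSeries.coeff_one]
    rcases k with - | - | k <;> simp
  have hg : (1 - PowerSeries.C u * PowerSeries.X) * g = 1 := by
    ext k
    rw [sub_mul, one_mul, mul_assoc, map_sub, PowerSeries.coeff_C_mul]
    rcases k with - | k
    · simp [g]
    · rw [PowerSeries.coeff_succ_X_mul]
      simp [g, pow_succ, mul_comm, PowerSeries.coeff_one]
  have hinv : (1 - PowerSeries.C u * PowerSeries.X).invOfUnit 1 = g := by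
    have h := PowerSeries.invOfUnit_mul (1 - PowerSeries.C u * PowerSeries.X) 1 (by simp)
    linear_combination g * h -
      ((1 - PowerSeries.C u * PowerSeries.X).invOfUnit 1) * hg
  have hs : adamsSeries P u = g := by
    rw [adamsSeries, hl, hinv, hu.2, Int.cast_one, map_one]
    simp only [map_sub, Derivation.leibniz, smul_eq_mul, PowerSeries.derivative_C,
      PowerSeries.derivative_X, Derivation.map_one_eq_zero]
    linear_combination -hg
  rw [adams, hs]
  exact PowerSeries.coeff_mk _ _

theorem map_adams {L : Type u} [CommRing L] [LambdaOps L] {P : PosStructure K}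
    {Q : PosStructure L} {f : K →+* L} (hf : IsExtension P Q f) (j : ℕ) (x : K) :
    f (adams P j x) = adams Q j (f x) := by
  have hlam : PowerSeries.map f (PowerSeries.rescale (-1 : K) (lamSeries x)) =
      PowerSeries.rescale (-1 : L) (lamSeries (f x)) := by
    ext k
    simp [PowerSeries.coeff_rescale, coeff_lamSeries, hf.isLambdaHom k x]
  have hder : ∀ a : PowerSeries K, PowerSeries.map f (PowerSeries.derivative K a) =
      PowerSeries.derivative L (PowerSeries.map f a) := by
    intro a
    ext k
    simp [PowerSeries.coeff_derivative]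
  have hinv : PowerSeries.map f ((PowerSeries.rescale (-1 : K) (lamSeries x)).invOfUnit 1) =
      (PowerSeries.rescale (-1 : L) (lamSeries (f x))).invOfUnit 1 := by
    have a := congrArg (PowerSeries.map f)
      (PowerSeries.mul_invOfUnit (PowerSeries.rescale (-1 : K) (lamSeries x)) 1
        (by rw [constantCoeff_rescale_lamSeries, Units.val_one]))
    rw [map_mul, map_one, hlam] at a
    have b := PowerSeries.mul_invOfUnit (PowerSeries.rescale (-1 : L) (lamSeries (f x))) 1
        (by rw [constantCoeff_rescale_lamSeries, Units.val_one])
    exact left_inv_eq_right_inv (by rw [mul_comm]; exact a) b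
  have key : PowerSeries.map f (adamsSeries P x) = adamsSeries Q (f x) := by
    unfold adamsSeries
    rw [map_sub, map_mul, map_mul, PowerSeries.map_X, hder, hlam, hinv, PowerSeries.map_C,
      map_intCast, hf.aug_comp]
  rw [adams, adams, ← key, PowerSeries.coeff_map]

theorem alt_esymm {R : Type u} [CommRing R] (s : Multiset R) :
    ∑ i ∈ range (Multiset.card s + 1), (-1) ^ i * s.esymm i = (s.map fun u => 1 - u).prod := by
  induction s using Multiset.induction with
  | empty => simp [Multiset.esymm]
  | cons a s ih =>
    have h0 : ∀ t : Multiset R, t.esymm 0 = 1 := fun t => by simp [Multiset.esymm]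
    have htop : s.esymm (Multiset.card s + 1) = 0 := by
      simp [Multiset.esymm, Multiset.powersetCard_eq_empty]
    rw [Multiset.card_cons, sum_range_succ', Multiset.map_cons, Multiset.prod_cons, h0]
    simp only [esymm_cons_succ, mul_add, sum_add_distrib, pow_succ]
    rw [← ih, sub_mul, one_mul]
    nth_rewrite 1 [sum_range_succ]
    rw [htop, mul_zero, add_zero, sum_range_succ' (fun i => (-1) ^ i * s.esymm i), h0,
      sum_range_succ' (fun i => (-1 : R) ^ i * -1 * (a * s.esymm i)), h0, mul_add, mul_sum]
    simp only [pow_succ, pow_zero, one_mul, mul_one, mul_comm, mul_left_comm, mul_neg, neg_mul,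
      sum_neg_distrib]
    ring

theorem adams_esymm (P : PosStructure K) {s : Multiset K} (hs : ∀ u ∈ s, P.IsLine u) (i j : ℕ) :
    adams P j (s.esymm i) = (s.map fun u => u ^ j).esymm i := by
  have h : ∀ t ∈ s.powersetCard i, (adamsHom P j ∘ Multiset.prod) t =
      (Multiset.prod ∘ Multiset.map fun u => u ^ j) t := by
    intro t ht
    have ht' := (Multiset.mem_powersetCard.1 ht).1
    have hline : P.IsLine t.prod :=
      Multiset.prod_induction _ t (fun a b => isLine_mul P) (isLine_one P)
        fun a ha => hs a (Multiset.mem_of_le ht' ha)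
    simp only [Function.comp_apply, adamsHom, AddMonoidHom.mk'_apply]
    rw [adams_of_isLine P hline, Multiset.prod_map_pow, Multiset.map_id']
  change adamsHom P j (s.esymm i) = _
  rw [Multiset.esymm, map_multiset_sum, Multiset.map_map, Multiset.map_congr rfl h, Multiset.esymm,
    Multiset.powersetCard_map, Multiset.map_map]

end Groth.L22.Lambda
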