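import Groth.Agent.L18.DominatingDVR
import Groth.Agent.L03.Akizuki
import Mathlib.RingTheory.Valuation.LocalSubring
import Mathlib.RingTheory.Localization.Integer
import Mathlib.RingTheory.Jacobson.Ideal
import Mathlib.RingTheory.Spectrum.Maximal.Basic
import Mathlib.RingTheory.Length
import Mathlib.RingTheory.KrullDimension.Field

/-!
Valuation rings over a semilocal one-dimensional Noetherian subring of a field: finiteness,
weak approximation, and powers of elements with positive valuations.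
-/

universe u

namespace Groth.L22.Glue

variable {K : Type u} [Field K]

theorem ne_top_of_dvr (V : ValuationSubring K) [IsDiscreteValuationRing V] : V ≠ ⊤ := by
  intro h
  subst h
  refine IsDiscreteValuationRing.not_a_field (⊤ : ValuationSubring K)
    (IsLocalRing.isField_iff_maximalIdeal_eq.1
      ⟨⟨0, 1, zero_ne_one⟩, mul_comm, fun {a} ha => ⟨⟨(a : K)⁻¹, trivial⟩, ?_⟩⟩)
  exact Subtype.ext (mul_inv_cancel₀ fun h => ha (Subtype.ext h))

theorem mem_of_lt_one {V : ValuationSubring K} {x : K} (h : V.valuation x < 1) : x ∈ V :=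
  (V.valuation_le_one_iff x).1 h.le

theorem one_lt_iff {V : ValuationSubring K} {x : K} : 1 < V.valuation x ↔ x ∉ V := by
  rw [← not_le, not_iff_not, V.valuation_le_one_iff]

theorem inv_lt_one {V : ValuationSubring K} {x : K} (h : 1 < V.valuation x) :
    V.valuation x⁻¹ < 1 := by
  rw [map_inv₀]
  exact inv_lt_one_of_one_lt₀ h

theorem exists_pow_mul_lt_one (V : ValuationSubring K) [IsDiscreteValuationRing V] {x : K}
    (hx : V.valuation x < 1) (c : K) :
    ∃ N : ℕ, ∀ n, N ≤ n → V.valuation (x ^ n * c) < 1 := by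
  suffices h : ∃ N : ℕ, V.valuation (x ^ N * c) < 1 by
    obtain ⟨N, hN⟩ := h
    refine ⟨N, fun n hn => ?_⟩
    obtain ⟨d, rfl⟩ := Nat.exists_eq_add_of_le hn
    rw [pow_add, mul_assoc, mul_comm (x ^ d), ← mul_assoc, map_mul, map_pow V.valuation x d]
    exact lt_of_le_of_lt (mul_le_of_le_one_right' (pow_le_one' hx.le d)) hN
  rcases eq_or_ne c 0 with rfl | hc
  · exact ⟨0, by simp⟩
  by_cases hcV : c ∈ V
  · refine ⟨1, ?_⟩
    rw [pow_one, map_mul]
    exact lt_of_le_of_lt (mul_le_of_le_one_right' ((V.valuation_le_one_iff c).2 hcV)) hx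
  have hinv : V.valuation c⁻¹ < 1 := inv_lt_one (one_lt_iff.2 hcV)
  let ξ : V := ⟨x, mem_of_lt_one hx⟩
  let d : V := ⟨c⁻¹, mem_of_lt_one hinv⟩
  have hd : d ≠ 0 := fun h => inv_ne_zero hc (congrArg Subtype.val h)
  have hξ : ξ ∈ (Ideal.span {d}).radical := by
    rw [Ideal.radical_eq_sInf, Submodule.mem_sInf]
    rintro P ⟨hle, hP⟩
    haveI := hP
    have hP0 : P ≠ ⊥ := fun e => hd (by simpa [e] using hle (Ideal.mem_span_singleton_self d))
    rw [IsLocalRing.eq_maximalIdeal (IsPrime.to_maximal_ideal hP0)]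
    exact (V.valuation_lt_one_iff ξ).2 hx
  obtain ⟨N, hN⟩ := hξ
  obtain ⟨r, hr⟩ := Ideal.mem_span_singleton'.1 hN
  refine ⟨N + 1, ?_⟩
  have hr' : (r : K) * c⁻¹ = x ^ N := congrArg Subtype.val hr
  have : x ^ (N + 1) * c = x * r := by
    rw [pow_succ', ← hr']
    field_simp
  rw [this, map_mul]
  exact lt_of_le_of_lt (mul_le_of_le_one_right' (V.valuation_le_one r)) hx

theorem not_le_of_ne {V W : ValuationSubring K} [IsDiscreteValuationRing V]
    [IsDiscreteValuationRing W] (h : V ≠ W) : ∃ a, a ∈ V ∧ a ∉ W := by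
  by_contra hcon
  push Not at hcon
  haveI : Ring.KrullDimLE 1 V := Ring.krullDimLE_one_iff_of_noZeroDivisors.2
    fun I hI hP => IsPrime.to_maximal_ideal (hpi := hP) hI
  exact h (ValuationSubring.eq_of_le_of_ne_top V hcon (ne_top_of_dvr W))

/-- Artin–Whaples. -/
theorem exists_one_lt (W : ValuationSubring K) [IsDiscreteValuationRing W]
    (T : Finset (ValuationSubring K)) (hT : ∀ V ∈ T, IsDiscreteValuationRing V ∧ V ≠ W) :
    ∃ x : K, 1 < W.valuation x ∧ ∀ V ∈ T, V.valuation x < 1 := by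
  classical
  induction T using Finset.induction with
  | empty =>
    obtain ⟨x, hx⟩ : ∃ x : K, x ∉ W := by
      by_contra h
      push Not at h
      exact ne_top_of_dvr W (ValuationSubring.ext _ _ fun x => ⟨fun _ => trivial, fun _ => h x⟩)
    exact ⟨x, one_lt_iff.2 hx, by simp⟩
  | @insert V T hVT ih =>
    obtain ⟨x, hx, hxT⟩ := ih fun U hU => hT U (Finset.mem_insert_of_mem hU)
    haveI := (hT V (Finset.mem_insert_self V T)).1
    obtain ⟨a, haV, haW⟩ := not_le_of_ne (hT V (Finset.mem_insert_self V T)).2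
    obtain ⟨b, hbW, hbV⟩ := not_le_of_ne (hT V (Finset.mem_insert_self V T)).2.symm
    let z := a / b
    have hzW : 1 < W.valuation z := by
      rw [map_div₀, one_lt_div₀]
      · exact lt_of_le_of_lt ((W.valuation_le_one_iff b).2 hbW) (one_lt_iff.2 haW)
      · exact zero_lt_iff.2 ((map_ne_zero _).2 fun h => hbV (h ▸ V.zero_mem))
    have hzV : V.valuation z < 1 := by
      rw [map_div₀, div_lt_one₀]
      · exact lt_of_le_of_lt ((V.valuation_le_one_iff a).2 haV) (one_lt_iff.2 hbV)
      · exact zero_lt_iff.2 ((map_ne_zero _).2 fun h => hbV (h ▸ V.zero_mem))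
    have key : ∀ U ∈ T, ∃ N : ℕ, ∀ n, N ≤ n → U.valuation (x ^ n * z) < 1 := fun U hU => by
      haveI := (hT U (Finset.mem_insert_of_mem hU)).1
      exact exists_pow_mul_lt_one U (hxT U hU) z
    choose! N hN using key
    let n := T.sup N + 1
    have hn : ∀ U ∈ T, U.valuation (x ^ n * z) < 1 := fun U hU =>
      hN U hU n ((Finset.le_sup hU).trans (Nat.le_succ _))
    rcases le_or_gt (V.valuation x) 1 with hVx | hVx
    · refine ⟨x ^ n * z, ?_, fun U hU => ?_⟩
      · rw [map_mul, map_pow]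
        exact lt_of_lt_of_le hzW (le_mul_of_one_le_left' (one_le_pow_of_one_le' hx.le n))
      · rcases Finset.mem_insert.1 hU with rfl | hU
        · rw [map_mul, map_pow]
          exact lt_of_le_of_lt (mul_le_of_le_one_left' (pow_le_one' hVx n)) hzV
        · exact hn U hU
    · have hbig : ∀ (U : ValuationSubring K), 1 < U.valuation x →
          U.valuation (x ^ n / (1 + x ^ n) * z) = U.valuation z := by
        intro U hU
        have h1 : 1 < U.valuation (x ^ n) := by
          rw [map_pow]; exact one_lt_pow₀ hU (Nat.succ_ne_zero _)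
        rw [map_mul, map_div₀, Valuation.map_add_eq_of_lt_right _ (by rwa [map_one]),
          div_self (ne_of_gt (lt_trans zero_lt_one h1)), one_mul]
      refine ⟨x ^ n / (1 + x ^ n) * z, (hbig W hx).symm ▸ hzW, fun U hU => ?_⟩
      rcases Finset.mem_insert.1 hU with rfl | hU
      · exact (hbig U hVx).symm ▸ hzV
      · have h1 : U.valuation (1 + x ^ n) = 1 := by
          rw [Valuation.map_add_eq_of_lt_left _ (by
            rw [map_one, map_pow]; exact pow_lt_one₀ zero_le (hxT U hU) (Nat.succ_ne_zero _)),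
            map_one]
        rw [map_mul, map_div₀, h1, div_one, ← map_mul]
        exact hn U hU

/-- Weak approximation: prescribe the valuations `< 1` or `> 1`. -/
theorem exists_sides (T₁ T₂ : Finset (ValuationSubring K)) (hdisj : Disjoint T₁ T₂)
    (h₁ : ∀ V ∈ T₁, IsDiscreteValuationRing V) (h₂ : ∀ V ∈ T₂, IsDiscreteValuationRing V) :
    ∃ z : K, (∀ V ∈ T₁, V.valuation z < 1) ∧ (∀ V ∈ T₂, 1 < V.valuation z) := by
  classical
  have key : ∀ W ∈ T₂, ∃ x : K, 1 < W.valuation x ∧
      ∀ V ∈ (T₁ ∪ T₂).erase W, V.valuation x < 1 := by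
    intro W hW
    haveI := h₂ W hW
    refine exists_one_lt W _ fun V hV => ?_
    obtain ⟨hne, hV⟩ := Finset.mem_erase.1 hV
    exact ⟨(Finset.mem_union.1 hV).elim (h₁ V) (h₂ V), hne⟩
  choose! x hx hx' using key
  refine ⟨∑ W ∈ T₂, x W, fun V hV => ?_, fun V hV => ?_⟩
  · refine Valuation.map_sum_lt _ one_ne_zero fun W hW => hx' W hW V ?_
    exact Finset.mem_erase.2 ⟨fun e => Finset.disjoint_left.1 hdisj (e ▸ hV) hW,
      Finset.mem_union_left _ hV⟩
  · rw [← Finset.add_sum_erase _ _ hV, Valuation.map_add_eq_of_lt_left]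
    · exact hx V hV
    · refine lt_trans (Valuation.map_sum_lt _ one_ne_zero fun W hW => ?_) (hx V hV)
      obtain ⟨hne, hW⟩ := Finset.mem_erase.1 hW
      exact hx' W hW V (Finset.mem_erase.2 ⟨fun e => hne e.symm, Finset.mem_union_right _ hV⟩)

variable (A : Subring K)

/-- Nontrivial valuation rings containing `A`. -/
def Over : Set (ValuationSubring K) := {V | V ≠ ⊤ ∧ A ≤ V.toSubring}

variable {A}

theorem exists_div [IsFractionRing A K] (z : K) : ∃ a b : A, (b : K) ≠ 0 ∧ z = a / b := by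
  obtain ⟨a, b, hb, rfl⟩ := IsFractionRing.div_surjective A z
  exact ⟨a, b, fun h => nonZeroDivisors.ne_zero hb (Subtype.ext h), rfl⟩

theorem krullDimLE (hdim : ringKrullDim A = 1) : Ring.KrullDimLE 1 A :=
  Ring.krullDimLE_iff.2 (by simp [hdim])

theorem not_isField (hdim : ringKrullDim A = 1) : ¬ IsField A := by
  intro h
  rw [ringKrullDim_eq_zero_of_isField h] at hdim
  exact zero_ne_one hdim

theorem isDVR_of_mem_over [IsNoetherianRing A] [IsFractionRing A K]
    (hdim : ringKrullDim A = 1) {V : ValuationSubring K} (hV : V ∈ Over A) :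
    IsDiscreteValuationRing V := by
  haveI := krullDimLE hdim
  exact Groth.L18.isDiscreteValuationRing_of_krullDimLE_one A exists_div V hV.2 hV.1

theorem isMaximal_of_ne_bot (hdim : ringKrullDim A = 1) {P : Ideal A} [P.IsPrime] (hP : P ≠ ⊥) :
    P.IsMaximal := by
  haveI := krullDimLE hdim
  exact Ring.krullDimLE_one_iff_of_noZeroDivisors.1 inferInstance P hP ‹_›

theorem exists_jac_ne_zero (hdim : ringKrullDim A = 1) (hsl : Finite (MaximalSpectrum A)) :
    ∃ c : A, c ≠ 0 ∧ c ∈ Ideal.jacobson (⊥ : Ideal A) := by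
  haveI := Fintype.ofFinite (MaximalSpectrum A)
  have h : ∀ m : MaximalSpectrum A, ∃ x ∈ m.asIdeal, x ≠ 0 := fun m => by
    refine Submodule.exists_mem_ne_zero_of_ne_bot fun e => not_isField hdim ?_
    by_contra hnf
    obtain ⟨I, hI, hI'⟩ := Ring.not_isField_iff_exists_ideal_bot_lt_and_lt_top.1 hnf
    exact hI'.ne (m.isMaximal.out.2 I (e ▸ hI))
  choose x hx hx0 using h
  refine ⟨∏ m, x m, Finset.prod_ne_zero_iff.2 fun m _ => hx0 m, ?_⟩
  rw [Ideal.jacobson, Submodule.mem_sInf]
  rintro M ⟨-, hM⟩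
  exact Ideal.prod_mem M (Finset.mem_univ (⟨M, hM⟩ : MaximalSpectrum A)) (hx ⟨M, hM⟩)

theorem valuation_lt_one_of_mem_jac [IsFractionRing A K] (hdim : ringKrullDim A = 1)
    {V : ValuationSubring K} (hV : V ∈ Over A) {c : A}
    (hc : c ∈ Ideal.jacobson (⊥ : Ideal A)) : V.valuation c < 1 := by
  let P : Ideal A := (IsLocalRing.maximalIdeal V).comap (Subring.inclusion hV.2)
  haveI : P.IsPrime := Ideal.IsPrime.comap _
  have hP : P ≠ ⊥ := by
    intro e
    refine hV.1 (ValuationSubring.ext _ _ fun z => ⟨fun _ => trivial, fun _ => ?_⟩)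
    obtain ⟨a, b, hb, rfl⟩ := exists_div (A := A) z
    have hu : V.valuation (b : K) = 1 := by
      refine (V.valuation_lt_one_or_eq_one ⟨_, hV.2 b.2⟩).resolve_left fun h => hb ?_
      have : b ∈ P := (V.valuation_lt_one_iff ⟨(b : K), hV.2 b.2⟩).2 h
      rw [e, Ideal.mem_bot] at this
      simp [this]
    rw [← V.valuation_le_one_iff, map_div₀, hu, div_one]
    exact (V.valuation_le_one_iff _).2 (hV.2 a.2)
  have := Ideal.mem_sInf.1 hc ⟨bot_le, isMaximal_of_ne_bot hdim hP⟩
  exact (V.valuation_lt_one_iff ⟨(c : K), hV.2 c.2⟩).1 this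

theorem card_le_ord [IsNoetherianRing A] [IsFractionRing A K] (hdim : ringKrullDim A = 1)
    {c : A} (hc : c ≠ 0) (hcj : c ∈ Ideal.jacobson (⊥ : Ideal A))
    (T : Finset (ValuationSubring K)) (hT : ↑T ⊆ Over A) :
    (T.card : ℕ∞) ≤ Ring.ord A c := by
  classical
  haveI := krullDimLE hdim
  -- the intersection of the valuation rings
  let M : Submodule A K :=
    { carrier := {x | ∀ V ∈ T, x ∈ V}
      add_mem' := fun hx hy V hV => V.add_mem _ _ (hx V hV) (hy V hV)
      zero_mem' := fun V _ => V.zero_mem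
      smul_mem' := fun a x hx V hV => V.mul_mem _ _ ((hT hV).2 a.2) (hx V hV) }
  let N : Submodule A M :=
    { carrier := {x | ∀ V ∈ T, V.valuation (x : K) < 1}
      add_mem' := fun {x y} hx hy V hV =>
        lt_of_le_of_lt (V.valuation.map_add (x : K) y) (max_lt (hx V hV) (hy V hV))
      zero_mem' := fun V _ => by simp
      smul_mem' := fun a x hx V hV => by
        change V.valuation ((a : K) * x) < 1
        rw [map_mul]
        exact lt_of_le_of_lt (mul_le_of_le_one_left'
          ((V.valuation_le_one_iff _).2 ((hT hV).2 a.2))) (hx V hV) }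
  have h1 : Module.length A (M ⧸ N) ≤ Ring.ord A c := by
    have h := Groth.L03.Akizuki.length_le (R := A) (K := K) (V := K) M.subtype
      Subtype.val_injective hc
    rw [Module.finrank_self, Nat.cast_one, one_mul] at h
    refine le_trans (Module.length_le_of_surjective (Submodule.factor ?_)
      (Submodule.factor_surjective ?_)) h
    all_goals
      rintro _ ⟨x, rfl⟩ V hV
      change V.valuation ((c : K) * x) < 1
      rw [map_mul]
      exact lt_of_le_of_lt (mul_le_of_le_one_right' ((V.valuation_le_one_iff _).2 (x.2 V hV)))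
        (valuation_lt_one_of_mem_jac hdim (hT hV) hcj)
  refine le_trans ?_ h1
  -- elements which are units at one valuation ring and nonunits at the others
  have key : ∀ W ∈ T, ∃ e : M, W.valuation (e : K) = 1 ∧
      ∀ V ∈ T, V ≠ W → V.valuation (e : K) < 1 := by
    intro W hW
    haveI := isDVR_of_mem_over hdim (hT hW)
    obtain ⟨x, hx, hx'⟩ := exists_one_lt W (T.erase W) fun V hV => by
      obtain ⟨hne, hV⟩ := Finset.mem_erase.1 hV
      exact ⟨isDVR_of_mem_over hdim (hT hV), hne⟩
    have h1 : W.valuation (x / (1 + x)) = 1 := by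
      rw [map_div₀, Valuation.map_add_eq_of_lt_right _ (by rwa [map_one]),
        div_self (ne_of_gt (lt_trans zero_lt_one hx))]
    have h2 : ∀ V ∈ T, V ≠ W → V.valuation (x / (1 + x)) < 1 := by
      intro V hV hne
      have := hx' V (Finset.mem_erase.2 ⟨hne, hV⟩)
      rw [map_div₀, Valuation.map_add_eq_of_lt_left _ (by rwa [map_one]), map_one, div_one]
      exact this
    refine ⟨⟨x / (1 + x), fun V hV => ?_⟩, h1, h2⟩
    rcases eq_or_ne V W with rfl | hne
    · exact (V.valuation_le_one_iff _).1 h1.le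
    · exact mem_of_lt_one (h2 V hV hne)
  choose e he he' using key
  let p : T → Ideal A := fun W =>
    (IsLocalRing.maximalIdeal W.1).comap (Subring.inclusion (hT W.2).2)
  have hle : ∀ W : T, (p W : Submodule A A) ≤
      LinearMap.ker (N.mkQ ∘ₗ LinearMap.toSpanSingleton A M (e W.1 W.2)) := by
    intro W a ha
    refine (Submodule.Quotient.mk_eq_zero N).2 fun V hV => ?_
    change V.valuation ((a : K) * (e W.1 W.2 : K)) < 1
    rw [map_mul]
    rcases eq_or_ne V W.1 with rfl | hne
    · rw [he, mul_one]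
      exact (W.1.valuation_lt_one_iff ⟨(a : K), (hT W.2).2 a.2⟩).1 ha
    · exact lt_of_le_of_lt (mul_le_of_le_one_left'
        ((V.valuation_le_one_iff _).2 ((hT hV).2 a.2))) (he' W.1 W.2 V hV hne)
  let φ : (∀ W : T, A ⧸ p W) →ₗ[A] M ⧸ N := ∑ W : T,
    (Submodule.liftQ (p W) _ (hle W)) ∘ₗ LinearMap.proj W
  have hφ : Function.Injective φ := by
    rw [← LinearMap.ker_eq_bot, LinearMap.ker_eq_bot']
    intro f hf
    funext W
    choose a ha using fun W : T => Submodule.mkQ_surjective (p W) (f W)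
    have hval : φ f = N.mkQ (∑ W : T, a W • e W.1 W.2) := by
      rw [map_sum]
      simp only [φ, LinearMap.coe_sum, Finset.sum_apply, LinearMap.comp_apply,
        LinearMap.proj_apply, ← ha, Submodule.mkQ_apply, Submodule.liftQ_apply,
        LinearMap.toSpanSingleton_apply]
    rw [hf, eq_comm, Submodule.mkQ_apply, Submodule.Quotient.mk_eq_zero] at hval
    have hv := hval W.1 W.2
    rw [← Finset.add_sum_erase _ _ (Finset.mem_univ W), Submodule.coe_add,
      AddSubmonoidClass.coe_finsetSum] at hv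
    have hrest : W.1.valuation (∑ i ∈ Finset.univ.erase W, ((a i • e i.1 i.2 : M) : K)) < 1 := by
      refine Valuation.map_sum_lt _ one_ne_zero fun i hi => ?_
      change W.1.valuation ((a i : K) * (e i.1 i.2 : K)) < 1
      rw [map_mul]
      exact lt_of_le_of_lt (mul_le_of_le_one_left'
        ((W.1.valuation_le_one_iff _).2 ((hT W.2).2 (a i).2)))
        (he' i.1 i.2 W.1 W.2 fun h => (Finset.mem_erase.1 hi).1 (Subtype.ext h.symm))
    have hterm : W.1.valuation ((a W : K) * (e W.1 W.2 : K)) < 1 := by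
      have := lt_of_le_of_lt (W.1.valuation.map_sub _ _) (max_lt hv hrest)
      rwa [add_sub_cancel_right] at this
    rw [map_mul, he, mul_one] at hterm
    rw [← ha W]
    exact (Submodule.Quotient.mk_eq_zero _).2
      ((W.1.valuation_lt_one_iff ⟨(a W : K), (hT W.2).2 (a W).2⟩).2 hterm)
  refine le_trans ?_ (Module.length_le_of_injective φ hφ)
  rw [Module.length_pi_of_fintype]
  have hone : ∀ W : T, (1 : ℕ∞) ≤ Module.length A (A ⧸ p W) := fun W => by
    haveI : Nontrivial (A ⧸ p W) :=
      Ideal.Quotient.nontrivial_iff.2 (Ideal.IsPrime.comap _ (hK := inferInstance)).ne_top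
    exact Order.one_le_iff_pos.2 Module.length_pos
  refine le_trans (le_of_eq ?_) (Finset.sum_le_sum fun W _ => hone W)
  simp

theorem finite_over [IsNoetherianRing A] [IsFractionRing A K] (hdim : ringKrullDim A = 1)
    (hsl : Finite (MaximalSpectrum A)) : (Over A).Finite := by
  classical
  haveI := krullDimLE hdim
  obtain ⟨c, hc, hcj⟩ := exists_jac_ne_zero hdim hsl
  by_contra hinf
  obtain ⟨T, hT, hcard⟩ := Set.Infinite.exists_subset_card_eq hinf ((Ring.ord A c).toNat + 1)
  have h := card_le_ord hdim hc hcj T hT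
  rw [hcard] at h
  obtain ⟨n, hn⟩ := ENat.ne_top_iff_exists.1
    (Ring.ord_ne_top (mem_nonZeroDivisors_of_ne_zero hc))
  rw [← hn, ENat.toNat_natCast] at h
  exact absurd (by exact_mod_cast h : n + 1 ≤ n) (by omega)

/-- An element with positive valuation at every valuation ring over `A` has large powers in `cA`. -/
theorem exists_pow_mem [IsNoetherianRing A] [IsFractionRing A K] {z : K}
    (hz : ∀ V ∈ Over A, V.valuation z < 1) {c : A} (hc : c ≠ 0) :
    ∃ N : ℕ, ∀ n, N ≤ n → ∃ a : A, z ^ n = c * a := by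
  rcases eq_or_ne z 0 with rfl | hz0
  · exact ⟨1, fun n hn => ⟨0, by rw [zero_pow (by omega)]; simp⟩⟩
  have hint : IsIntegral A z := by
    have hmem : z ∈ (⨅ V : {V : ValuationSubring K // (A : Set K) ⊆ V.toSubring},
        V.1.toSubring) := by
      rw [Subring.mem_iInf]
      rintro ⟨V, hV⟩
      by_cases h : V = ⊤
      · subst h; trivial
      · exact mem_of_lt_one (hz V ⟨h, hV⟩)
    rw [iInf_valuationSubring_superset, Subring.closure_eq] at hmem
    exact hmem
  let B := Algebra.adjoin A ({z} : Set K)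
  obtain ⟨s, hs⟩ := hint.fg_adjoin_singleton
  classical
  obtain ⟨⟨d, hd⟩, hdB⟩ := IsLocalization.exist_integer_multiples_of_finset (nonZeroDivisors A)
    (S := K) s
  have hd0 : (d : K) ≠ 0 := fun h => nonZeroDivisors.ne_zero hd (Subtype.ext h)
  have hdmul : ∀ w ∈ B, ∃ a : A, (d : K) * w = a := by
    intro w hw
    rw [← Subalgebra.mem_toSubmodule, ← hs] at hw
    induction hw using Submodule.span_induction with
    | mem w hw => obtain ⟨a, ha⟩ := hdB w hw; exact ⟨a, ha.symm⟩
    | zero => exact ⟨0, by simp⟩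
    | add x y _ _ hx hy =>
      obtain ⟨a, ha⟩ := hx; obtain ⟨b, hb⟩ := hy
      exact ⟨a + b, by rw [mul_add, ha, hb]; simp⟩
    | smul r x _ hx =>
      obtain ⟨a, ha⟩ := hx
      exact ⟨r * a, by
        rw [Algebra.smul_def, mul_left_comm, ha]
        rfl⟩
  let W := Algebra.adjoin A ({z, z⁻¹} : Set K)
  have hzB : z ∈ B := Algebra.subset_adjoin rfl
  have hden : ∀ w ∈ W, ∃ n : ℕ, z ^ n * w ∈ B := by
    intro w hw
    induction hw using Algebra.adjoin_induction with
    | mem w hw =>
      rcases hw with rfl | hw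
      · exact ⟨0, by simpa using hzB⟩
      · rw [Set.mem_singleton_iff.1 hw]
        exact ⟨1, by rw [pow_one, mul_inv_cancel₀ hz0]; exact B.one_mem⟩
    | algebraMap a => exact ⟨0, by simpa using B.algebraMap_mem a⟩
    | add x y _ _ hx hy =>
      obtain ⟨n, hn⟩ := hx; obtain ⟨m, hm⟩ := hy
      refine ⟨n + m, ?_⟩
      rw [mul_add]
      refine B.add_mem ?_ ?_
      · rw [add_comm n m, pow_add, mul_assoc]; exact B.mul_mem (pow_mem hzB m) hn
      · rw [pow_add, mul_assoc]; exact B.mul_mem (pow_mem hzB n) hm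
    | mul x y _ _ hx hy =>
      obtain ⟨n, hn⟩ := hx; obtain ⟨m, hm⟩ := hy
      exact ⟨n + m, by rw [pow_add, mul_mul_mul_comm]; exact B.mul_mem hn hm⟩
  let cd : W.toSubring := ⟨(c : K) * d, W.mul_mem (W.algebraMap_mem c) (W.algebraMap_mem d)⟩
  have hcd : (c : K) * d ≠ 0 := mul_ne_zero (fun h => hc (Subtype.ext h)) hd0
  have htop : Ideal.span {cd} = ⊤ := by
    by_contra hne
    obtain ⟨V, hWV, hV⟩ := Ideal.image_subset_nonunits_valuationSubring _ hne
    have hcdV : V.valuation ((c : K) * d) < 1 :=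
      V.mem_nonunits_iff.1 (hV ⟨cd, Ideal.mem_span_singleton_self cd, rfl⟩)
    have hVtop : V ≠ ⊤ := by
      rintro rfl
      refine hcdV.ne ?_
      rw [← ValuationSubring.valuation_unit (⊤ : ValuationSubring K)
        ⟨⟨(c : K) * d, trivial⟩, ⟨((c : K) * d)⁻¹, trivial⟩,
          Subtype.ext (mul_inv_cancel₀ hcd), Subtype.ext (inv_mul_cancel₀ hcd)⟩]
    have h1 := hz V ⟨hVtop, fun a ha => hWV (W.algebraMap_mem ⟨a, ha⟩)⟩
    have h2 : z⁻¹ ∈ V :=
      hWV (Algebra.subset_adjoin (Set.mem_insert_of_mem _ rfl) : z⁻¹ ∈ W)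
    rw [← V.valuation_le_one_iff, map_inv₀, inv_le_one₀ (zero_lt_iff.2 ((map_ne_zero _).2 hz0))]
      at h2
    exact absurd h2 (not_le.2 h1)
  obtain ⟨w, hw⟩ := Ideal.mem_span_singleton'.1 (htop ▸ Submodule.mem_top : (1 : W.toSubring) ∈ _)
  obtain ⟨n, hn⟩ := hden w w.2
  refine ⟨n, fun k hk => ?_⟩
  obtain ⟨a, ha⟩ := hdmul (z ^ (k - n) * (z ^ n * w)) (B.mul_mem (pow_mem hzB _) hn)
  refine ⟨a, ?_⟩
  have hw' : (w : K) * ((c : K) * d) = 1 := congrArg Subtype.val hw
  rw [← mul_assoc (z ^ (k - n)), ← pow_add, Nat.sub_add_cancel hk] at ha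
  calc z ^ k = z ^ k * ((w : K) * ((c : K) * d)) := by rw [hw', mul_one]
    _ = c * ((d : K) * (z ^ k * w)) := by ring
    _ = c * a := by rw [ha]

end Groth.L22.Glue
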