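import Groth.Agent.L07.DimToolkit
import Groth.Agent.L07.DimJacobson

/-!
The image of a proper map which is quasi-finite at a point, between pure-dimensional schemes.
-/

set_option autoImplicit false
set_option linter.style.haveILetI false
universe u

open CategoryTheory AlgebraicGeometry TopologicalSpace Topology

noncomputable section

namespace Groth.L22.IsolatedDim

variable {X Y : Scheme.{u}}

/-- The dimension of the closure of a point is attained on the intervals below it. -/
theorem dim_closure_le_of_intervals (ξ : X) {E : WithBot ℕ∞}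
    (h : ∀ z : X, ξ ⤳ z → topologicalKrullDim ↥{w : X | ξ ⤳ w ∧ w ⤳ z} ≤ E) :
    topologicalKrullDim ↥(closure ({ξ} : Set X)) ≤ E := by
  refine iSup_le fun p => ?_
  let cl : ∀ i, Set X := fun i => Subtype.val '' (p i : Set ↥(closure ({ξ} : Set X)))
  have hcl : ∀ i, IsClosed (cl i) := fun i =>
    isClosed_closure.isClosedMap_subtype_val _ (p i).isClosed
  have hir : ∀ i, IsIrreducible (cl i) := fun i =>
    (p i).isIrreducible.image _ continuous_subtype_val.continuousOn
  choose w hw using fun i => QuasiSober.sober (hir i) (hcl i)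
  have hξw : ∀ i, ξ ⤳ w i := fun i => by
    obtain ⟨t, -, ht⟩ := (hw i).mem
    exact specializes_iff_mem_closure.2 (ht ▸ t.2)
  have hwz : ∀ i, w i ⤳ w 0 := fun i => by
    refine (hw i).specializes ?_
    exact Set.image_mono (p.monotone (Fin.zero_le i)) (hw 0).mem
  let I : Set X := {v : X | ξ ⤳ v ∧ v ⤳ w 0}
  let v : Fin (p.length + 1) → ↥I := fun i => ⟨w i, hξw i, hwz i⟩
  let F : Fin (p.length + 1) → IrreducibleCloseds ↥I := fun i =>
    ⟨closure {v i}, isIrreducible_singleton.closure, isClosed_closure⟩
  have hF : ∀ (j : I) i, j ∈ (F i : Set ↥I) ↔ (j : X) ∈ cl i := fun j i => by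
    change j ∈ closure {v i} ↔ _
    rw [closure_subtype, Set.image_singleton]
    exact Iff.of_eq (congrArg ((j : X) ∈ ·) (hw i).def)
  have hmono : StrictMono F := fun i i' hii => by
    refine lt_of_le_not_ge (fun j hj => (hF j i').2 (Set.image_mono (p.monotone hii.le) ((hF j i).1 hj))) ?_
    intro hle
    have h1 : cl i' ⊆ cl i := by
      rw [← (hw i').def]
      exact closure_minimal (Set.singleton_subset_iff.2
        ((hF (v i') i).1 (hle ((hF (v i') i').2 (hw i').mem)))) (hcl i)
    exact (p.strictMono hii).not_ge ((Set.image_subset_image_iff Subtype.val_injective).1 h1)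
  exact (Order.LTSeries.length_le_krullDim ⟨p.length, F, fun i => hmono Fin.castSucc_lt_succ⟩).trans
    (h (w 0) (hξw 0))

/-- The dimension of a component through an isolated point of a fibre is at most that of the image. -/
theorem dim_closure_le_range [IsLocallyNoetherian Y] (f : X ⟶ Y) [LocallyOfFiniteType f]
    (hcl : IsClosed (Set.range f)) {x ξ : X} (h : ξ ⤳ x)
    (hx : ∃ U : X.Opens, x ∈ U ∧ ∀ x' ∈ U, f x' = f x → x' = x) :
    topologicalKrullDim ↥(closure ({ξ} : Set X)) ≤ topologicalKrullDim ↥(Set.range f) := by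
  obtain ⟨U, hxU, hU⟩ := hx
  have h0 : FlatMor.fibreDimAt f x ≤ 0 := by
    let V : Opens ↥(f.fiber (f x)) :=
      ⟨f.fiberι (f x) ⁻¹' (U : Set X), U.2.preimage (f.fiberι (f x)).continuous⟩
    have hV : f.asFiber x ∈ V := by
      change f.fiberι (f x) (f.asFiber x) ∈ U
      rw [Scheme.Hom.fiberι_asFiber]
      exact hxU
    refine (iInf_le _ ⟨V, hV⟩).trans ?_
    haveI : Subsingleton (V : Set ↥(f.fiber (f x))) := ⟨fun a b => by
      have key : ∀ c : ↥(f.fiber (f x)), c ∈ V → f.fiberι (f x) c = x := fun c hc => by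
        refine hU _ hc ?_
        have : f.fiberι (f x) c ∈ Set.range (f.fiberι (f x)) := ⟨c, rfl⟩
        rw [Scheme.Hom.range_fiberι] at this
        exact this
      exact Subtype.ext ((f.fiberι (f x)).isEmbedding.injective
        ((key _ a.2).trans (key _ b.2).symm))⟩
    exact topologicalKrullDim_zero_of_discreteTopology _
  refine dim_closure_le_of_intervals ξ fun z hz => ?_
  rw [Groth.L07.DimJacobson.dim_interval z ξ hz]
  obtain ⟨A, B, n, N, hA, hB, -, hN, hle, -⟩ := Groth.L07.DimToolkit.formula f hz
  have hN0 : (N : WithBot ℕ∞) ≤ 0 :=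
    hN ▸ (Groth.L07.DimToolkit.fdim_le_fibreDimAt_of_specializes f h).trans h0
  have : N ≤ 0 := by exact_mod_cast hN0
  rw [hA]
  refine le_trans (by exact_mod_cast (show A ≤ B by omega)) (hB.ge.trans ?_)
  rw [← Groth.L07.DimJacobson.dim_interval]
  refine SchemeDim.topologicalKrullDim_mono fun y hy => ?_
  exact hy.1.mem_closed hcl ⟨ξ, rfl⟩

end Groth.L22.IsolatedDim
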