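import Groth.Agent.L22.DimFormulaScheme
import Groth.Agent.L22.IsolatedDim
import Groth.Agent.L07.DimToolkit
import Groth.Agent.L07.OpenFibreDim

/-!
Fibre dimensions over a base point with Noetherian local ring of small dimension.
-/

set_option autoImplicit false
set_option linter.style.haveILetI false
universe u

open AlgebraicGeometry CategoryTheory Cardinal TopologicalSpace Topology

noncomputable section

namespace Groth.L22.DimFormula

open Groth.L22.Cyc (rtrdeg trdeg_eq_of_square)
variable {X S : Scheme.{u}}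

/-- The dimension formula when only the local ring of the base is assumed Noetherian. -/
theorem scheme_dim_formula_local (f : X ⟶ S) [LocallyOfFiniteType f] {x ξ : X}
    (h : ξ ⤳ x) [IsNoetherianRing (S.presheaf.stalk (f x))] {n N : ℕ} (hn : rtrdeg f x = n) (hN : rtrdeg f ξ = N) :
    ringKrullDim (Cyc.LocQuot x ξ h) + n ≤
        ringKrullDim (Cyc.LocQuot (f x) (f ξ) (h.map f.continuous)) + N ∧
      (CAlg.IsUniversallyCatenary (S.presheaf.stalk (f x)) →
        ringKrullDim (Cyc.LocQuot x ξ h) + n =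
          ringKrullDim (Cyc.LocQuot (f x) (f ξ) (h.map f.continuous)) + N) := by
  classical
  let R := Cyc.LocQuot (f x) (f ξ) (h.map f.continuous)
  let O := Cyc.LocQuot x ξ h
  haveI : IsDomain R := isDomain_locQuot _ _ _
  haveI : IsDomain O := isDomain_locQuot _ _ _
  haveI : IsLocalRing R := isLocalRing_locQuot _ _ _
  haveI : IsLocalRing O := isLocalRing_locQuot _ _ _
  haveI : IsNoetherianRing R := inferInstance
  have hle : RingHom.ker (Cyc.specMap (f x) (f ξ) (h.map f.continuous)) ≤
      (RingHom.ker (Cyc.specMap x ξ h)).comap (f.stalkMap x).hom := fun a ha => by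
    rw [Ideal.mem_comap, RingHom.mem_ker, ← specMap_residueFieldMap f h,
      RingHom.mem_ker.1 ha, map_zero]
  let φ : R →+* O := Ideal.quotientMap _ (f.stalkMap x).hom hle
  letI : Algebra R O := φ.toAlgebra
  letI : Algebra R (X.residueField ξ) :=
    ((algebraMap O (X.residueField ξ)).comp φ).toAlgebra
  haveI : IsScalarTower R O (X.residueField ξ) := IsScalarTower.of_algebraMap_eq fun _ => rfl
  letI := (f.residueFieldMap ξ).hom.toAlgebra
  haveI : IsScalarTower R (S.residueField (f ξ)) (X.residueField ξ) :=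
    IsScalarTower.of_algebraMap_eq fun a => by
      obtain ⟨a, rfl⟩ := Ideal.Quotient.mk_surjective a
      exact (specMap_residueFieldMap f h a).symm
  haveI : FaithfulSMul O (X.residueField ξ) :=
    (faithfulSMul_iff_algebraMap_injective _ _).2 (RingHom.kerLift_injective _)
  haveI : FaithfulSMul R (S.residueField (f ξ)) :=
    (faithfulSMul_iff_algebraMap_injective _ _).2 (RingHom.kerLift_injective _)
  haveI : FaithfulSMul R O := (faithfulSMul_iff_algebraMap_injective _ _).2 fun a b hab => by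
    have h1 := congrArg (algebraMap O (X.residueField ξ)) hab
    rw [← IsScalarTower.algebraMap_apply R O (X.residueField ξ),
      ← IsScalarTower.algebraMap_apply R O (X.residueField ξ),
      IsScalarTower.algebraMap_apply R (S.residueField (f ξ)) (X.residueField ξ),
      IsScalarTower.algebraMap_apply R (S.residueField (f ξ)) (X.residueField ξ)] at h1
    exact FaithfulSMul.algebraMap_injective R (S.residueField (f ξ))
      ((algebraMap (S.residueField (f ξ)) (X.residueField ξ)).injective h1)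
  haveI hφl : IsLocalHom φ := ⟨fun a ha => by
    obtain ⟨a, rfl⟩ := Ideal.Quotient.mk_surjective a
    have h1 : IsUnit (Ideal.Quotient.mk (RingHom.ker (Cyc.specMap x ξ h)) ((f.stalkMap x).hom a)) := ha
    haveI : IsLocalHom (Ideal.Quotient.mk (RingHom.ker (Cyc.specMap x ξ h))) :=
      IsLocalHom.of_surjective _ Ideal.Quotient.mk_surjective
    haveI : IsLocalHom (f.stalkMap x).hom := f.toLRSHom.prop x
    exact ((isUnit_map_iff (f.stalkMap x).hom a).1 ((isUnit_map_iff _ _).1 h1)).map _⟩
  haveI : IsLocalHom (algebraMap R O) := hφl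
  -- transcendence degrees
  haveI := isAlgebraic_locQuot x ξ h
  haveI := isAlgebraic_locQuot (f x) (f ξ) (h.map f.continuous)
  have hNO : Algebra.trdeg R O = N := by
    rw [← add_zero (Algebra.trdeg R O), ← trdeg_eq_zero (R := O) (A := X.residueField ξ),
      trdeg_add_eq R O, ← trdeg_add_eq R (S.residueField (f ξ)),
      trdeg_eq_zero (R := R), zero_add]
    exact hN
  haveI : (IsLocalRing.maximalIdeal O).LiesOver (IsLocalRing.maximalIdeal R) := ⟨by
    ext a
    show a ∈ IsLocalRing.maximalIdeal R ↔ φ a ∈ IsLocalRing.maximalIdeal O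
    exact ⟨fun h1 hu => h1 ((isUnit_map_iff φ a).1 hu), fun h1 hu => h1 (hu.map _)⟩⟩
  have hnO : Algebra.trdeg (R ⧸ IsLocalRing.maximalIdeal R) (O ⧸ IsLocalRing.maximalIdeal O) = n := by
    haveI : IsLocalHom (Ideal.Quotient.mk (RingHom.ker (Cyc.specMap x ξ h))) :=
      IsLocalHom.of_surjective _ Ideal.Quotient.mk_surjective
    haveI : IsLocalHom (Ideal.Quotient.mk (RingHom.ker
        (Cyc.specMap (f x) (f ξ) (h.map f.continuous)))) :=
      IsLocalHom.of_surjective _ Ideal.Quotient.mk_surjective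
    letI := (f.residueFieldMap x).hom.toAlgebra
    letI : Field (R ⧸ IsLocalRing.maximalIdeal R) := Ideal.Quotient.field _
    letI : Field (O ⧸ IsLocalRing.maximalIdeal O) := Ideal.Quotient.field _
    rw [← hn]
    show _ = Algebra.trdeg (S.residueField (f x)) (X.residueField x)
    refine (trdeg_eq_of_square
      (residueEquiv' (f x) (Ideal.Quotient.mk (RingHom.ker
        (Cyc.specMap (f x) (f ξ) (h.map f.continuous)))) Ideal.Quotient.mk_surjective)
      (residueEquiv' x (Ideal.Quotient.mk (RingHom.ker (Cyc.specMap x ξ h)))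
        Ideal.Quotient.mk_surjective) fun a => ?_).symm
    obtain ⟨a, rfl⟩ := S.residue_surjective (f x) a
    rfl
  -- generators
  obtain ⟨_, ⟨V, hV, rfl⟩, hxV, -⟩ :=
    S.isBasis_affineOpens.exists_subset_of_mem_open (Set.mem_univ (f x)) isOpen_univ
  obtain ⟨_, ⟨U, hU, rfl⟩, hxU, hUV⟩ :=
    X.isBasis_affineOpens.exists_subset_of_mem_open (show x ∈ f ⁻¹ᵁ V from hxV) (f ⁻¹ᵁ V).2
  letI := (f.appLE V U hUV).hom.toAlgebra
  obtain ⟨gs, hgs⟩ : (⊤ : Subalgebra Γ(S, V) Γ(X, U)).FG :=
    (show Algebra.FiniteType Γ(S, V) Γ(X, U) from f.finiteType_appLE hV hU hUV).out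
  let γ : Γ(X, U) →+* O := (Ideal.Quotient.mk _).comp (X.presheaf.germ U x hxU).hom
  have hγ : ∀ b, γ b ∈ Algebra.adjoin R (↑(gs.image γ) : Set O) := fun b => by
    have hb : b ∈ Algebra.adjoin Γ(S, V) (gs : Set Γ(X, U)) := hgs ▸ trivial
    induction hb using Algebra.adjoin_induction with
    | mem g hg => exact Algebra.subset_adjoin (Finset.mem_coe.2 (Finset.mem_image_of_mem γ hg))
    | algebraMap a =>
      have h1 : γ (algebraMap Γ(S, V) Γ(X, U) a) =
          algebraMap R O (Ideal.Quotient.mk _ (S.presheaf.germ V (f x) hxV a)) := by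
        show Ideal.Quotient.mk _ (X.presheaf.germ U x hxU (f.appLE V U hUV a)) =
          Ideal.Quotient.mk _ ((f.stalkMap x).hom (S.presheaf.germ V (f x) hxV a))
        refine congrArg _ ?_
        rw [Scheme.Hom.appLE, CommRingCat.comp_apply]
        exact (TopCat.Presheaf.germ_res_apply X.presheaf (homOfLE hUV) x hxU _).trans
          (Scheme.Hom.germ_stalkMap_apply f V x hxV a).symm
      rw [h1]
      exact Subalgebra.algebraMap_mem _ _
    | add a b _ _ ha hb => rw [map_add]; exact add_mem ha hb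
    | mul a b _ _ ha hb => rw [map_mul]; exact mul_mem ha hb
  have hs : ∀ o : O, ∃ t t' : Algebra.adjoin R (↑(gs.image γ) : Set O),
      IsUnit (t : O) ∧ o * t = t' := fun o => by
    obtain ⟨o, rfl⟩ := Ideal.Quotient.mk_surjective o
    letI := X.presheaf.algebra_section_stalk ⟨x, hxU⟩
    haveI := hU.isLocalization_stalk ⟨x, hxU⟩
    obtain ⟨⟨b, s⟩, hbs⟩ := IsLocalization.surj (hU.primeIdealOf ⟨x, hxU⟩).asIdeal.primeCompl o
    refine ⟨⟨γ s, hγ s⟩, ⟨γ b, hγ b⟩, (IsLocalization.map_units (X.presheaf.stalk x) s).map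
      (Ideal.Quotient.mk (RingHom.ker (Cyc.specMap x ξ h))), ?_⟩
    show Ideal.Quotient.mk _ o * Ideal.Quotient.mk _ (X.presheaf.germ U x hxU (s : Γ(X, U))) = _
    rw [← map_mul]
    exact congrArg _ hbs
  have key := local_dim_formula (gs.image γ) hs hnO hNO
  exact ⟨key.1, fun hc => key.2 (isUniversallyCatenary_quotient hc _)⟩

end Groth.L22.DimFormula

namespace Groth.L22.FibreCodim

open Groth.L07.DimToolkit
open Groth.L07.EquidimQF (closure_singleton_mem_irreducibleComponents_iff)
open Groth.L07.Equidim (fdim exists_maximal_generization exists_nhd_maximal fdim_fiberι apply_fiberι fdim_le_fibreDimAt)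

variable {X Y : Scheme.{u}} (f : X ⟶ Y) [LocallyOfFiniteType f]

/-- The local dimension is bounded by the maximal points generalising the point. -/
theorem fibreDimAt_le_of_maximal (x : X) {E : WithBot ℕ∞}
    (h : ∀ z : X, z ⤳ x → f z = f x → (∀ z', f z' = f z → z' ⤳ z → z' = z) → fdim f z ≤ E) :
    FlatMor.fibreDimAt f x ≤ E := by
  haveI : LocallyOfFiniteType (f.fiberToSpecResidueField (f x)) :=
    MorphismProperty.pullback_snd _ _ inferInstance
  haveI : IsLocallyNoetherian (f.fiber (f x)) :=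
    LocallyOfFiniteType.isLocallyNoetherian (f.fiberToSpecResidueField (f x))
  obtain ⟨N, hcN, hN⟩ := exists_nhd_maximal (f.asFiber x)
  refine (iInf_le _ ⟨N, hcN⟩).trans ?_
  haveI : QuasiSober ↥(N : Set ↥(f.fiber (f x))) := N.isOpen.isOpenEmbedding_subtypeVal.quasiSober
  rw [FibreDim.topologicalKrullDim_eq_iSup_closure]
  refine iSup_le fun b => ?_
  obtain ⟨p, hp, hpmax⟩ := exists_maximal_generization b.1
  have hpN : p ∈ N := hp.mem_open N.2 b.2
  have hpc : p ⤳ f.asFiber x := hN p hpN hpmax
  have h1 : topologicalKrullDim ↥(closure ({b} : Set ↥(N : Set ↥(f.fiber (f x))))) ≤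
      topologicalKrullDim ↥(closure ({p} : Set ↥(f.fiber (f x)))) := by
    rw [FibreDim.subtype_dim_closure]
    exact SchemeDim.topologicalKrullDim_mono fun y hy =>
      (closure_minimal (Set.singleton_subset_iff.2 (specializes_iff_mem_closure.1 hp)) isClosed_closure) hy.1
  refine h1.trans ?_
  rw [← fdim_fiberι]
  refine h _ ?_ (apply_fiberι f _ p) fun z' hz' hsp => ?_
  · have := hpc.map (f.fiberι (f x)).continuous
    rwa [Scheme.Hom.fiberι_asFiber] at this
  · obtain ⟨c', rfl⟩ : z' ∈ Set.range (f.fiberι (f x)) := by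
      rw [Scheme.Hom.range_fiberι]
      exact hz'.trans (apply_fiberι f _ p)
    rw [hpmax c' ((f.fiberι (f x)).isEmbedding.isInducing.specializes_iff.1 hsp)]

theorem eq_of_dim_closure_le_zero {T : Type*} [TopologicalSpace T] [T0Space T] {p c : T}
    (h : p ⤳ c) (hd : topologicalKrullDim ↥(closure ({p} : Set T)) ≤ 0) : p = c := by
  by_contra hne
  let P : closure ({p} : Set T) := ⟨p, subset_closure rfl⟩
  let C : closure ({p} : Set T) := ⟨c, h.mem_closure⟩
  let a : IrreducibleCloseds ↥(closure ({p} : Set T)) :=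
    ⟨closure {C}, isIrreducible_singleton.closure, isClosed_closure⟩
  let b : IrreducibleCloseds ↥(closure ({p} : Set T)) :=
    ⟨closure {P}, isIrreducible_singleton.closure, isClosed_closure⟩
  have hPC : P ⤳ C := IsInducing.subtypeVal.specializes_iff.1 h
  have hlt : a < b := lt_of_le_not_ge (specializes_iff_closure_subset.1 hPC) fun hba => hne
    ((congrArg Subtype.val (hPC.antisymm (specializes_iff_closure_subset.2 hba)).eq))
  have h1 := (Order.LTSeries.length_le_krullDim ((RelSeries.singleton _ a).snoc b hlt)).trans hd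
  simp only [RelSeries.snoc_length, RelSeries.singleton_length] at h1
  exact absurd h1 (by norm_num)

/-- Local fibre dimension zero means quasi-finite. -/
theorem quasiFiniteAt_of_fibreDimAt_le_zero (x : X) (h : FlatMor.fibreDimAt f x ≤ 0) :
    f.QuasiFiniteAt x := by
  haveI : LocallyOfFiniteType (f.fiberToSpecResidueField (f x)) :=
    MorphismProperty.pullback_snd _ _ inferInstance
  haveI : IsLocallyNoetherian (f.fiber (f x)) :=
    LocallyOfFiniteType.isLocallyNoetherian (f.fiberToSpecResidueField (f x))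
  obtain ⟨N, hcN, hN⟩ := exists_nhd_maximal (f.asFiber x)
  rw [Scheme.Hom.quasiFiniteAt_iff_isOpen_singleton_asFiber]
  suffices hNc : ({f.asFiber x} : Set ↥(f.fiber (f x))) = N by rw [hNc]; exact N.2
  refine Set.Subset.antisymm (Set.singleton_subset_iff.2 hcN) fun b hb => ?_
  obtain ⟨p, hp, hpmax⟩ := exists_maximal_generization b
  have hpc : p ⤳ f.asFiber x := hN p (hp.mem_open N.2 hb) hpmax
  have hd : topologicalKrullDim ↥(closure ({p} : Set ↥(f.fiber (f x)))) ≤ 0 := by
    rw [← fdim_fiberι]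
    refine (fdim_le_fibreDimAt_of_specializes f (x := x) ?_).trans h
    have := hpc.map (f.fiberι (f x)).continuous
    rwa [Scheme.Hom.fiberι_asFiber] at this
  rw [Set.mem_singleton_iff, ← eq_of_dim_closure_le_zero hpc hd]
  exact (eq_of_dim_closure_le_zero hp hd).symm

theorem fibreDimAt_le_zero_of_quasiFiniteAt (x : X) (h : f.QuasiFiniteAt x) :
    FlatMor.fibreDimAt f x ≤ 0 := by
  rw [Scheme.Hom.quasiFiniteAt_iff_isOpen_singleton_asFiber] at h
  refine (iInf_le _ ⟨⟨{f.asFiber x}, h⟩, rfl⟩).trans ?_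
  haveI : DiscreteTopology ↥({f.asFiber x} : Set ↥(f.fiber (f x))) := Subsingleton.discreteTopology
  exact topologicalKrullDim_zero_of_discreteTopology ↥({f.asFiber x} : Set ↥(f.fiber (f x)))

/-- One step of the dimension formula. -/
theorem key {z η : X} (h : η ⤳ z) [IsNoetherianRing (Y.presheaf.stalk (f z))] :
    ∃ n N : ℕ, fdim f z = (n : WithBot ℕ∞) ∧ fdim f η = (N : WithBot ℕ∞) ∧
      (n : WithBot ℕ∞) ≤ ringKrullDim (Y.presheaf.stalk (f z)) + N ∧
      (η ≠ z → (n : WithBot ℕ∞) + 1 ≤ ringKrullDim (Y.presheaf.stalk (f z)) + N) ∧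
      (η ≠ z → f η = f z → n + 1 ≤ N) := by
  obtain ⟨n, hn, hn'⟩ := exists_fdim_rtrdeg f z
  obtain ⟨N, hN, hN'⟩ := exists_fdim_rtrdeg f η
  have k := (DimFormula.scheme_dim_formula_local f h hn' hN').1
  haveI := DimFormula.isDomain_locQuot z η h
  haveI := DimFormula.isLocalRing_locQuot z η h
  have hB := dim_locQuot_le (f z) (f η) (h.map f.continuous)
  have h0 : (0 : WithBot ℕ∞) ≤ ringKrullDim (Cyc.LocQuot z η h) := ringKrullDim_nonneg_of_nontrivial
  have h1 : η ≠ z → (1 : WithBot ℕ∞) ≤ ringKrullDim (Cyc.LocQuot z η h) := fun hne => by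
    let b : PrimeSpectrum (Cyc.LocQuot z η h) := ⟨⊥, Ideal.isPrime_bot⟩
    have hlt : b < IsLocalRing.closedPoint _ := lt_of_le_of_ne (bot_le : (⊥ : Ideal _) ≤ _) fun e =>
      hne (((LocQuotDim.pt_bot z η h).symm.trans (congrArg (LocQuotDim.pt z η h) e)).trans
        (LocQuotDim.pt_closed z η h))
    have := Order.LTSeries.length_le_krullDim ((RelSeries.singleton _ b).snoc _ hlt)
    simpa [ringKrullDim] using this
  refine ⟨n, N, hn, hN, ?_, fun hne => ?_, fun hne he => ?_⟩
  · calc (n : WithBot ℕ∞) = 0 + n := (zero_add _).symm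
      _ ≤ _ := (add_le_add h0 le_rfl).trans (k.trans (add_le_add hB le_rfl))
  · calc (n : WithBot ℕ∞) + 1 = 1 + n := add_comm _ _
      _ ≤ _ := (add_le_add (h1 hne) le_rfl).trans (k.trans (add_le_add hB le_rfl))
  · haveI := DimFormula.isDomain_locQuot (f z) (f η) (h.map f.continuous)
    have hR : ringKrullDim (Cyc.LocQuot (f z) (f η) (h.map f.continuous)) ≤ 0 := by
      rw [← Groth.L07.DimJacobson.dim_interval]
      haveI : Subsingleton ↥{w : Y | f η ⤳ w ∧ w ⤳ f z} := ⟨fun a b => Subtype.ext (by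
        have ha : a.1 = f z := (a.2.2.antisymm ((specializes_of_eq he.symm).trans a.2.1)).eq
        have hb : b.1 = f z := (b.2.2.antisymm ((specializes_of_eq he.symm).trans b.2.1)).eq
        rw [ha, hb])⟩
      exact topologicalKrullDim_zero_of_discreteTopology _
    have h2 : ((n + 1 : ℕ) : WithBot ℕ∞) ≤ ((N : ℕ) : WithBot ℕ∞) := by
      calc ((n + 1 : ℕ) : WithBot ℕ∞) = 1 + n := by push_cast; exact add_comm _ _
        _ ≤ _ := (add_le_add (h1 hne) le_rfl).trans (k.trans (add_le_add hR le_rfl))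
        _ = _ := zero_add _
    exact_mod_cast h2

theorem exists_component_generic (z : X) :
    ∃ Z ∈ irreducibleComponents ↥X, ∃ η : X, IsGenericPoint η Z ∧ η ⤳ z := by
  obtain ⟨p, hp, hmax⟩ := exists_maximal_generization z
  exact ⟨closure {p}, (closure_singleton_mem_irreducibleComponents_iff p).2 hmax, p, rfl, hp⟩

theorem fdim_eq_of_generic {Z : Set ↥X} (hZ : Z ∈ irreducibleComponents ↥X) {η : X}
    (hη : IsGenericPoint η Z) : fdim f η = FlatMor.fibreDimAt f η :=
  Groth.L07.OpenFibreDim.fdim_eq_fibreDimAt f η fun x' _ hs =>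
    (closure_singleton_mem_irreducibleComponents_iff η).1 (hη.def.symm ▸ hZ) x' hs

theorem fibreDimAt_add_one_le (x : X) [IsNoetherianRing (Y.presheaf.stalk (f x))] (d : ℕ)
    (hgen : ∀ Z ∈ irreducibleComponents ↥X, x ∈ Z → ∀ η : X, IsGenericPoint η Z →
      f η ≠ f x ∧ FlatMor.fibreDimAt f η = d) :
    FlatMor.fibreDimAt f x + 1 ≤ (d : WithBot ℕ∞) + ringKrullDim (Y.presheaf.stalk (f x)) := by
  obtain ⟨m, hm⟩ := Groth.L07.OpenEquiv.exists_nat_fibreDimAt f x
  rcases Nat.eq_zero_or_pos m with h0 | hpos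
  all_goals
    by_contra hcon
    have hall : ∀ z : X, z ⤳ x → f z = f x → (∀ z', f z' = f z → z' ⤳ z → z' = z) →
        fdim f z + 1 ≤ (d : WithBot ℕ∞) + ringKrullDim (Y.presheaf.stalk (f x)) := by
      intro z hzx hfz _
      obtain ⟨Z, hZ, η, hη, hηz⟩ := exists_component_generic z
      obtain ⟨hne, hd⟩ := hgen Z hZ (hη.specializes_iff_mem.1 (hηz.trans hzx)) η hη
      haveI : IsNoetherianRing (Y.presheaf.stalk (f z)) := by rw [hfz]; infer_instance
      obtain ⟨n, N, hn, hN, -, hk, -⟩ := key f hηz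
      rw [fdim_eq_of_generic f hZ hη, hd] at hN
      have := hk fun e => hne (e ▸ hfz)
      rw [← hN, hfz] at this
      rw [hn, add_comm (d : WithBot ℕ∞)]
      exact this
    obtain ⟨z, hz1, hz2, hz3, hz4⟩ : ∃ z : X, z ⤳ x ∧ f z = f x ∧
        (∀ z', f z' = f z → z' ⤳ z → z' = z) ∧ (m : WithBot ℕ∞) ≤ fdim f z := by
      by_contra hc
      push Not at hc
      rcases Nat.eq_zero_or_pos m with h0' | hpos'
      · have := fibreDimAt_le_of_maximal f x (E := ⊥) fun z a b c => by
          obtain ⟨n, hn, -⟩ := exists_fdim_rtrdeg f z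
          have := hc z a b c
          rw [hn, h0'] at this
          exact absurd this (not_lt.2 (by exact_mod_cast Nat.zero_le n))
        rw [hm] at this
        simp at this
      · have := fibreDimAt_le_of_maximal f x (E := ((m - 1 : ℕ) : WithBot ℕ∞)) fun z a b c => by
          obtain ⟨n, hn, -⟩ := exists_fdim_rtrdeg f z
          have := hc z a b c
          rw [hn] at this ⊢
          have hnm : n < m := by exact_mod_cast this
          exact_mod_cast (show n ≤ m - 1 by omega)
        rw [hm] at this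
        have : m ≤ m - 1 := by exact_mod_cast this
        omega
    exact hcon ((hm ▸ add_le_add hz4 le_rfl).trans (hall z hz1 hz2 hz3))

theorem fibreDimAt_eq (x : X) [IsNoetherianRing (Y.presheaf.stalk (f x))]
    (hdim : ringKrullDim (Y.presheaf.stalk (f x)) ≤ 1) (d : ℕ)
    (hgen : ∀ Z ∈ irreducibleComponents ↥X, x ∈ Z → ∀ η : X, IsGenericPoint η Z →
      FlatMor.fibreDimAt f η = d) :
    FlatMor.fibreDimAt f x = d := by
  refine le_antisymm (fibreDimAt_le_of_maximal f x fun z hzx hfz _ => ?_) ?_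
  · obtain ⟨Z, hZ, η, hη, hηz⟩ := exists_component_generic z
    have hd := hgen Z hZ (hη.specializes_iff_mem.1 (hηz.trans hzx)) η hη
    haveI : IsNoetherianRing (Y.presheaf.stalk (f z)) := by rw [hfz]; infer_instance
    obtain ⟨n, N, hn, hN, -, hk, -⟩ := key f hηz
    rw [fdim_eq_of_generic f hZ hη, hd] at hN
    have hNd : d = N := by exact_mod_cast hN
    by_cases he : η = z
    · rw [← he, fdim_eq_of_generic f hZ hη, hd]
    rw [hfz] at hk
    have := (hk he).trans (add_le_add hdim le_rfl)
    rw [hn]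
    have hnN : n + 1 ≤ 1 + N := by exact_mod_cast this
    exact_mod_cast (show n ≤ d by omega)
  · obtain ⟨Z, hZ, η, hη, hηx⟩ := exists_component_generic x
    rw [← hgen Z hZ (hη.specializes_iff_mem.1 hηx) η hη, ← fdim_eq_of_generic f hZ hη]
    exact fdim_le_fibreDimAt_of_specializes f hηx

end Groth.L22.FibreCodim
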