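import Groth.Agent.L22.LocalDim
import Groth.Agent.L22.SchemeDim
import Groth.Agent.L16.ProjSpace.Basic
import Mathlib.AlgebraicGeometry.Morphisms.UniversallyOpen
import Mathlib.AlgebraicGeometry.Morphisms.Proper
import Mathlib.AlgebraicGeometry.Noetherian
import Mathlib.RingTheory.Ideal.KrullsHeightTheorem
import Mathlib.Data.Complex.Basic

/-!
Curves through a closed point avoiding a closed subset.
-/

set_option autoImplicit false
set_option linter.style.haveILetI false
universe u

open CategoryTheory AlgebraicGeometry TopologicalSpace Topology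

noncomputable section

namespace Groth.L22.CurveThrough

theorem dim_singleton_le {T : Type*} [TopologicalSpace T] (a : T) : topologicalKrullDim ↥({a} : Set T) ≤ 0 := by
  haveI : Subsingleton (IrreducibleCloseds ↥({a} : Set T)) := ⟨fun s t => IrreducibleCloseds.ext <| by
    obtain ⟨v, hv⟩ := s.isIrreducible.nonempty
    obtain ⟨w, hw⟩ := t.isIrreducible.nonempty
    ext z
    exact ⟨fun _ => Subsingleton.elim w z ▸ hw, fun _ => Subsingleton.elim v z ▸ hv⟩⟩
  exact Order.krullDim_nonpos_of_subsingleton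

/-- A prime directly below `m` avoiding a given element outside a given smaller prime. -/
theorem exists_covBy_avoiding {A : Type u} [CommRing A] [IsNoetherianRing A] (p₀ m : Ideal A) [p₀.IsPrime]
    [m.IsPrime] (h₀ : p₀ ≤ m) (a : A) (ha : a ∈ m) (ha₀ : a ∉ p₀) :
    ∃ P : Ideal A, P.IsPrime ∧ p₀ ≤ P ∧ P < m ∧ a ∉ P ∧
      ∀ Q : Ideal A, Q.IsPrime → P ≤ Q → Q ≤ m → Q = P ∨ Q = m := by
  obtain ⟨P, ⟨hPp, hP0, hPm, haP⟩, hmax⟩ := set_has_maximal_iff_noetherian.mpr inferInstance
    {P : Ideal A | P.IsPrime ∧ p₀ ≤ P ∧ P ≤ m ∧ a ∉ P} ⟨p₀, inferInstance, le_rfl, h₀, ha₀⟩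
  haveI := hPp
  have hlt : P < m := lt_of_le_of_ne hPm fun h => haP (h ▸ ha)
  refine ⟨P, hPp, hP0, hlt, haP, fun Q hQ hPQ hQm => ?_⟩
  by_contra hc
  push Not at hc
  haveI := hQ
  let π := Ideal.Quotient.mk P
  have hker : RingHom.ker π = P := Ideal.mk_ker
  haveI hm' : (m.map π).IsPrime := Ideal.map_isPrime_of_surjective Ideal.Quotient.mk_surjective (hker.trans_le hPm)
  haveI hQ' : (Q.map π).IsPrime := Ideal.map_isPrime_of_surjective Ideal.Quotient.mk_surjective (hker.trans_le hPQ)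
  have hcm : ∀ I : Ideal A, P ≤ I → (I.map π).comap π = I := fun I hI => by
    rw [Ideal.comap_map_of_surjective π Ideal.Quotient.mk_surjective, sup_eq_left]
    exact hker.trans_le hI
  have h1 : (⊥ : Ideal (A ⧸ P)) < Q.map π := bot_lt_iff_ne_bot.2 fun h => hc.1 <|
    le_antisymm (by rwa [Ideal.map_eq_bot_iff_le_ker, hker] at h) hPQ
  have h2 : Q.map π < m.map π := lt_of_le_of_ne (Ideal.map_mono hQm) fun h => hc.2 <| by
    rw [← hcm Q hPQ, h, hcm m hPm]
  -- every prime strictly between contains `a`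
  have hall : ∀ R : Ideal (A ⧸ P), R.IsPrime → R ≠ ⊥ → R < m.map π → π a ∈ R := by
    intro R hR hRne hRm
    by_contra haR
    haveI := hR
    have hle : P ≤ R.comap π := hker.ge.trans (Ideal.comap_mono bot_le)
    refine hmax (R.comap π) ⟨Ideal.IsPrime.comap π, hP0.trans hle, ?_, haR⟩ (lt_of_le_of_ne hle fun e => hRne ?_)
    · exact (Ideal.comap_mono hRm.le).trans (hcm m hPm).le
    · rw [← Ideal.map_comap_of_surjective π Ideal.Quotient.mk_surjective R, ← e, Ideal.map_quotient_self]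
  have ha' : π a ≠ 0 := fun h => haP (Ideal.Quotient.eq_zero_iff_mem.1 h)
  have hfin := (Ideal.span {π a}).finite_minimalPrimes_of_isNoetherianRing (A ⧸ P)
  obtain ⟨b, hbm, hb⟩ : ∃ b ∈ m.map π, ∀ R ∈ (Ideal.span {π a}).minimalPrimes, b ∉ R := by
    by_contra hb
    push Not at hb
    have hsub : ((m.map π : Ideal (A ⧸ P)) : Set (A ⧸ P)) ⊆ ⋃ R ∈ (↑hfin.toFinset : Set (Ideal (A ⧸ P))), (R : Set (A ⧸ P)) := fun b hb' => by
      obtain ⟨R, hR, hbR⟩ := hb b hb'
      exact Set.mem_biUnion (hfin.mem_toFinset.2 hR) hbR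
    obtain ⟨R, hR, hmR⟩ := (Ideal.subset_union_prime (f := id) ⊥ ⊥
      fun R hR _ _ => (hfin.mem_toFinset.1 hR).1.1).1 hsub
    haveI := (hfin.mem_toFinset.1 hR).1.1
    have hR1 := Ideal.height_le_one_of_isPrincipal_of_mem_minimalPrimes _ R (hfin.mem_toFinset.1 hR)
    have hQ1 : (Q.map π).height + 1 ≤ 1 :=
      (Ideal.height_add_one_le_of_lt_of_isPrime (h2.trans_le (show m.map π ≤ R from hmR))).trans hR1
    have := (add_le_add (Ideal.height_add_one_le_of_lt_of_isPrime h1) le_rfl).trans hQ1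
    simp only [Ideal.height_bot, zero_add] at this
    norm_num at this
  obtain ⟨R, hRmin, hRm⟩ := Ideal.exists_minimalPrimes_le ((Ideal.span_singleton_le_iff_mem _).2 hbm)
  haveI := hRmin.1.1
  have hb0 : b ≠ 0 := by
    obtain ⟨R', hR'⟩ := Ideal.nonempty_minimalPrimes (I := Ideal.span {π a})
      (fun h => hm'.ne_top (top_le_iff.1 (h.ge.trans ((Ideal.span_singleton_le_iff_mem _).2 (Ideal.mem_map_of_mem π ha)))))
    exact fun h => hb R' hR' (h ▸ zero_mem _)
  have hbR : b ∈ R := hRmin.1.2 (Ideal.mem_span_singleton_self b)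
  have hR1 := Ideal.height_le_one_of_isPrincipal_of_mem_minimalPrimes _ R hRmin
  have hRne : R ≠ ⊥ := fun h => hb0 (by rwa [h, Ideal.mem_bot] at hbR)
  have hRlt : R < m.map π := lt_of_le_of_ne hRm fun h => by
    subst h
    have := (add_le_add (Ideal.height_add_one_le_of_lt_of_isPrime h1) le_rfl).trans
      ((Ideal.height_add_one_le_of_lt_of_isPrime h2).trans hR1)
    simp only [Ideal.height_bot, zero_add] at this
    norm_num at this
  obtain ⟨R', hR'min, hR'R⟩ := Ideal.exists_minimalPrimes_le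
    ((Ideal.span_singleton_le_iff_mem _).2 (hall R inferInstance hRne hRlt))
  haveI := hR'min.1.1
  have hR'ne : (⊥ : Ideal (A ⧸ P)) < R' := bot_lt_iff_ne_bot.2 fun h => ha' <| by
    have := hR'min.1.2 (Ideal.mem_span_singleton_self (π a))
    rwa [h, Ideal.mem_bot] at this
  rcases hR'R.eq_or_lt with rfl | hlt'
  · exact hb _ hR'min hbR
  · have := (add_le_add (Ideal.height_add_one_le_of_lt_of_isPrime hR'ne) le_rfl).trans
      ((Ideal.height_add_one_le_of_lt_of_isPrime hlt').trans hR1)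
    simp only [Ideal.height_bot, zero_add] at this
    norm_num at this

/-- In a scheme locally of finite type over a field, a point outside a closed set `T` specialising to a
closed point of `T` generises from a curve through it. -/
theorem exists_curve_avoiding (k : Type u) [Field k] (X : Scheme.{u}) [X.Over (Spec (CommRingCat.of k))]
    [LocallyOfFiniteType (X ↘ Spec (CommRingCat.of k))] {T : Set X} (hT : IsClosed T) {y₀ q : X}
    (hs : y₀ ⤳ q) (hq : IsClosed ({q} : Set X)) (hqT : q ∈ T) (hy₀ : y₀ ∉ T) :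
    ∃ y : X, y₀ ⤳ y ∧ y ⤳ q ∧ y ∉ T ∧ topologicalKrullDim ↥(closure ({y} : Set X)) = 1 := by
  haveI : IsLocallyNoetherian X := LocallyOfFiniteType.isLocallyNoetherian (X ↘ Spec (CommRingCat.of k))
  obtain ⟨_, ⟨U, hU, rfl⟩, hqU, -⟩ :=
    X.isBasis_affineOpens.exists_subset_of_mem_open (Set.mem_univ q) isOpen_univ
  change X.Opens at U
  replace hU : IsAffineOpen U := hU
  have hy₀U : y₀ ∈ U := hs.mem_open U.2 hqU
  haveI := IsLocallyNoetherian.component_noetherian ⟨U, hU⟩
  obtain ⟨a, haT, ha₀⟩ := hU.exists_basicOpen_le (V := ⟨Tᶜ, hT.isOpen_compl⟩) ⟨y₀, hy₀⟩ hy₀U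
  have haq : q ∉ X.basicOpen a := fun h => haT h hqT
  rw [LocalDim.mem_basicOpen_iff hU hqU, not_not] at haq
  rw [LocalDim.mem_basicOpen_iff hU hy₀U] at ha₀
  haveI := (hU.primeIdealOf ⟨y₀, hy₀U⟩).2
  haveI := (hU.primeIdealOf ⟨q, hqU⟩).2
  obtain ⟨P, hP, hP0, hPm, haP, hcov⟩ := exists_covBy_avoiding _ _
    (LocalDim.le_of_specializes hU hy₀U hqU hs) a haq ha₀
  let P' : Spec Γ(X, U) := (⟨P, hP⟩ : PrimeSpectrum Γ(X, U))
  let y : X := hU.fromSpec P'
  have hy0y : y₀ ⤳ y := by
    have := LocalDim.fromSpec_specializes hU (q := hU.primeIdealOf ⟨y₀, hy₀U⟩) (q' := P') hP0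
    rwa [LocalDim.fromSpec_prime hU hy₀U] at this
  have hyq : y ⤳ q := by
    have := LocalDim.fromSpec_specializes hU (q := P') (q' := hU.primeIdealOf ⟨q, hqU⟩) hPm.le
    rwa [LocalDim.fromSpec_prime hU hqU] at this
  have hyU : y ∈ U := LocalDim.fromSpec_mem hU P'
  have hpy : hU.primeIdealOf ⟨y, hyU⟩ = P' := LocalDim.primeIdealOf_fromSpec hU P' hyU
  have hne : y ≠ q := fun h => hPm.ne <| by
    have : hU.primeIdealOf ⟨y, hyU⟩ = hU.primeIdealOf ⟨q, hqU⟩ := congrArg _ (Subtype.ext h)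
    exact congrArg PrimeSpectrum.asIdeal (hpy.symm.trans this)
  refine ⟨y, hy0y, hyq, fun hyT => ?_, ?_⟩
  · refine haT ?_ hyT
    show y ∈ X.basicOpen a
    rw [LocalDim.mem_basicOpen_iff hU hyU, hpy]
    exact haP
  · obtain ⟨n, hn, hn1⟩ := SchemeDim.trdeg_covBy k X hne hyq fun z hyz hzq => by
      have hzU : z ∈ U := hzq.mem_open U.2 hqU
      rcases hcov _ (hU.primeIdealOf ⟨z, hzU⟩).2 ((congrArg PrimeSpectrum.asIdeal hpy).ge.trans
        (LocalDim.le_of_specializes hU hyU hzU hyz)) (LocalDim.le_of_specializes hU hzU hqU hzq) with h | h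
      · exact .inl (by rw [← LocalDim.fromSpec_prime hU hzU]; exact congrArg hU.fromSpec (PrimeSpectrum.ext h))
      · exact .inr (by rw [← LocalDim.fromSpec_prime hU hzU, ← LocalDim.fromSpec_prime hU hqU]
                       exact congrArg hU.fromSpec (PrimeSpectrum.ext h))
    obtain ⟨d, hd, hd'⟩ := SchemeDim.exists_dim_closure_eq_trdeg k X y
    obtain ⟨c, hc, hc'⟩ := SchemeDim.exists_dim_closure_eq_trdeg k X q
    have hc0 : topologicalKrullDim ↥(closure ({q} : Set X)) ≤ 0 := by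
      rw [hq.closure_eq]
      exact dim_singleton_le q
    have e1 : c = 0 := by rw [hc] at hc0; exact_mod_cast nonpos_iff_eq_zero.1 (by exact_mod_cast hc0)
    have e2 : n = c := by exact_mod_cast hn.symm.trans hc'
    have e3 : d = n + 1 := by exact_mod_cast hd'.symm.trans hn1
    rw [hd, e3, e2, e1]
    rfl

/-- In a one-dimensional point closure every other point is closed. -/
theorem isClosed_of_dim_closure_le_one {T : Type*} [TopologicalSpace T] [T0Space T] {y w v : T}
    (h : topologicalKrullDim ↥(closure ({y} : Set T)) ≤ 1) (hyw : y ⤳ w) (hne : y ≠ w) (hwv : w ⤳ v) : v = w := by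
  by_contra hvw
  let mkC : ∀ z : T, y ⤳ z → IrreducibleCloseds ↥(closure ({y} : Set T)) := fun z hz =>
    ⟨closure {⟨z, hz.mem_closure⟩}, isIrreducible_singleton.closure, isClosed_closure⟩
  have hlt : ∀ (a b : T) (ha : y ⤳ a) (hb : y ⤳ b), a ⤳ b → a ≠ b → mkC b hb < mkC a ha := by
    intro a b ha hb hab hne'
    have hs : (⟨a, ha.mem_closure⟩ : ↥(closure ({y} : Set T))) ⤳ ⟨b, hb.mem_closure⟩ :=
      subtype_specializes_iff _ _ |>.2 hab
    refine lt_of_le_of_ne (closure_minimal (Set.singleton_subset_iff.2 hs.mem_closure) isClosed_closure) fun e => hne' ?_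
    have : (⟨a, ha.mem_closure⟩ : ↥(closure ({y} : Set T))) ∈ (mkC b hb : Set ↥(closure ({y} : Set T))) := by
      rw [e]; exact subset_closure rfl
    exact (hab.antisymm ((subtype_specializes_iff _ _).1 (specializes_iff_mem_closure.2 this))).eq
  have h2 : (2 : WithBot ℕ∞) ≤ topologicalKrullDim ↥(closure ({y} : Set T)) :=
    Order.LTSeries.length_le_krullDim (((RelSeries.singleton _ (mkC v (hyw.trans hwv))).snoc (mkC w hyw)
      (by simpa using hlt w v hyw (hyw.trans hwv) hwv (Ne.symm hvw))).snoc (mkC y specializes_rfl)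
      (by simpa using hlt y w specializes_rfl hyw hyw hne))
  have := h2.trans h
  norm_num at this

theorem main (Y Z : Scheme.{0}) (g : Z ⟶ Spec (CommRingCat.of ℂ)) (f : Y ⟶ Z)
    (hZ : (∃ (m : ℕ) (ι : Z ⟶ CohB1.ProjSpace m ℂ), IsClosedImmersion ι ∧ ι ≫ CohB1.ProjSpace.toSpec m ℂ = g))
    (hY : (∃ (n : ℕ) (ι' : Y ⟶ CohB1.ProjSpace n ℂ), IsClosedImmersion ι' ∧ ι' ≫ CohB1.ProjSpace.toSpec n ℂ = f ≫ g))
    [Flat f]
    (B : Set Z) (hBc : IsClosed B) (hBi : IsIrreducible B) (hBd : topologicalKrullDim ↥B = 1)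
    (p : Z) (hp : p ∈ B) (hpc : IsClosed ({p} : Set Z))
    (q : Y) (hqc : IsClosed ({q} : Set Y)) (hq : f.base q = p) :
    ∃ B' : Set Y, IsClosed B' ∧ IsIrreducible B' ∧ q ∈ B' ∧ f.base '' B' = B ∧
      ∀ z : Z, (B' ∩ f.base ⁻¹' {z}).Finite := by
  haveI hpg : IsProper g := by
    obtain ⟨m, ι, hι, rfl⟩ := hZ
    haveI : IsProper (CohB1.ProjSpace.toSpec m ℂ) := Groth.L16.ProjSpace.isProper_toSpec m ℂ
    infer_instance
  haveI hpfg : IsProper (f ≫ g) := by
    obtain ⟨m, ι, hι, hh⟩ := hY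
    haveI : IsProper (CohB1.ProjSpace.toSpec m ℂ) := Groth.L16.ProjSpace.isProper_toSpec m ℂ
    rw [← hh]
    infer_instance
  haveI : IsProper f := IsProper.of_comp f g
  letI : Y.Over (Spec (CommRingCat.of ℂ)) := ⟨f ≫ g⟩
  haveI : LocallyOfFiniteType (Y ↘ Spec (CommRingCat.of ℂ)) := inferInstanceAs (LocallyOfFiniteType (f ≫ g))
  haveI : IsLocallyNoetherian Y := LocallyOfFiniteType.isLocallyNoetherian (f ≫ g)
  haveI : CompactSpace Y := QuasiCompact.compactSpace_of_compactSpace (f ≫ g)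
  haveI : IsNoetherian Y := ⟨⟩
  obtain ⟨η, hη⟩ := QuasiSober.sober hBi hBc
  have hηp : η ⤳ p := hη.specializes hp
  have hne : η ≠ p := fun e => by
    rw [← hη.def, e, hpc.closure_eq] at hBd
    have := hBd.ge.trans (dim_singleton_le p)
    exact absurd this (by norm_num)
  obtain ⟨y₀, hy₀q, hy₀⟩ := Flat.generalizingMap f (show η ⤳ f q from hq.symm ▸ hηp)
  obtain ⟨y, hy₀y, hyq, hyT, hyd⟩ := exists_curve_avoiding ℂ Y (hpc.preimage f.continuous) hy₀q hqc hq
    (fun h => hne (hy₀.symm.trans h))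
  have hηy : η ⤳ f y := hy₀ ▸ hy₀y.map f.continuous
  have hcl : ∀ b, η ⤳ b → b ≠ η → ∀ c, b ⤳ c → c = b := fun b hb hbn c hbc =>
    isClosed_of_dim_closure_le_one (y := η) (by rw [hη.def]; exact hBd.le) hb hbn.symm hbc
  have hfy : f y = η := by
    by_contra h
    exact hyT ((hcl _ hηy h p (hq ▸ hyq.map f.continuous)).symm)
  have hwcl : ∀ w, y ⤳ w → w ≠ y → ∀ v, w ⤳ v → v = w := fun w hw hwn v hwv =>
    isClosed_of_dim_closure_le_one hyd.le hw hwn.symm hwv
  refine ⟨closure {y}, isClosed_closure, isIrreducible_singleton.closure, hyq.mem_closure, ?_, fun z => ?_⟩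
  · refine Set.Subset.antisymm ?_ ?_
    · rw [← hη.def, ← hfy, ← Set.image_singleton]
      exact image_closure_subset_closure_image f.continuous
    · rw [← hη.def]
      exact closure_minimal (Set.singleton_subset_iff.2 ⟨y, subset_closure rfl, hfy⟩)
        (f.isClosedMap _ isClosed_closure)
  · by_cases hz : z = η
    · refine (Set.finite_singleton y).subset ?_
      rintro w ⟨hw, hwz⟩
      by_contra hwy
      have hwc : IsClosed ({w} : Set Y) := by
        have : closure ({w} : Set Y) = {w} := Set.Subset.antisymm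
          (fun v hv => hwcl w (specializes_iff_mem_closure.2 hw) hwy v (specializes_iff_mem_closure.2 hv))
          subset_closure
        rw [← this]; exact isClosed_closure
      have := f.isClosedMap _ hwc
      rw [Set.image_singleton, show f w = η from hwz.trans hz] at this
      rw [← hη.def, this.closure_eq] at hp
      exact hne hp.symm
    · by_cases hz' : ∃ w, w ∈ closure ({y} : Set Y) ∩ f ⁻¹' {z}
      swap
      · exact Set.finite_empty.subset fun w hw => (hz' ⟨w, hw⟩).elim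
      obtain ⟨w₀, hw₀, hwz₀⟩ := hz'
      have hηz : η ⤳ z := hfy ▸ (show f w₀ = z from hwz₀) ▸ (specializes_iff_mem_closure.2 hw₀).map f.continuous
      have hzc : IsClosed ({z} : Set Z) := by
        have : closure ({z} : Set Z) = {z} := Set.Subset.antisymm
          (fun v hv => hcl z hηz hz v (specializes_iff_mem_closure.2 hv)) subset_closure
        rw [← this]; exact isClosed_closure
      set C : Set Y := closure ({y} : Set Y) ∩ f ⁻¹' {z} with hCdef
      have hC : IsClosed C := isClosed_closure.inter (hzc.preimage f.continuous)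
      have key : ∀ Z' ∈ irreducibleComponents ↥C, (Subtype.val '' Z').Subsingleton := by
        intro Z' hZ'
        haveI := hC.isClosedEmbedding_subtypeVal.quasiSober
        obtain ⟨ξ, hξ⟩ := QuasiSober.sober hZ'.1 (isClosed_of_mem_irreducibleComponents Z' hZ')
        have : ∀ v ∈ Z', v.1 = ξ.1 := fun v hv =>
          hwcl ξ.1 (specializes_iff_mem_closure.2 ξ.2.1) (fun e => hz ((show f ξ.1 = z from ξ.2.2).symm.trans (e ▸ hfy)))
            v.1 ((hξ.specializes hv).map continuous_subtype_val)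
        rintro _ ⟨a, ha, rfl⟩ _ ⟨b, hb, rfl⟩
        rw [this a ha, this b hb]
      refine ((NoetherianSpace.finite_irreducibleComponents (α := ↥C)).biUnion
        fun Z' hZ' => (key Z' hZ').finite).subset fun w hw => ?_
      exact Set.mem_biUnion (irreducibleComponent_mem_irreducibleComponents (⟨w, hw⟩ : C))
        ⟨_, mem_irreducibleComponent, rfl⟩

end Groth.L22.CurveThrough
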