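import Groth.Agent.L18.AmpleAvoid
import Groth.Agent.L16.ProjSpace.Basic
import Groth.Agent.L03.Euler.Dim
import Groth.Agent.L22.PDual.Pairing
import Groth.Agent.L16.CohSupport
import Groth.Agent.L22.FibreDim

/-!
Covering the complement of a closed set in a closed subset of projective space by hypersurface complements.
-/

set_option autoImplicit false
set_option backward.isDefEq.respectTransparency false
set_option linter.style.haveILetI false
universe u

open CategoryTheory CategoryTheory.Limits AlgebraicGeometry TopologicalSpace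

noncomputable section

namespace Groth.L22.HypCover

variable {k : Type u} [Field k] {n : ℕ}

/-- The complement of a hypersurface. -/
abbrev Dh (h : MvPolynomial (Fin (n + 1)) k) : (CohB1.ProjSpace n k).Opens :=
  Proj.basicOpen (CohB1.polyGrading n k) h

/-- A hypersurface through the complement of an open set and missing finitely many points of it. -/
theorem exists_homogeneous_avoiding (U : (CohB1.ProjSpace n k).Opens) {E : Set (CohB1.ProjSpace n k)}
    (hE : E.Finite) (hEU : E ⊆ U) :
    ∃ (h : MvPolynomial (Fin (n + 1)) k) (d : ℕ), 0 < d ∧ h.IsHomogeneous d ∧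
      E ⊆ (Dh h : Set (CohB1.ProjSpace n k)) ∧ Dh h ≤ U := by
  classical
  let 𝒜 := CohB1.polyGrading n k
  obtain ⟨Z, V, hzV, hVU, hsep, hEZ⟩ := Groth.L18.Ample.exists_avoiding_nhds E hE U hEU
  have hg : ∀ z : Z, ∃ (g : MvPolynomial (Fin (n + 1)) k) (a : ℕ), 0 < a ∧ g ∈ 𝒜 a ∧
      z.1 ∈ Proj.basicOpen 𝒜 g ∧ Proj.basicOpen 𝒜 g ≤ V z := by
    intro z
    obtain ⟨_, ⟨g, rfl⟩, hzg, hgV⟩ := (ProjectiveSpectrum.isTopologicalBasis_basic_opens 𝒜).exists_subset_of_mem_open
      (hzV z) (V z).2
    obtain ⟨i, hi⟩ := Groth.L16.ProjSpace.exists_mem_basicOpen_X n k z.1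
    obtain ⟨a, ha⟩ : ∃ a, MvPolynomial.homogeneousComponent a g ∉ z.1.asHomogeneousIdeal.toIdeal := by
      by_contra hc
      push Not at hc
      refine hzg ?_
      show g ∈ z.1.asHomogeneousIdeal.toIdeal
      rw [← MvPolynomial.sum_homogeneousComponent g]
      exact Ideal.sum_mem _ fun a _ => hc a
    refine ⟨MvPolynomial.homogeneousComponent a g * MvPolynomial.X i, a + 1, Nat.succ_pos _,
      (MvPolynomial.homogeneousComponent_isHomogeneous a g).mul (MvPolynomial.isHomogeneous_X k i), ?_, ?_⟩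
    · rw [Proj.basicOpen_mul]
      exact ⟨ha, hi⟩
    · rw [Proj.basicOpen_mul]
      refine inf_le_left.trans fun x hx => hgV ?_
      intro hgx
      refine hx ?_
      rw [show MvPolynomial.homogeneousComponent a g = _ from rfl]
      exact (MvPolynomial.decomposition.decompose'_apply g a ▸ x.asHomogeneousIdeal.is_homogeneous' a hgx :)
  choose g a ha hga hzg hgV using hg
  let d : ℕ := ∏ z : Z, a z
  have hd : 0 < d := Finset.prod_pos fun z _ => ha z
  have hdvd : ∀ z : Z, ∃ c, 0 < c ∧ a z * c = d := fun z => by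
    obtain ⟨c, hc⟩ : a z ∣ d := Finset.dvd_prod_of_mem a (Finset.mem_univ z)
    exact ⟨c, Nat.pos_of_mul_pos_left (hc ▸ hd), hc.symm⟩
  choose c hc0 hc using hdvd
  have hpow : ∀ (z : Z) (x : CohB1.ProjSpace n k),
      x ∈ Proj.basicOpen 𝒜 (g z ^ c z) ↔ x ∈ Proj.basicOpen 𝒜 (g z) := fun z x => by
    rw [Proj.basicOpen_pow _ _ _ (hc0 z)]
  have hle : Proj.basicOpen 𝒜 (∑ z, g z ^ c z) ≤ U := by
    intro x hx
    by_contra hxU
    refine hx (Ideal.sum_mem _ fun z _ => ?_)
    by_contra hz
    exact hxU (hVU z (hgV z ((hpow z x).1 hz)))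
  have hZ : ∀ z : Z, z.1 ∈ Proj.basicOpen 𝒜 (∑ w, g w ^ c w) := by
    intro z hz
    have hrest : ∑ w ∈ Finset.univ.erase z, g w ^ c w ∈ z.1.asHomogeneousIdeal.toIdeal := by
      refine Ideal.sum_mem _ fun w hw => ?_
      by_contra hne
      exact (Finset.mem_erase.1 hw).1 (hsep z w (hgV w ((hpow w z.1).1 hne)))
    have hsum := Finset.add_sum_erase Finset.univ (fun w => g w ^ c w) (Finset.mem_univ z)
    have : g z ^ c z ∈ z.1.asHomogeneousIdeal.toIdeal := by
      have h := Ideal.sub_mem _ hz hrest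
      rwa [← hsum, add_sub_cancel_right] at h
    exact (hpow z z.1).2 (hzg z) this
  refine ⟨∑ z, g z ^ c z, d, hd, MvPolynomial.IsHomogeneous.sum _ _ _ fun z _ => ?_, fun e he => ?_, hle⟩
  · have := ((hga z) : (g z).IsHomogeneous (a z)).pow (c z)
    rwa [hc z] at this
  · obtain ⟨z, hez⟩ := hEZ e he
    exact hez.mem_open (Proj.basicOpen 𝒜 _).2 (hZ z)

/-- `r` hypersurfaces through `Y` cover what is left of `Z`, if this has dimension less than `r`. -/
theorem exists_cover {Y : Set (CohB1.ProjSpace n k)} (hY : IsClosed Y) :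
    ∀ (r : ℕ) (Z : Set (CohB1.ProjSpace n k)), IsClosed Z →
      (∀ x ∈ Z, x ∉ Y → topologicalKrullDim (closure ({x} : Set (CohB1.ProjSpace n k))) < (r : WithBot ℕ∞)) →
      ∃ h : Fin r → MvPolynomial (Fin (n + 1)) k, (∀ j, ∃ d, 0 < d ∧ (h j).IsHomogeneous d) ∧
        (∀ j, Y ⊆ (Dh (h j) : Set (CohB1.ProjSpace n k))ᶜ) ∧
        Z \ Y ⊆ ⋃ j, (Dh (h j) : Set (CohB1.ProjSpace n k))
  | 0, Z, _, hdim => ⟨Fin.elim0, fun j => j.elim0, fun j => j.elim0, fun x hx => by
      have h := hdim x hx.1 hx.2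
      exact absurd (Groth.L03.Euler.zero_le_topologicalKrullDim ((Set.singleton_nonempty x).mono subset_closure))
        (not_le.2 (by simpa using h))⟩
  | r + 1, Z, hZ, hdim => by
    classical
    haveI := Groth.L22.PDual.proper n k
    haveI := Groth.L21.RR.isNoetherian_of_proper (X := CohB1.ProjSpace n k) k
    haveI : QuasiSober Z := hZ.isClosedEmbedding_subtypeVal.quasiSober
    haveI : NoetherianSpace Z := (Topology.IsInducing.subtypeVal (t := Z)).noetherianSpace
    let E : Set (CohB1.ProjSpace n k) :=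
      (Subtype.val '' {y : Z | closure {y} ∈ irreducibleComponents Z}) \ Y
    have hfin : {y : Z | closure {y} ∈ irreducibleComponents Z}.Finite := by
      refine Set.Finite.of_finite_image (f := fun y : Z => closure ({y} : Set Z)) ((NoetherianSpace.finite_irreducibleComponents (α := Z)).subset ?_)
        fun y _ y' _ h => ?_
      · rintro _ ⟨y, hy, rfl⟩
        exact hy
      · exact (inseparable_iff_closure_eq.2 h).eq
    obtain ⟨h, d, hd, hh, hEh, hhY⟩ := exists_homogeneous_avoiding ⟨Yᶜ, hY.isOpen_compl⟩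
      ((hfin.image _).subset Set.sdiff_subset : E.Finite) (fun x hx => hx.2)
    let D : (CohB1.ProjSpace n k).Opens := Dh h
    obtain ⟨hs, hd', hY', hcov⟩ := exists_cover hY r (Z \ (D : Set (CohB1.ProjSpace n k))) (hZ.sdiff D.2) fun x hx hxY => by
      obtain ⟨C, hC, hxC⟩ := exists_mem_irreducibleComponents_subset_of_isIrreducible _
        (isIrreducible_singleton (x := (⟨x, hx.1⟩ : Z)))
      obtain ⟨η, hη⟩ := QuasiSober.sober hC.1 (isClosed_of_mem_irreducibleComponents C hC)
      have hspec : (η : CohB1.ProjSpace n k) ⤳ x := by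
        exact (subtype_specializes_iff _ _).1 (hη.specializes (hxC rfl))
      have hηY : (η : CohB1.ProjSpace n k) ∉ Y := fun hηY => hxY (hspec.mem_closed hY hηY)
      have hηD : (η : CohB1.ProjSpace n k) ∈ D :=
        hEh ⟨⟨η, (Eq.mpr (congrArg (· ∈ irreducibleComponents ↥Z) hη.def) hC : closure {η} ∈ irreducibleComponents ↥Z), rfl⟩, hηY⟩
      have hsub : closure ({x} : Set (CohB1.ProjSpace n k)) ⊆ closure ({(η : CohB1.ProjSpace n k)} : Set _) :=
        closure_minimal (Set.singleton_subset_iff.2 (specializes_iff_mem_closure.1 hspec)) isClosed_closure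
      have hne : closure ({x} : Set (CohB1.ProjSpace n k)) ≠ closure ({(η : CohB1.ProjSpace n k)} : Set _) :=
        fun he => hx.2 ((inseparable_iff_closure_eq.2 he).eq ▸ hηD)
      have h1 := Groth.L03.Euler.topologicalKrullDim_add_one_le isClosed_closure
        isIrreducible_singleton.closure hsub hne
      have h2 := lt_of_le_of_lt h1 (hdim η η.2 hηY)
      obtain ⟨m, hm⟩ := WithBot.ne_bot_iff_exists.1 (ne_bot_of_le_ne_bot (by simp)
        (Groth.L03.Euler.zero_le_topologicalKrullDim ((Set.singleton_nonempty x).mono subset_closure)))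
      rw [← hm] at h2 ⊢
      have h3 : m + 1 < ((r + 1 : ℕ) : ℕ∞) := WithBot.coe_lt_coe.1 h2
      obtain ⟨m', rfl⟩ := WithTop.ne_top_iff_exists.1 (ne_top_of_le_ne_top (ENat.natCast_ne_top (r + 1))
        (le_self_add.trans h3.le))
      have h4 : m' + 1 < r + 1 := (Nat.cast_lt (α := ℕ∞)).1 (by rw [Nat.cast_add, Nat.cast_one]; exact h3)
      exact WithBot.coe_lt_coe.2 (Nat.cast_lt.2 (by omega : m' < r))
    refine ⟨Fin.cons h hs, Fin.cases ⟨d, hd, hh⟩ hd', Fin.cases (fun x hx hxD => hhY hxD hx) hY', ?_⟩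
    rintro x ⟨hxZ, hxY⟩
    by_cases hxD : x ∈ D
    · exact Set.mem_iUnion.2 ⟨0, hxD⟩
    · obtain ⟨j, hj⟩ := Set.mem_iUnion.1 (hcov ⟨⟨hxZ, hxD⟩, hxY⟩)
      exact Set.mem_iUnion.2 ⟨j.succ, by simpa using hj⟩

/-- The closure of a subvariety of projective space has the same dimension. -/
theorem dim_closure_range (n : ℕ) {X : Scheme.{u}} (j : X ⟶ CohB1.ProjSpace n k) [IsImmersion j] [IsIntegral X]
    {r : ℕ} (hX : topologicalKrullDim X = r) :
    topologicalKrullDim (closure (Set.range j.base)) = (r : WithBot ℕ∞) := by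
  letI : X.Over (Spec (CommRingCat.of k)) := ⟨j ≫ CohB1.ProjSpace.toSpec n k⟩
  haveI := Groth.L22.PDual.proper n k
  obtain ⟨a, b, ha, hb, hab⟩ := Groth.L22.FibreDim.exists_dim_closure_add k j rfl (genericPoint X)
  have hfib : closure ({genericPoint X} : Set X) ∩ j ⁻¹' {j (genericPoint X)} = {genericPoint X} := by
    ext z
    exact ⟨fun hz => j.isEmbedding.injective hz.2, fun hz => ⟨hz ▸ subset_closure rfl, congrArg _ hz⟩⟩
  have hr : closure (Set.range j.base) = closure ({j (genericPoint X)} : Set (CohB1.ProjSpace n k)) := by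
    refine (closure_minimal ?_ isClosed_closure).antisymm
      (closure_mono (Set.singleton_subset_iff.2 ⟨_, rfl⟩))
    rintro _ ⟨z, rfl⟩
    exact specializes_iff_mem_closure.1 ((genericPoint_specializes z).map j.continuous)
  rw [hfib] at hb
  have hb0 : b = 0 := Nat.le_zero.1 (by
    exact_mod_cast hb.symm.le.trans (topologicalKrullDim_zero_of_discreteTopology ({genericPoint X} : Set X)))
  rw [genericPoint_closure, hb0, add_zero] at hab
  rw [hr, ha, ← hX, ← hab]
  exact IsHomeomorph.topologicalKrullDim_eq _ (Homeomorph.Set.univ X).isHomeomorph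

end Groth.L22.HypCover
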