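import Groth.Agent.L22.ProjDict
import Groth.Agent.L22.TensorDim

/-!
Intersections in projective space.
-/

universe u

open AlgebraicGeometry TopologicalSpace Topology Set MvPolynomial

namespace Groth.L22.ProjDict

variable {k : Type u} [Field k] {n : ℕ}

local notation "S" => MvPolynomial (Fin (n + 1)) k
local notation "𝒜" => CohB1.polyGrading n k

/-- Two points whose dimensions add up to at least `n` have a common specialisation of the expected
dimension. -/
theorem exists_inter (x y : Pt k n) {ex ey : ℕ}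
    (hx : topologicalKrullDim (closure ({x} : Set (Pt k n))) = (ex : WithBot ℕ∞))
    (hy : topologicalKrullDim (closure ({y} : Set (Pt k n))) = (ey : WithBot ℕ∞))
    (h : n ≤ ex + ey) :
    ∃ (z : Pt k n) (ez : ℕ), z ∈ closure ({x} : Set (Pt k n)) ∧ z ∈ closure ({y} : Set (Pt k n)) ∧
      topologicalKrullDim (closure ({z} : Set (Pt k n))) = (ez : WithBot ℕ∞) ∧ ex + ey ≤ ez + n := by
  obtain ⟨a, ha, had⟩ := exists_dim_closure x
  obtain ⟨b, hb, hbd⟩ := exists_dim_closure y
  have e1 : a = ex := by exact_mod_cast ha.symm.trans hx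
  have e2 : b = ey := by exact_mod_cast hb.symm.trans hy
  subst e1 e2
  have hne : x.asHomogeneousIdeal.toIdeal ⊔ y.asHomogeneousIdeal.toIdeal ≠ ⊤ :=
    ne_top_of_le_ne_top (vertex_isMaximal (k := k) (n := n)).ne_top
      (sup_le (le_vertex x.asHomogeneousIdeal.isHomogeneous x.isPrime.ne_top)
        (le_vertex y.asHomogeneousIdeal.isHomogeneous y.isPrime.ne_top))
  obtain ⟨R, hR⟩ := Ideal.nonempty_minimalPrimes hne
  haveI := hR.1.1
  have h1 := TensorDim.dim_add_dim_le k x.asHomogeneousIdeal.toIdeal y.asHomogeneousIdeal.toIdeal R hR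
  obtain ⟨r, -, -, -, hr, -⟩ := AffineDim.exists_normalization k (S ⧸ R)
  rw [had, hbd, hr] at h1
  have h1' : a + 1 + (b + 1) ≤ r + (n + 1) := by exact_mod_cast h1
  let z : Pt k n := mkPt R hR.1.1
    (isHomogeneous_of_mem_minimalPrimes
      (x.asHomogeneousIdeal.isHomogeneous.sup y.asHomogeneousIdeal.isHomogeneous) hR)
    (by rw [hr]; exact_mod_cast (show 1 ≤ r by omega))
  obtain ⟨c, hc, hcd⟩ := exists_dim_closure z
  have : r = c + 1 := by exact_mod_cast hr.symm.trans hcd
  exact ⟨z, c, mem_closure_iff.2 (le_sup_left.trans hR.1.2),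
    mem_closure_iff.2 (le_sup_right.trans hR.1.2), hc, by omega⟩

theorem isHomogeneous_span_singleton {d : ℕ} {f : S} (hf : f.IsHomogeneous d) :
    (Ideal.span {f}).IsHomogeneous 𝒜 :=
  Ideal.homogeneous_span 𝒜 _ (by
    rintro _ rfl; exact ⟨d, (mem_homogeneousSubmodule _ _).2 hf⟩)

theorem mem_vertex_of_isHomogeneous {d : ℕ} {f : S} (hf : f.IsHomogeneous d) (hd : 0 < d) :
    f ∈ vertex k n := by
  rw [vertex, RingHom.mem_ker, constantCoeff_eq]
  exact hf.coeff_eq_zero (d := 0) (by simp; omega)

theorem bot_isHomogeneous : (⊥ : Ideal S).IsHomogeneous 𝒜 := Ideal.IsHomogeneous.bot 𝒜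

theorem dim_bot : ringKrullDim (S ⧸ (⊥ : Ideal S)) = ((n + 1 : ℕ) : WithBot ℕ∞) := by
  rw [ringKrullDim_eq_of_ringEquiv (RingEquiv.quotientBot S),
    MvPolynomial.ringKrullDim_of_isNoetherianRing, ringKrullDim_eq_zero_of_field]
  simp

/-- The generic point of projective space. -/
noncomputable def genPt (k : Type u) [Field k] (n : ℕ) : Pt k n :=
  mkPt ⊥ Ideal.isPrime_bot bot_isHomogeneous (by rw [dim_bot]; exact_mod_cast Nat.le_add_left 1 n)

theorem closure_genPt : closure ({genPt k n} : Set (Pt k n)) = Set.univ :=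
  Set.eq_univ_of_forall fun y => mem_closure_iff.2 (show (⊥ : Ideal S) ≤ _ from bot_le)

/-- Minimal primes over a hypersurface in a closed irreducible set. -/
theorem component_hypersurface {P : Ideal S} [P.IsPrime] {f : S} (hf : f ∉ P) {x : Pt k n}
    (hx : x.asHomogeneousIdeal.toIdeal ∈ (P ⊔ Ideal.span {f}).minimalPrimes) {e : ℕ}
    (he : ringKrullDim (S ⧸ P) = ((e + 1 : ℕ) : WithBot ℕ∞)) :
    topologicalKrullDim (closure ({x} : Set (Pt k n))) + 1 = (e : WithBot ℕ∞) := by
  obtain ⟨c, hc, hcd⟩ := exists_dim_closure x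
  have h := dim_eq_of_mem_minimalPrimes hf hx
  rw [hcd, he] at h
  have : c + 1 + 1 = e + 1 := by exact_mod_cast h
  rw [hc]
  exact_mod_cast (show c + 1 = e by omega)

theorem isHomogeneous_of_span_singleton {f : S} (hf : f ≠ 0)
    (hI : (Ideal.span {f}).IsHomogeneous 𝒜) : f.IsHomogeneous f.totalDegree := by
  have key : ∀ i, i ≠ f.totalDegree → homogeneousComponent i f = 0 := by
    intro i hi
    by_cases hlt : f.totalDegree < i
    · exact homogeneousComponent_eq_zero i f hlt
    by_contra hne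
    have hmem : homogeneousComponent i f ∈ Ideal.span {f} :=
      MvPolynomial.homogeneousComponent_mem_of_mem hI (Ideal.mem_span_singleton_self f) i
    obtain ⟨c, hc⟩ := Ideal.mem_span_singleton'.1 hmem
    have hc0 : c ≠ 0 := fun h => hne (by rw [← hc, h, zero_mul])
    have h1 : (homogeneousComponent i f).totalDegree ≤ i :=
      (homogeneousComponent_isHomogeneous i f).totalDegree_le
    rw [← hc, totalDegree_mul_of_isDomain hc0 hf] at h1
    omega
  have hsum := sum_homogeneousComponent f
  rw [Finset.sum_eq_single f.totalDegree (fun i _ hi => key i hi)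
    (fun h => absurd (Finset.mem_range.2 (Nat.lt_succ_self _)) h)] at hsum
  have := homogeneousComponent_isHomogeneous f.totalDegree f
  rwa [hsum] at this

/-- A point of `P^n` containing an irreducible form. -/
theorem exists_pt_of_irreducible (hn : 0 < n) {d : ℕ} {f : S} (hf : f.IsHomogeneous d)
    (hirr : Irreducible f) : ∃ q : Pt k n, q.asHomogeneousIdeal.toIdeal = Ideal.span {f} ∧
      ringKrullDim (S ⧸ Ideal.span {f}) = (n : WithBot ℕ∞) := by
  haveI hP : (Ideal.span {f}).IsPrime :=
    (Ideal.span_singleton_prime hirr.ne_zero).2 hirr.prime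
  have hd : ringKrullDim (S ⧸ Ideal.span {f}) = (n : WithBot ℕ∞) := by
    have hmem : Ideal.span {f} ∈ ((⊥ : Ideal S) ⊔ Ideal.span {f}).minimalPrimes := by
      rw [bot_sup_eq, Ideal.minimalPrimes_eq_subsingleton_self]; exact Set.mem_singleton _
    have h := dim_eq_of_mem_minimalPrimes (P := (⊥ : Ideal S)) (by simpa using hirr.ne_zero) hmem
    rw [dim_bot] at h
    obtain ⟨r, -, -, -, hr, -⟩ := AffineDim.exists_normalization k (S ⧸ Ideal.span {f})
    rw [hr] at h
    have : r + 1 = n + 1 := by exact_mod_cast h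
    rw [hr]
    exact_mod_cast (show r = n by omega)
  exact ⟨mkPt _ hP (isHomogeneous_span_singleton hf) (by rw [hd]; exact_mod_cast hn), rfl, hd⟩

end Groth.L22.ProjDict
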