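import Groth.Prelude.Def_KRR
import Groth.Agent.L22.Lambda
import Mathlib.RingTheory.AdjoinRoot

/-!
The series `σ_t = λ_{-t}⁻¹` and the functional on an elementary extension.
-/

universe v

namespace Groth.L22.Lambda

open LambdaRing Finset

variable {K : Type v} [CommRing K] [LambdaOps K]

theorem rescale_mul_sigmaSeries (x : K) :
    PowerSeries.rescale (-1 : K) (lamSeries x) * KRR.sigmaSeries x = 1 :=
  PowerSeries.mul_invOfUnit _ 1 (by rw [constantCoeff_rescale_lamSeries, Units.val_one])

theorem sigma_rec (x : K) (k : ℕ) :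
    ∑ i ∈ range (k + 1), (-1 : K) ^ i * LambdaOps.lam i x * KRR.sigma (k - i) x =
      if k = 0 then 1 else 0 := by
  have h := congrArg (PowerSeries.coeff k) (rescale_mul_sigmaSeries x)
  rw [PowerSeries.coeff_mul, Finset.Nat.sum_antidiagonal_eq_sum_range_succ_mk,
    PowerSeries.coeff_one] at h
  rw [← h]
  exact sum_congr rfl fun i _ => by rw [PowerSeries.coeff_rescale, coeff_lamSeries]; rfl

theorem sigma_zero (x : K) : KRR.sigma 0 x = 1 := by
  simpa [LambdaOps.lam_zero] using sigma_rec x 0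

section Ext

variable (P : PosStructure K) {e : K} (he : e ∈ P.pos) {r : ℕ} (hr : P.aug e = r + 1)

include hr in
theorem toNat_aug : (P.aug e).toNat = r + 1 := by rw [hr]; omega

include hr in
theorem root_rel : ∑ i ∈ range (r + 2),
    AdjoinRoot.of (KRR.extPoly P e) ((-1 : K) ^ i * LambdaOps.lam i e) *
      AdjoinRoot.root (KRR.extPoly P e) ^ (r + 1 - i) = 0 := by
  have h := AdjoinRoot.mk_self (f := KRR.extPoly P e)
  conv_lhs at h => arg 2; rw [KRR.extPoly, toNat_aug P hr]
  rw [map_sum] at h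
  rw [← h]
  exact sum_congr rfl fun i _ => by
    rw [map_mul (AdjoinRoot.mk _), AdjoinRoot.mk_C, map_pow (AdjoinRoot.mk _), AdjoinRoot.mk_X]

include hr in
theorem monic_extPoly : (KRR.extPoly P e).Monic := by
  haveI : Nontrivial K := P.aug.domain_nontrivial
  rw [KRR.extPoly, toNat_aug P hr, sum_range_succ']
  simp only [pow_zero, one_mul, Nat.sub_zero, LambdaOps.lam_zero, map_one]
  apply (Polynomial.monic_X_pow _).add_of_right
  rw [Polynomial.degree_X_pow]
  refine lt_of_le_of_lt (Polynomial.degree_sum_le _ _) ?_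
  rw [Finset.sup_lt_iff (WithBot.bot_lt_coe _)]
  intro i hi
  refine lt_of_le_of_lt (Polynomial.degree_C_mul_X_pow_le _ _) ?_
  have hi' := mem_range.1 hi
  exact_mod_cast (show r + 1 - (i + 1) < r + 1 by omega)

include hr in
theorem natDegree_extPoly [Nontrivial K] : (KRR.extPoly P e).natDegree = r + 1 := by
  rw [KRR.extPoly, toNat_aug P hr, sum_range_succ']
  simp only [pow_zero, one_mul, Nat.sub_zero, LambdaOps.lam_zero, map_one]
  rw [Polynomial.natDegree_add_eq_right_of_degree_lt, Polynomial.natDegree_X_pow]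
  rw [Polynomial.degree_X_pow]
  refine lt_of_le_of_lt (Polynomial.degree_sum_le _ _) ?_
  rw [Finset.sup_lt_iff (WithBot.bot_lt_coe _)]
  intro i hi
  refine lt_of_le_of_lt (Polynomial.degree_C_mul_X_pow_le _ _) ?_
  have hi' := mem_range.1 hi
  exact_mod_cast (show r + 1 - (i + 1) < r + 1 by omega)

theorem nontrivial_of_aug (P : PosStructure K) : Nontrivial K :=
  P.aug.domain_nontrivial

variable (f : AdjoinRoot (KRR.extPoly P e) →ₗ[K] K)

theorem f_of_mul (a : K) (x : AdjoinRoot (KRR.extPoly P e)) :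
    f (AdjoinRoot.of (KRR.extPoly P e) a * x) = a * f x := by
  have : AdjoinRoot.of (KRR.extPoly P e) a * x = a • x := by
    rw [Algebra.smul_def, AdjoinRoot.algebraMap_eq]
  rw [this, map_smul, smul_eq_mul]

variable (hf : ∀ i : ℕ, i ≤ r → f (AdjoinRoot.root (KRR.extPoly P e) ^ i) = KRR.sigma i e)

include he hr hf in
theorem f_root_pow (i : ℕ) :
    f (AdjoinRoot.root (KRR.extPoly P e) ^ i) = KRR.sigma i e := by
  induction i using Nat.strong_induction_on with
  | _ n ih =>
    rcases Nat.lt_or_ge r n with hn | hn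
    · obtain ⟨k, rfl⟩ : ∃ k, n = r + 1 + k := ⟨n - (r + 1), by omega⟩
      set ℓ := AdjoinRoot.root (KRR.extPoly P e)
      have h1 : ∑ i ∈ range (r + 2), ((-1 : K) ^ i * LambdaOps.lam i e) *
          f (ℓ ^ (r + 1 + k - i)) = 0 := by
        have h := congrArg (fun z => f (z * ℓ ^ k)) (root_rel P hr)
        simp only [zero_mul, map_zero, sum_mul, map_sum] at h
        rw [← h]
        refine sum_congr rfl fun i hi => ?_
        have hi' := mem_range.1 hi
        rw [mul_assoc (AdjoinRoot.of _ _), f_of_mul, ← pow_add]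
        congr 3
        omega
      have h2 : ∑ i ∈ range (r + 2), ((-1 : K) ^ i * LambdaOps.lam i e) *
          KRR.sigma (r + 1 + k - i) e = 0 := by
        have h := sigma_rec e (r + 1 + k)
        rw [if_neg (by omega)] at h
        rw [← h]
        refine sum_subset (fun i hi => mem_range.2 (by have := mem_range.1 hi; omega))
          fun i _ hi => ?_
        rw [P.lam_eq_zero e he i (by rw [hr]; have := mem_range.not.1 hi; omega)]
        simp
      rw [sum_range_succ'] at h1 h2
      simp only [pow_zero, LambdaOps.lam_zero, one_mul, Nat.sub_zero] at h1 h2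
      have h3 : ∑ i ∈ range (r + 1), (-1 : K) ^ (i + 1) * LambdaOps.lam (i + 1) e *
          f (ℓ ^ (r + 1 + k - (i + 1))) = ∑ i ∈ range (r + 1),
            (-1 : K) ^ (i + 1) * LambdaOps.lam (i + 1) e *
              KRR.sigma (r + 1 + k - (i + 1)) e :=
        sum_congr rfl fun i hi => by rw [ih _ (by have := mem_range.1 hi; omega)]
      rw [h3] at h1
      exact add_left_cancel (h1.trans h2.symm)
    · exact hf n hn

include he hr hf in
theorem f_inv_pow (linv : AdjoinRoot (KRR.extPoly P e))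
    (hlinv : linv * AdjoinRoot.root (KRR.extPoly P e) = 1) (n : ℕ) (hn : 1 ≤ n) (hnr : n ≤ r) :
    f (linv ^ n) = 0 := by
  induction n using Nat.strong_induction_on with
  | _ n ih =>
    set ℓ := AdjoinRoot.root (KRR.extPoly P e)
    obtain ⟨j, hj⟩ : ∃ j, r + 1 = j + n := ⟨r + 1 - n, by omega⟩
    have h := congrArg (fun z => f (z * linv ^ n)) (root_rel P hr)
    simp only [zero_mul, map_zero, sum_mul, map_sum] at h
    rw [show r + 2 = (j + 1) + n by omega, sum_range_add] at h
    have e1 : ∑ i ∈ range (j + 1), f (AdjoinRoot.of (KRR.extPoly P e)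
        ((-1 : K) ^ i * LambdaOps.lam i e) * ℓ ^ (r + 1 - i) * linv ^ n) = 0 := by
      have h2 := sigma_rec e j
      rw [if_neg (by omega)] at h2
      rw [← h2]
      refine sum_congr rfl fun i hi => ?_
      have hi' := mem_range.1 hi
      have : ℓ ^ (r + 1 - i) * linv ^ n = ℓ ^ (j - i) := by
        rw [show r + 1 - i = (j - i) + n by omega, pow_add, mul_assoc, ← mul_pow, mul_comm ℓ,
          hlinv, one_pow, mul_one]
      rw [mul_assoc (AdjoinRoot.of _ _), this, f_of_mul, f_root_pow P he hr f hf]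
    have e2 : ∀ i ∈ range n, f (AdjoinRoot.of (KRR.extPoly P e)
        ((-1 : K) ^ (j + 1 + i) * LambdaOps.lam (j + 1 + i) e) * ℓ ^ (r + 1 - (j + 1 + i)) *
          linv ^ n) = ((-1 : K) ^ (j + 1 + i) * LambdaOps.lam (j + 1 + i) e) * f (linv ^ (i + 1)) := by
      intro i hi
      have hi' := mem_range.1 hi
      rw [mul_assoc (AdjoinRoot.of _ _), f_of_mul]
      congr 2
      calc ℓ ^ (r + 1 - (j + 1 + i)) * linv ^ n
          = (ℓ * linv) ^ (r + 1 - (j + 1 + i)) * linv ^ (i + 1) := by
            rw [mul_pow, mul_assoc, ← pow_add]; congr 2; omega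
        _ = linv ^ (i + 1) := by rw [mul_comm ℓ, hlinv, one_pow, one_mul]
    rw [e1, zero_add, sum_congr rfl e2, sum_eq_single_of_mem (n - 1) (mem_range.2 (by omega))
      (fun i hi hne => by
        have hi' := mem_range.1 hi
        rw [ih (i + 1) (by omega) (by omega) (by omega), mul_zero]),
      show j + 1 + (n - 1) = r + 1 by omega, show n - 1 + 1 = n by omega] at h
    have hu : IsUnit ((-1 : K) ^ (r + 1) * LambdaOps.lam (r + 1) e) := by
      refine (isUnit_one.neg.pow _).mul ?_
      have := P.isUnit_lam e he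
      rwa [toNat_aug P hr] at this
    exact hu.mul_left_cancel (by rw [h, mul_zero])

end Ext

end Groth.L22.Lambda

namespace Groth.L22.Lambda

open LambdaRing Finset

section Quot

variable {K : Type v} [CommRing K] [LambdaOps K] (P : PosStructure K) (e : K)
  [LambdaOps (AdjoinRoot (KRR.extPoly P e))]
  (hlam : ∀ (i : ℕ) (x : K), LambdaOps.lam i (AdjoinRoot.of (KRR.extPoly P e) x) =
    AdjoinRoot.of (KRR.extPoly P e) (LambdaOps.lam i x))
  (hroot : ∀ i : ℕ, 2 ≤ i → LambdaOps.lam i (AdjoinRoot.root (KRR.extPoly P e)) = 0)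

/-- `e - ℓ` in the elementary extension. -/
noncomputable abbrev qElt : AdjoinRoot (KRR.extPoly P e) :=
  AdjoinRoot.of (KRR.extPoly P e) e - AdjoinRoot.root (KRR.extPoly P e)

include hlam hroot in
theorem lam_qElt_succ (k : ℕ) :
    LambdaOps.lam (k + 1) (qElt P e) = AdjoinRoot.of (KRR.extPoly P e) (LambdaOps.lam (k + 1) e) -
      AdjoinRoot.root (KRR.extPoly P e) * LambdaOps.lam k (qElt P e) := by
  have h := LambdaOps.lam_add (k + 1) (AdjoinRoot.root (KRR.extPoly P e)) (qElt P e)
  rw [show AdjoinRoot.root (KRR.extPoly P e) + qElt P e = AdjoinRoot.of (KRR.extPoly P e) e from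
    add_sub_cancel _ _, hlam, sum_range_succ', sum_range_succ', LambdaOps.lam_zero,
    LambdaOps.lam_one, sum_eq_zero (fun i _ => by rw [hroot _ (by omega), zero_mul]), zero_add,
    one_mul, Nat.sub_zero, show k + 1 - (0 + 1) = k from rfl] at h
  rw [h]; ring

include hlam hroot in
theorem lam_qElt (k : ℕ) :
    LambdaOps.lam k (qElt P e) = ∑ i ∈ range (k + 1),
      AdjoinRoot.of (KRR.extPoly P e) (LambdaOps.lam i e) *
        (- AdjoinRoot.root (KRR.extPoly P e)) ^ (k - i) := by
  induction k with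
  | zero => simp [LambdaOps.lam_zero]
  | succ k ih =>
    rw [lam_qElt_succ P e hlam hroot, ih, sum_range_succ _ (k + 1), Nat.sub_self, pow_zero,
      mul_one, sub_eq_add_neg, mul_sum, ← sum_neg_distrib, add_comm]
    congr 1
    refine sum_congr rfl fun i hi => ?_
    rw [show k + 1 - i = (k - i) + 1 by have := mem_range.1 hi; omega, pow_succ]
    ring

include hlam hroot in
theorem lam_qElt_top {r : ℕ} (hr : P.aug e = r + 1) :
    LambdaOps.lam (r + 1) (qElt P e) = 0 := by
  rw [lam_qElt P e hlam hroot, ← mul_zero ((-1 : AdjoinRoot (KRR.extPoly P e)) ^ (r + 1)),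
    ← root_rel P hr, mul_sum]
  refine sum_congr rfl fun i hi => ?_
  rw [map_mul, map_pow, map_neg, map_one, neg_pow (AdjoinRoot.root _)]
  have hi' := mem_range.1 hi
  have hs : ((-1 : AdjoinRoot (KRR.extPoly P e))) ^ (r + 1 - i) = (-1) ^ (r + 1) * (-1) ^ i := by
    obtain ⟨d, hd⟩ : ∃ d, r + 1 = d + i := ⟨r + 1 - i, by omega⟩
    rw [hd, Nat.add_sub_cancel, pow_add, mul_assoc, ← mul_pow]
    simp
  rw [hs]
  ring

include hlam hroot in
/-- `λ_{-1}(e - ℓ) (1 - ℓ) = λ_{-1}(e)`. -/
theorem alt_qElt_mul {r : ℕ} (hr : P.aug e = r + 1) :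
    (∑ i ∈ range (r + 1), (-1) ^ i * LambdaOps.lam i (qElt P e)) *
      (1 - AdjoinRoot.root (KRR.extPoly P e)) =
      AdjoinRoot.of (KRR.extPoly P e)
        (∑ i ∈ range (r + 2), (-1) ^ i * LambdaOps.lam i e) := by
  have key : ∀ n, AdjoinRoot.of (KRR.extPoly P e)
      (∑ i ∈ range (n + 2), (-1) ^ i * LambdaOps.lam i e) =
      (∑ i ∈ range (n + 1), (-1) ^ i * LambdaOps.lam i (qElt P e)) *
        (1 - AdjoinRoot.root (KRR.extPoly P e)) +
        (-1) ^ (n + 1) * LambdaOps.lam (n + 1) (qElt P e) := by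
    intro n
    induction n with
    | zero =>
      simp only [sum_range_succ, sum_range_zero, map_add, map_mul, map_pow, map_neg, map_one,
        map_zero, LambdaOps.lam_zero, LambdaOps.lam_one, pow_zero, pow_one, zero_add]
      ring
    | succ n ih =>
      rw [sum_range_succ _ (n + 2), map_add, ih, sum_range_succ _ (n + 1),
        lam_qElt_succ P e hlam hroot (n + 1), map_mul, map_pow, map_neg, map_one]
      ring
  rw [key, lam_qElt_top P e hlam hroot hr, mul_zero, add_zero]

variable (he : e ∈ P.pos) {r : ℕ} (hr : P.aug e = r + 1)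
  (f : AdjoinRoot (KRR.extPoly P e) →ₗ[K] K)
  (hf : ∀ i : ℕ, i ≤ r → f (AdjoinRoot.root (KRR.extPoly P e) ^ i) = KRR.sigma i e)

include hlam hroot he hr hf in
theorem f_lam_qElt (k : ℕ) : f (LambdaOps.lam k (qElt P e)) = if k = 0 then 1 else 0 := by
  have h2 : ∀ i ∈ range (k + 1), f (AdjoinRoot.of (KRR.extPoly P e) (LambdaOps.lam i e) *
      (-AdjoinRoot.root (KRR.extPoly P e)) ^ (k - i)) =
      (-1) ^ k * ((-1) ^ i * LambdaOps.lam i e * KRR.sigma (k - i) e) := by
    intro i hi
    have : AdjoinRoot.of (KRR.extPoly P e) (LambdaOps.lam i e) *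
        (-AdjoinRoot.root (KRR.extPoly P e)) ^ (k - i) =
        AdjoinRoot.of (KRR.extPoly P e) (LambdaOps.lam i e * (-1) ^ (k - i)) *
          AdjoinRoot.root (KRR.extPoly P e) ^ (k - i) := by
      rw [neg_pow, map_mul, map_pow, map_neg, map_one]; ring
    rw [this, f_of_mul, f_root_pow P he hr f hf]
    obtain ⟨d, hd⟩ : ∃ d, k = d + i := ⟨k - i, by have := mem_range.1 hi; omega⟩
    rw [hd, Nat.add_sub_cancel, pow_add]
    calc LambdaOps.lam i e * (-1) ^ d * KRR.sigma d e
        = (-1) ^ d * ((-1 : K) ^ i * (-1) ^ i) * (LambdaOps.lam i e * KRR.sigma d e) := by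
          rw [← mul_pow]; simp; ring
      _ = _ := by ring
  rw [lam_qElt P e hlam hroot, map_sum, sum_congr rfl h2, ← mul_sum, sigma_rec]
  split_ifs with hk
  · subst hk; simp
  · rw [mul_zero]

end Quot

end Groth.L22.Lambda
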