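import Groth.Agent.L07.DimToolkit
import Groth.Agent.L07.OpenEquiv
import Groth.Agent.L07.OpenFibreDim
import Groth.Prelude.Def_EGA43

/-!
Components that are equidimensional over the base.
-/

set_option autoImplicit false
set_option linter.style.haveILetI false
set_option backward.isDefEq.respectTransparency false
universe u

open CategoryTheory AlgebraicGeometry TopologicalSpace Topology

noncomputable section

namespace Groth.L22.CondT

open Groth.L07.EquidimQF (closure_singleton_mem_irreducibleComponents_iff)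
open Groth.L07.Equidim (fdim fdim_comp exists_maximal_generization exists_fiber_point fdim_fiberι apply_fiberι maximal_openImmersion_iff fdim_le_fibreDimAt)
open Groth.L07.DimToolkit (fdim_le_fibreDimAt_of_specializes fibreDimAt_comp_le)

variable {X S : Scheme.{u}} (f : X ⟶ S) [LocallyOfFiniteType f]

/-- What equidimensionality gives at the maximal points and on the fibre. -/
theorem data_of_isEquidimAt (x : X) (h : EGA43.IsEquidimAt f x) :
    ∃ e : ℕ, FlatMor.fibreDimAt f x ≤ (e : WithBot ℕ∞) ∧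
      ∀ ξ, ξ ⤳ x → (∀ q, q ⤳ ξ → q = ξ) →
        closure ({f ξ} : Set S) ∈ irreducibleComponents ↥S ∧ fdim f ξ = (e : WithBot ℕ∞) := by
  obtain ⟨e, U, hxU, hcomp, hfib⟩ := h
  haveI : LocallyOfFiniteType (U.ι ≫ f) := inferInstance
  have hmaxfib : ∀ z, z ∈ U → (∀ z', f z' = f z → z' ⤳ z → z' = z) → fdim f z = (e : WithBot ℕ∞) := by
    intro z hzU hz
    let u : (U : Scheme.{u}) := ⟨z, hzU⟩
    have hu : U.ι u = z := rfl
    obtain ⟨c, hc⟩ := exists_fiber_point (U.ι ≫ f) u
    have hcm : ∀ c', c' ⤳ c → c' = c := fun c' hc' => by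
      apply ((U.ι ≫ f).fiberι ((U.ι ≫ f) u)).isEmbedding.injective
      apply U.ι.isOpenEmbedding.injective
      rw [hc, hu]
      refine hz _ ?_ ?_
      · have := apply_fiberι (U.ι ≫ f) ((U.ι ≫ f) u) c'
        simpa [Scheme.Hom.comp_apply] using this
      · have := (hc'.map ((U.ι ≫ f).fiberι ((U.ι ≫ f) u)).continuous).map U.ι.continuous
        rwa [hc, hu] at this
    have := hfib u (closure {c}) ((closure_singleton_mem_irreducibleComponents_iff c).2 hcm)
    rwa [← fdim_fiberι, hc, fdim_comp U.ι f (U.ι ≫ f) rfl, hu] at this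
  refine ⟨e, ?_, fun ξ hξ hmax => ?_⟩
  · obtain ⟨z, hzx, hfz, hzmax, hzd⟩ := Groth.L07.OpenEquiv.exists_maximal_fdim_eq f x
    rw [← hzd]
    exact (hmaxfib z (hzx.mem_open U.2 hxU) hzmax).le
  · have hξU : ξ ∈ U := hξ.mem_open U.2 hxU
    refine ⟨?_, hmaxfib ξ hξU fun z' _ hs => hmax z' hs⟩
    let u : (U : Scheme.{u}) := ⟨ξ, hξU⟩
    have hum : ∀ q, q ⤳ u → q = u := (maximal_openImmersion_iff U.ι u).2 hmax
    obtain ⟨W, hW, -, hWe⟩ := hcomp _ ((closure_singleton_mem_irreducibleComponents_iff u).2 hum)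
    rw [closure_image_closure (U.ι ≫ f).continuous, Set.image_singleton] at hWe
    rw [Scheme.Hom.comp_apply] at hWe
    rw [← hWe] at hW
    exact hW

/-- An irreducible scheme over a base is equidimensional at a point where the fibre dimension is the generic one. -/
theorem isEquidimAt_irreducible {W : Scheme.{u}} [IrreducibleSpace W] (g : W ⟶ S) [LocallyOfFiniteType g]
    (w : W) (e : ℕ) (hc : closure ({g (genericPoint W)} : Set S) ∈ irreducibleComponents ↥S)
    (he : fdim g (genericPoint W) = (e : WithBot ℕ∞)) (hw : FlatMor.fibreDimAt g w ≤ (e : WithBot ℕ∞)) :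
    EGA43.IsEquidimAt g w := by
  let U : W.Opens := ⟨{v | FlatMor.fibreDimAt g v ≤ (e : WithBot ℕ∞)}, Groth.L07.FibreDim.isOpen_fibreDimAt_le g e⟩
  haveI : LocallyOfFiniteType (U.ι ≫ g) := inferInstance
  have hηU : genericPoint W ∈ U := (genericPoint_specializes w).mem_open U.2 hw
  let η : (U : Scheme.{u}) := ⟨genericPoint W, hηU⟩
  have hηs : ∀ v : (U : Scheme.{u}), η ⤳ v := fun v =>
    U.ι.isOpenEmbedding.isInducing.specializes_iff.1 (genericPoint_specializes _)
  refine ⟨e, U, hw, fun Z hZ => ⟨_, hc, (((genericPoint_specializes w).map g.continuous)).mem_closure, ?_⟩, fun x' C hC => ?_⟩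
  · have hZe : Z = closure {η} := by
      refine Set.Subset.antisymm (fun v _ => (hηs v).mem_closure) ?_
      exact hZ.2 isIrreducible_singleton.closure fun v _ => (hηs v).mem_closure
    rw [hZe, closure_image_closure (U.ι ≫ g).continuous, Set.image_singleton]
    rfl
  · obtain ⟨c, hcC, hcm⟩ := Groth.L07.Equidim.exists_generic_of_component (U.ι ≫ g) _ hC
    rw [← hcC, ← fdim_fiberι]
    set u := (U.ι ≫ g).fiberι ((U.ι ≫ g) x') c with hu
    refine le_antisymm ?_ ?_
    · rw [fdim_comp U.ι g (U.ι ≫ g) rfl]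
      exact (fdim_le_fibreDimAt g _).trans u.2
    · have hfm : fdim (U.ι ≫ g) u = FlatMor.fibreDimAt (U.ι ≫ g) u := by
        refine Groth.L07.OpenFibreDim.fdim_eq_fibreDimAt _ _ fun z' hz' hs => ?_
        obtain ⟨c', rfl⟩ : z' ∈ Set.range ((U.ι ≫ g).fiberι ((U.ι ≫ g) x')) := by
          rw [Scheme.Hom.range_fiberι]
          exact hz'.trans (apply_fiberι (U.ι ≫ g) _ c)
        rw [hcm c' (((U.ι ≫ g).fiberι _).isEmbedding.isInducing.specializes_iff.1 hs)]
      rw [hfm, ← he, show genericPoint W = U.ι η from rfl, ← fdim_comp U.ι g (U.ι ≫ g) rfl]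
      exact fdim_le_fibreDimAt_of_specializes _ (hηs u)

/-- The component through a point as a reduced closed subscheme. -/
theorem exists_component_equidim (x ξ : X) (hξ : ξ ⤳ x) (hmax : ∀ q, q ⤳ ξ → q = ξ) (e : ℕ)
    (hc : closure ({f ξ} : Set S) ∈ irreducibleComponents ↥S) (he : fdim f ξ = (e : WithBot ℕ∞))
    (hx : FlatMor.fibreDimAt f x ≤ (e : WithBot ℕ∞)) :
    ∃ W : TopologicalSpace.Closeds X, (W : Set X) ∈ irreducibleComponents (X : Type u) ∧
      ∃ w : ↥((Scheme.IdealSheafData.vanishingIdeal W).subscheme),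
        (Scheme.IdealSheafData.vanishingIdeal W).subschemeι.base w = x ∧
        EGA43.IsEquidimAt ((Scheme.IdealSheafData.vanishingIdeal W).subschemeι ≫ f) w := by
  let W : TopologicalSpace.Closeds X := ⟨closure {ξ}, isClosed_closure⟩
  let i := (Scheme.IdealSheafData.vanishingIdeal W).subschemeι
  have hr : Set.range i = closure ({ξ} : Set X) := by
    show Set.range (Scheme.IdealSheafData.vanishingIdeal W).subschemeι = _
    rw [Scheme.IdealSheafData.range_subschemeι, Scheme.IdealSheafData.coe_support_vanishingIdeal]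
    rfl
  obtain ⟨η, hη⟩ : ξ ∈ Set.range i := hr ▸ subset_closure rfl
  obtain ⟨w, hw⟩ : x ∈ Set.range i := hr ▸ hξ.mem_closure
  have hgen : ∀ v, η ⤳ v := fun v => by
    rw [← i.isEmbedding.isInducing.specializes_iff, hη, specializes_iff_mem_closure, ← hr]
    exact ⟨v, rfl⟩
  have hgp : IsGenericPoint η Set.univ := Set.eq_univ_of_forall fun v => (hgen v).mem_closure
  haveI : IrreducibleSpace ↥((Scheme.IdealSheafData.vanishingIdeal W).subscheme) :=
    { toPreirreducibleSpace := ⟨hgp.isIrreducible.2⟩, toNonempty := ⟨η⟩ }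
  have hge : genericPoint ↥((Scheme.IdealSheafData.vanishingIdeal W).subscheme) = η :=
    (genericPoint_spec _).eq hgp
  haveI : LocallyOfFiniteType (i ≫ f) := inferInstance
  refine ⟨W, (closure_singleton_mem_irreducibleComponents_iff ξ).2 hmax, w, hw,
    isEquidimAt_irreducible (i ≫ f) w e ?_ ?_ ((fibreDimAt_comp_le i f w).trans (hw ▸ hx))⟩
  · rw [hge, Scheme.Hom.comp_apply, hη]; exact hc
  · rw [hge, fdim_comp i f (i ≫ f) rfl, hη]; exact he

theorem exists_component_of_isEquidimAt (x : X) (h : EGA43.IsEquidimAt f x) :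
    ∃ W : TopologicalSpace.Closeds X, (W : Set X) ∈ irreducibleComponents (X : Type u) ∧
      ∃ w : ↥((Scheme.IdealSheafData.vanishingIdeal W).subscheme),
        (Scheme.IdealSheafData.vanishingIdeal W).subschemeι.base w = x ∧
        EGA43.IsEquidimAt ((Scheme.IdealSheafData.vanishingIdeal W).subschemeι ≫ f) w := by
  obtain ⟨e, hx, hall⟩ := data_of_isEquidimAt f x h
  obtain ⟨ξ, hξ, hmax⟩ := exists_maximal_generization x
  obtain ⟨hc, he⟩ := hall ξ hξ hmax
  exact exists_component_equidim f x ξ hξ hmax e hc he hx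

theorem exists_component_of_fibre_maximal
    (h : ∀ x : X, (∀ x' : X, f.base x' = f.base x → x ∈ closure ({x'} : Set X) → x' = x) →
      ∃ W : TopologicalSpace.Closeds X, (W : Set X) ∈ irreducibleComponents (X : Type u) ∧
      ∃ w : ↥((Scheme.IdealSheafData.vanishingIdeal W).subscheme),
        (Scheme.IdealSheafData.vanishingIdeal W).subschemeι.base w = x ∧
        EGA43.IsEquidimAt ((Scheme.IdealSheafData.vanishingIdeal W).subschemeι ≫ f) w) (x : X) :
    ∃ W : TopologicalSpace.Closeds X, (W : Set X) ∈ irreducibleComponents (X : Type u) ∧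
      ∃ w : ↥((Scheme.IdealSheafData.vanishingIdeal W).subscheme),
        (Scheme.IdealSheafData.vanishingIdeal W).subschemeι.base w = x ∧
        EGA43.IsEquidimAt ((Scheme.IdealSheafData.vanishingIdeal W).subschemeι ≫ f) w := by
  obtain ⟨z, hzx, hfz, hzmax, hzd⟩ := Groth.L07.OpenEquiv.exists_maximal_fdim_eq f x
  obtain ⟨W, hW, w, hw, heq⟩ := h z fun x' hx' hc => hzmax x' hx' (specializes_iff_mem_closure.2 hc)
  let i := (Scheme.IdealSheafData.vanishingIdeal W).subschemeι
  have hr : Set.range i = (W : Set X) := by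
    show Set.range (Scheme.IdealSheafData.vanishingIdeal W).subschemeι = _
    rw [Scheme.IdealSheafData.range_subschemeι, Scheme.IdealSheafData.coe_support_vanishingIdeal]
  haveI : LocallyOfFiniteType (i ≫ f) := inferInstance
  obtain ⟨ξ, hξ⟩ := QuasiSober.sober hW.1 W.isClosed
  have hzW : z ∈ (W : Set X) := hr ▸ ⟨w, hw⟩
  have hmax : ∀ q, q ⤳ ξ → q = ξ :=
    (closure_singleton_mem_irreducibleComponents_iff ξ).1 (hξ.def.symm ▸ hW)
  obtain ⟨η, hη⟩ : ξ ∈ Set.range i := hr ▸ hξ.mem
  obtain ⟨e, hwe, hall⟩ := data_of_isEquidimAt (i ≫ f) w heq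
  have hsw : η ⤳ w := by
    rw [← i.isEmbedding.isInducing.specializes_iff, hη, show i w = z from hw]
    exact hξ.specializes hzW
  obtain ⟨hc, he⟩ := hall η hsw fun q hq =>
    i.isEmbedding.injective ((hmax _ (hη ▸ hq.map i.continuous)).trans hη.symm)
  rw [Scheme.Hom.comp_apply, hη] at hc
  rw [fdim_comp i f (i ≫ f) rfl, hη] at he
  have hzle := (fdim_le_fibreDimAt (i ≫ f) w).trans hwe
  rw [fdim_comp i f (i ≫ f) rfl, show i w = z from hw, hzd] at hzle
  exact exists_component_equidim f x ξ ((hξ.specializes hzW).trans hzx) hmax e hc he hzle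

end Groth.L22.CondT
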