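import Groth.Agent.L22.FiniteLength
import Mathlib.RingTheory.Artinian.Module
import Mathlib.RingTheory.Localization.AtPrime.Basic
import Mathlib.Algebra.Module.LocalizedModule.Exact
import Mathlib.RingTheory.Localization.Finiteness

/-!
Modules of dimension one: cokernels of injective endomorphisms have finite length.
-/

universe u v

namespace Groth.L22

theorem length_quot_range_lt_top {A : Type u} [CommRing A] [IsNoetherianRing A] [IsLocalRing A]
    {M : Type v} [AddCommGroup M] [Module A M] [Module.Finite A M]
    (hdim : Module.supportDim A M ≤ 1) (f : M →ₗ[A] M) (hf : Function.Injective f) :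
    Module.length A (M ⧸ LinearMap.range f) < ⊤ := by
  apply length_lt_top_of_support_isMaximal
  intro p hp
  by_contra hmax
  let S := p.asIdeal.primeCompl
  let Ap := Localization S
  let g := LocalizedModule.map S f
  have hg : Function.Injective g := LocalizedModule.map_injective S f hf
  have hfin : Module.length Ap (LocalizedModule S M) < ⊤ := by
    apply length_lt_top_of_support_isMaximal
    intro q hq
    let q' : PrimeSpectrum A := PrimeSpectrum.comap (algebraMap A Ap) q
    have hle : q'.asIdeal ≤ p.asIdeal := by
      have : q.asIdeal ≤ IsLocalRing.maximalIdeal (Localization.AtPrime p.asIdeal) :=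
        IsLocalRing.le_maximalIdeal q.2.ne_top
      have h2 := Ideal.comap_mono (f := algebraMap A (Localization.AtPrime p.asIdeal)) this
      rwa [← Localization.AtPrime.comap_maximalIdeal (I := p.asIdeal)]
    have hq' : q' ∈ Module.support A M := by
      obtain ⟨w, hw⟩ := Module.mem_support_iff'.1 hq
      obtain ⟨⟨n, s⟩, rfl⟩ := IsLocalizedModule.mk'_surjective S (LocalizedModule.mkLinearMap S M) w
      refine Module.mem_support_iff'.2 ⟨n, fun a ha h0 => hw (algebraMap A Ap a) ha ?_⟩
      rw [Function.uncurry_apply_pair, IsScalarTower.algebraMap_smul,
        ← IsLocalizedModule.mk'_smul, h0, IsLocalizedModule.mk'_zero]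
    rcases eq_or_ne q' p with e | e
    · have hq_eq : q = IsLocalRing.closedPoint (Localization.AtPrime p.asIdeal) := by
        apply PrimeSpectrum.localization_comap_injective (S := Ap) S
        change q' = _
        rw [e]
        exact PrimeSpectrum.ext Localization.AtPrime.comap_maximalIdeal.symm
      rw [hq_eq]
      exact IsLocalRing.maximalIdeal.isMaximal (Localization.AtPrime p.asIdeal)
    · exfalso
      have hp' : p ∈ Module.support A M :=
        Module.support_subset_of_surjective _ (Submodule.mkQ_surjective _) hp
      have hlt : q' < p := lt_of_le_of_ne hle e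
      let mA : PrimeSpectrum A := IsLocalRing.closedPoint A
      have hpm : p < mA := lt_of_le_of_ne (IsLocalRing.le_maximalIdeal p.2.ne_top)
        fun h => hmax (h ▸ IsLocalRing.maximalIdeal.isMaximal A)
      have hm : mA ∈ Module.support A M := Module.mem_support_mono hpm.le hp'
      have : (2 : WithBot ℕ∞) ≤ Module.supportDim A M := by
        let s : LTSeries (Module.support A M) :=
          ((RelSeries.singleton _ (⟨q', hq'⟩ : Module.support A M)).snoc ⟨p, hp'⟩ hlt).snoc
            ⟨mA, hm⟩ (by simpa using hpm)
        exact Order.LTSeries.length_le_krullDim s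
      exact absurd (this.trans hdim) (by norm_num)
  haveI : Module.Finite Ap (LocalizedModule S M) :=
    Module.Finite.of_isLocalizedModule S (LocalizedModule.mkLinearMap S M)
  haveI := (isFiniteLength_iff_isNoetherian_isArtinian.1 (Module.length_ne_top_iff.1 hfin.ne)).2
  have hsurj : Function.Surjective g := IsArtinian.surjective_of_injective_endomorphism g hg
  have hex : Function.Exact (LocalizedModule.map S f)
      (LocalizedModule.map S (LinearMap.range f).mkQ) :=
    LocalizedModule.map_exact S f _ (LinearMap.exact_map_mkQ_range f)
  have : Subsingleton (LocalizedModule S (M ⧸ LinearMap.range f)) := by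
    refine ⟨fun a b => ?_⟩
    suffices h : ∀ c : LocalizedModule S (M ⧸ LinearMap.range f), c = 0 by rw [h a, h b]
    intro c
    obtain ⟨d, rfl⟩ := LocalizedModule.map_surjective S _ (Submodule.mkQ_surjective _) c
    exact (hex d).2 (hsurj d)
  exact Module.notMem_support_iff.2 this hp

end Groth.L22
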