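import Mathlib.AlgebraicGeometry.Morphisms.FlatDescent
import Mathlib.AlgebraicGeometry.Morphisms.UniversallyOpen
import Mathlib.AlgebraicGeometry.Morphisms.IsIso

/-!
Descent along families of flat morphisms covering all points (no quasi-compactness on the family).
-/

universe u

open CategoryTheory CategoryTheory.Limits AlgebraicGeometry TopologicalSpace

namespace Groth.L22.Pointwise

variable {X Y : Scheme.{u}}

theorem isHomeomorph_of_pointwise (f : X ⟶ Y) [QuasiCompact f]
    (H : ∀ y : Y, ∃ (T : Scheme.{u}) (g : T ⟶ Y), Flat g ∧ y ∈ Set.range g ∧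
      IsHomeomorph (pullback.snd f g).base) : IsHomeomorph f.base := by
  have hclosed : IsClosedMap f.base := by
    refine (isClosedMap_iff_specializingMap f).2 fun x y' hy' => ?_
    obtain ⟨T, g, hg, ⟨t', rfl⟩, hh⟩ := H y'
    haveI := hg
    obtain ⟨t, ht, htx⟩ := Flat.generalizingMap g hy'
    obtain ⟨z, hzx, hzt⟩ := Scheme.Pullback.exists_preimage_pullback (f := f) (g := g) x t htx.symm
    have hsp : (pullback.snd f g) z ⤳ t' := hzt ▸ ht
    obtain ⟨z', hz', hz't⟩ := hh.isClosedEmbedding.isClosedMap.specializingMap hsp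
    refine ⟨(pullback.fst f g) z', hzx ▸ hz'.map (pullback.fst f g).continuous, ?_⟩
    change f ((pullback.fst f g) z') = _
    rw [← Scheme.Hom.comp_apply, pullback.condition, Scheme.Hom.comp_apply]
    exact congrArg g hz't
  have hinj : Function.Injective f.base := by
    intro x₁ x₂ h
    obtain ⟨T, g, -, ⟨t, ht⟩, hh⟩ := H (f x₁)
    obtain ⟨z₁, h1, h1'⟩ := Scheme.Pullback.exists_preimage_pullback (f := f) (g := g) x₁ t ht.symm
    obtain ⟨z₂, h2, h2'⟩ := Scheme.Pullback.exists_preimage_pullback (f := f) (g := g) x₂ t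
      (h.symm.trans ht.symm)
    rw [← h1, ← h2, hh.bijective.1 (h1'.trans h2'.symm)]
  have hsurj : Function.Surjective f.base := by
    intro y
    obtain ⟨T, g, -, ⟨t, rfl⟩, hh⟩ := H y
    obtain ⟨z, hz⟩ := hh.bijective.2 t
    exact ⟨(pullback.fst f g) z, by
      change f ((pullback.fst f g) z) = _
      rw [← Scheme.Hom.comp_apply, pullback.condition, Scheme.Hom.comp_apply]
      exact congrArg g hz⟩
  exact isHomeomorph_iff_continuous_isClosedMap_bijective.2 ⟨f.continuous, hclosed, hinj, hsurj⟩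

theorem isIso_pullback_fromSpecStalk (f : X ⟶ Y) [QuasiCompact f] {T : Scheme.{u}} (g : T ⟶ Y)
    [Flat g] (t : T) [IsIso (pullback.snd f g)] :
    IsIso (pullback.snd f (Y.fromSpecStalk (g t))) := by
  let p := Spec.map (g.stalkMap t)
  have hp : (@Surjective ⊓ @Flat ⊓ @QuasiCompact : MorphismProperty Scheme.{u}) p := by
    obtain ⟨h1, h2⟩ := (flat_and_surjective_SpecMap_iff _).2 (by
      letI := (g.stalkMap t).hom.toAlgebra
      rw [← RingHom.algebraMap_toAlgebra (g.stalkMap t).hom, RingHom.faithfullyFlat_algebraMap_iff]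
      exact @Module.FaithfullyFlat.of_flat_of_isLocalHom _ _ _ _ _ _ _
        (Flat.stalkMap g t) (g.toLRSHom.prop t))
    exact ⟨⟨h2, h1⟩, inferInstance⟩
  refine MorphismProperty.of_isPullback_of_descendsAlong (P := MorphismProperty.isomorphisms Scheme.{u})
    (IsPullback.of_hasPullback (pullback.snd f (Y.fromSpecStalk (g t))) p).flip hp ?_
  change IsIso _
  have h2 : IsIso (pullback.snd f (p ≫ Y.fromSpecStalk (g t))) := by
    have e : p ≫ Y.fromSpecStalk (g t) = T.fromSpecStalk t ≫ g :=
      Scheme.SpecMap_stalkMap_fromSpecStalk g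
    rw [e]
    rw [← pullbackLeftPullbackSndIso_inv_snd_snd f g (T.fromSpecStalk t)]
    infer_instance
  rw [← pullbackLeftPullbackSndIso_hom_snd f (Y.fromSpecStalk (g t)) p]
  infer_instance

theorem isIso_stalkMap_of_isIso_pullback (f : X ⟶ Y) (x : X)
    [IsIso (pullback.snd f (Y.fromSpecStalk (f x)))] : IsIso (f.stalkMap x) := by
  let s : Spec (Y.presheaf.stalk (f x)) ⟶ X :=
    inv (pullback.snd f (Y.fromSpecStalk (f x))) ≫ pullback.fst f (Y.fromSpecStalk (f x))
  have hs : s ≫ f = Y.fromSpecStalk (f x) := by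
    simp [s, pullback.condition]
  have hfx : Spec.map (f.stalkMap x) ≫ s = X.fromSpecStalk x := by
    have hl : pullback.lift (X.fromSpecStalk x) (Spec.map (f.stalkMap x))
        (Scheme.SpecMap_stalkMap_fromSpecStalk f).symm ≫ pullback.snd f _ =
        Spec.map (f.stalkMap x) := pullback.lift_snd _ _ _
    simp only [s]
    rw [← hl, Category.assoc, IsIso.hom_inv_id_assoc, pullback.lift_fst]
  have hsx : s (IsLocalRing.closedPoint (Y.presheaf.stalk (f x))) = x := by
    have h := congrArg (fun φ : Spec (X.presheaf.stalk x) ⟶ X => φ (IsLocalRing.closedPoint _)) hfx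
    simp only [Scheme.Hom.comp_apply, Scheme.fromSpecStalk_closedPoint] at h
    rwa [Spec_closedPoint] at h
  let r : X.presheaf.stalk x ⟶ Y.presheaf.stalk (f x) :=
    (X.presheaf.stalkCongr (Inseparable.of_eq hsx.symm)).hom ≫ Scheme.stalkClosedPointTo s
  have hr : Spec.map r ≫ X.fromSpecStalk x = s := by
    simp only [r, Spec.map_comp, Category.assoc, TopCat.Presheaf.stalkCongr_hom,
      Scheme.SpecMap_stalkSpecializes_fromSpecStalk]
    exact Scheme.Spec_stalkClosedPointTo_fromSpecStalk s
  refine ⟨r, ?_, ?_⟩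
  · apply Spec.map_injective
    rw [Spec.map_id, Spec.map_comp, ← cancel_mono (Y.fromSpecStalk (f x)), Category.id_comp,
      Category.assoc, Scheme.SpecMap_stalkMap_fromSpecStalk, ← Category.assoc, hr, hs]
  · apply Spec.map_injective
    rw [Spec.map_id, Spec.map_comp, ← cancel_mono (X.fromSpecStalk x), Category.id_comp,
      Category.assoc, hr, hfx]

theorem isIso_of_pointwise (f : X ⟶ Y) [QuasiCompact f]
    (H : ∀ y : Y, ∃ (T : Scheme.{u}) (g : T ⟶ Y), Flat g ∧ y ∈ Set.range g ∧
      IsIso (pullback.snd f g)) : IsIso f := by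
  have hh : IsHomeomorph f.base := isHomeomorph_of_pointwise f fun y => by
    obtain ⟨T, g, hg, hy, hi⟩ := H y
    exact ⟨T, g, hg, hy, (pullback.snd f g).homeomorph.isHomeomorph⟩
  haveI : ∀ x : X, IsIso (f.stalkMap x) := fun x => by
    obtain ⟨T, g, hg, ⟨t, ht⟩, hi⟩ := H (f x)
    haveI := hg
    haveI := hi
    haveI : IsIso (pullback.snd f (Y.fromSpecStalk (f x))) := by
      rw [← ht]; exact isIso_pullback_fromSpecStalk f g t
    exact isIso_stalkMap_of_isIso_pullback f x
  haveI : IsOpenImmersion f := IsOpenImmersion.of_isIso_stalkMap f hh.isOpenEmbedding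
  exact (isIso_iff_isOpenImmersion_and_surjective f).2 ⟨inferInstance, ⟨hh.bijective.2⟩⟩

end Groth.L22.Pointwise
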