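import Mathlib.RingTheory.Kaehler.Basic
import Mathlib.RingTheory.Ideal.KrullsHeightTheorem
import Mathlib.Algebra.Module.SpanRankOperations
import Mathlib.RingTheory.Ideal.Cotangent
import Mathlib.FieldTheory.IsAlgClosed.Basic

/-!
The cotangent space of the fibre is a quotient of the fibre of relative differentials.
-/

set_option autoImplicit false
set_option linter.style.haveILetI false
universe u

open IsLocalRing
open scoped TensorProduct

namespace Groth.L22.FiberOmega

variable {k B O : Type u} [Field k] [CommRing B] [CommRing O] [IsLocalRing B] [IsLocalRing O] [Algebra B O]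
  [IsLocalHom (algebraMap B O)]

variable (c : k →+* O) (cB : k →+* B) (hc : ∀ t, algebraMap B O (cB t) = c t)
  (hres : Function.Bijective ((residue O).comp c))

include hc hres in
theorem exists_surjective (hJ : (maximalIdeal B).map (algebraMap B O) ≠ ⊤) :
    haveI : Nontrivial (O ⧸ (maximalIdeal B).map (algebraMap B O)) := Ideal.Quotient.nontrivial_iff.mpr hJ
    haveI : IsLocalRing (O ⧸ (maximalIdeal B).map (algebraMap B O)) :=
      IsLocalRing.of_surjective' (Ideal.Quotient.mk _) Ideal.Quotient.mk_surjective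
    ∃ g : Ω[O⁄B] →ₗ[O] CotangentSpace (O ⧸ (maximalIdeal B).map (algebraMap B O)),
      Function.Surjective g ∧ (maximalIdeal O • (⊤ : Submodule O Ω[O⁄B])) ≤ LinearMap.ker g := by
  set J := (maximalIdeal B).map (algebraMap B O) with hJd
  haveI : Nontrivial (O ⧸ J) := Ideal.Quotient.nontrivial_iff.mpr hJ
  haveI : IsLocalRing (O ⧸ J) := IsLocalRing.of_surjective' (Ideal.Quotient.mk _) Ideal.Quotient.mk_surjective
  haveI : IsLocalHom (Ideal.Quotient.mk J) := IsLocalHom.of_surjective _ Ideal.Quotient.mk_surjective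
  let e : k ≃+* ResidueField O := RingEquiv.ofBijective _ hres
  let ev : O →+* k := e.symm.toRingHom.comp (residue O)
  have hev : ∀ a, a - c (ev a) ∈ maximalIdeal O := fun a => by
    rw [← residue_eq_zero_iff, map_sub, sub_eq_zero]
    exact (e.apply_symm_apply (residue O a)).symm
  have hevc : ∀ t, ev (c t) = t := fun t => e.symm_apply_apply t
  have hevm : ∀ a ∈ maximalIdeal O, ev a = 0 := fun a ha => by
    change e.symm (residue O a) = 0
    rw [(residue_eq_zero_iff a).2 ha, map_zero]
  have hmem : ∀ a, Ideal.Quotient.mk J (a - c (ev a)) ∈ maximalIdeal (O ⧸ J) := fun a =>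
    fun hu => hev a (isUnit_of_map_unit (Ideal.Quotient.mk J) _ hu)
  let δ : O → CotangentSpace (O ⧸ J) := fun a => (maximalIdeal (O ⧸ J)).toCotangent ⟨_, hmem a⟩
  have hsm : ∀ (a : O) (v : CotangentSpace (O ⧸ J)), a • v = Ideal.Quotient.mk J a • v := fun a v =>
    (algebraMap_smul (O ⧸ J) a v).symm
  have hB : ∀ b : B, δ (algebraMap B O b) = 0 := fun b => by
    let t := ev (algebraMap B O b)
    have hu : b - cB t ∈ maximalIdeal B := by
      have h := hev (algebraMap B O b)
      rw [← hc, ← map_sub] at h
      exact fun hbu => h (hbu.map (algebraMap B O))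
    refine (Ideal.toCotangent_eq_zero _ _).2 ?_
    have : Ideal.Quotient.mk J (algebraMap B O b - c t) = 0 := by
      rw [Ideal.Quotient.eq_zero_iff_mem, ← hc, ← map_sub]
      exact Ideal.mem_map_of_mem _ hu
    show Ideal.Quotient.mk J (algebraMap B O b - c t) ∈ _
    rw [this]
    exact Ideal.zero_mem _
  have hadd : ∀ a b, δ (a + b) = δ a + δ b := fun a b => by
    simp only [δ, ← map_add]
    congr 1
    ext
    simp only [map_add, map_sub, Submodule.coe_add]
    ring
  have hleib : ∀ a b, δ (a * b) = a • δ b + b • δ a := fun a b => by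
    simp only [δ, hsm, ← map_smul, ← map_add, Ideal.toCotangent_eq]
    have : (Ideal.Quotient.mk J (a * b - c (ev (a * b))) -
        (Ideal.Quotient.mk J a * Ideal.Quotient.mk J (b - c (ev b)) +
          Ideal.Quotient.mk J b * Ideal.Quotient.mk J (a - c (ev a)))) =
        -(Ideal.Quotient.mk J (a - c (ev a)) * Ideal.Quotient.mk J (b - c (ev b))) := by
      simp only [map_mul, map_sub]
      ring
    simp only [Submodule.coe_add, Submodule.coe_smul, smul_eq_mul, this, pow_two]
    exact neg_mem (Ideal.mul_mem_mul (hmem a) (hmem b))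
  let D : Derivation B O (CotangentSpace (O ⧸ J)) :=
    { toFun := δ
      map_add' := hadd
      map_smul' := fun b a => by
        show δ (b • a) = b • δ a
        rw [Algebra.smul_def, hleib, hB, smul_zero, add_zero, algebraMap_smul]
      map_one_eq_zero' := by
        show δ 1 = 0
        rw [← map_one (algebraMap B O), hB]
      leibniz' := hleib }
  refine ⟨D.liftKaehlerDifferential, fun v => ?_, ?_⟩
  · obtain ⟨⟨r, hr⟩, rfl⟩ := Ideal.toCotangent_surjective _ v
    obtain ⟨a, rfl⟩ := Ideal.Quotient.mk_surjective r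
    refine ⟨KaehlerDifferential.D B O a, ?_⟩
    rw [Derivation.liftKaehlerDifferential_comp_D]
    have ha : a ∈ maximalIdeal O := fun hu => hr (hu.map (Ideal.Quotient.mk J))
    show δ a = _
    simp only [δ, hevm a ha, map_zero, sub_zero]
    rfl
  · refine Submodule.smul_le.2 fun a ha w _ => ?_
    rw [LinearMap.mem_ker, map_smul, hsm]
    exact Ideal.Cotangent.smul_eq_zero_of_mem
      (show Ideal.Quotient.mk J a ∈ maximalIdeal (O ⧸ J) from
        fun hu => ha (isUnit_of_map_unit (Ideal.Quotient.mk J) a hu)) _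

include hc hres in
/-- The dimension of the fibre ring is at most the rank of the fibre of differentials. -/
theorem dim_le (M : Type u) [AddCommGroup M] [Module O M] [Module.Finite O M] [IsNoetherianRing O]
    (e : Ω[O⁄B] ≃ₗ[O] M) (hJ : (maximalIdeal B).map (algebraMap B O) ≠ ⊤) :
    letI : Module k (M ⧸ (maximalIdeal O • (⊤ : Submodule O M))) := Module.compHom _ c
    ringKrullDim (O ⧸ (maximalIdeal B).map (algebraMap B O)) ≤
      ((Module.finrank k (M ⧸ (maximalIdeal O • (⊤ : Submodule O M))) : ℕ) : WithBot ℕ∞) := by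
  letI : Module k (M ⧸ (maximalIdeal O • (⊤ : Submodule O M))) := Module.compHom _ c
  set J := (maximalIdeal B).map (algebraMap B O) with hJd
  haveI : Nontrivial (O ⧸ J) := Ideal.Quotient.nontrivial_iff.mpr hJ
  haveI : IsLocalRing (O ⧸ J) := IsLocalRing.of_surjective' (Ideal.Quotient.mk _) Ideal.Quotient.mk_surjective
  letI : Algebra k (O ⧸ J) := ((Ideal.Quotient.mk J).comp c).toAlgebra
  obtain ⟨g, hg, hgker⟩ := exists_surjective c cB hc hres hJ
  let g' : (M ⧸ (maximalIdeal O • (⊤ : Submodule O M))) →ₗ[O] CotangentSpace (O ⧸ J) :=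
    Submodule.liftQ _ (g.comp e.symm.toLinearMap) (by
      refine Submodule.smul_le.2 fun a ha w _ => ?_
      show g (e.symm (a • w)) = 0
      rw [map_smul]
      exact LinearMap.mem_ker.1 (hgker (Submodule.smul_mem_smul ha Submodule.mem_top)))
  have hg' : Function.Surjective g' := fun v => by
    obtain ⟨w, rfl⟩ := hg v
    exact ⟨Submodule.Quotient.mk (e w), congrArg g (e.symm_apply_apply w)⟩
  let gk : (M ⧸ (maximalIdeal O • (⊤ : Submodule O M))) →ₗ[k] CotangentSpace (O ⧸ J) :=
    { toFun := g'
      map_add' := map_add g'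
      map_smul' := fun t w => by
        show g' (c t • w) = t • g' w
        rw [map_smul, ← algebraMap_smul (O ⧸ J) (c t), ← algebraMap_smul (O ⧸ J) t]
        rfl }
  haveI : Module.Finite k (M ⧸ (maximalIdeal O • (⊤ : Submodule O M))) := by
    obtain ⟨s, hs⟩ := (Module.Finite.fg_top : (⊤ : Submodule O (M ⧸ (maximalIdeal O • (⊤ : Submodule O M)))).FG)
    refine ⟨⟨s, eq_top_iff.2 fun w hw => ?_⟩⟩
    clear hw
    have hw : w ∈ Submodule.span O (s : Set _) := hs ▸ Submodule.mem_top
    induction hw using Submodule.span_induction with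
    | mem x hx => exact Submodule.subset_span hx
    | zero => exact zero_mem _
    | add x y _ _ hx hy => exact add_mem hx hy
    | smul a x _ hx =>
      obtain ⟨t, ht⟩ := hres.2 (residue O a)
      have h0 : (a - c t) • x = 0 := by
        obtain ⟨m, rfl⟩ := Submodule.Quotient.mk_surjective _ x
        rw [← Submodule.Quotient.mk_smul, Submodule.Quotient.mk_eq_zero]
        refine Submodule.smul_mem_smul ?_ Submodule.mem_top
        rw [← residue_eq_zero_iff, map_sub, sub_eq_zero]
        exact ht.symm
      rw [sub_smul, sub_eq_zero] at h0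
      rw [h0]
      exact Submodule.smul_mem _ t hx
  have hfinres : Function.Surjective (algebraMap k (ResidueField (O ⧸ J))) := fun z => by
    obtain ⟨r, rfl⟩ := residue_surjective z
    obtain ⟨a, rfl⟩ := Ideal.Quotient.mk_surjective r
    obtain ⟨t, ht⟩ := hres.2 (residue O a)
    refine ⟨t, ?_⟩
    show residue (O ⧸ J) (Ideal.Quotient.mk J (c t)) = _
    rw [← sub_eq_zero, ← map_sub, ← map_sub, residue_eq_zero_iff]
    refine fun hu => ?_
    haveI : IsLocalHom (Ideal.Quotient.mk J) := IsLocalHom.of_surjective _ Ideal.Quotient.mk_surjective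
    have h1 : c t - a ∈ maximalIdeal O := by
      rw [← residue_eq_zero_iff, map_sub, sub_eq_zero]; exact ht
    exact h1 (isUnit_of_map_unit (Ideal.Quotient.mk J) _ hu)
  haveI : Module.Finite k (ResidueField (O ⧸ J)) :=
    Module.Finite.of_surjective (Algebra.linearMap k (ResidueField (O ⧸ J))) hfinres
  haveI : IsScalarTower k (ResidueField (O ⧸ J)) (CotangentSpace (O ⧸ J)) :=
    IsScalarTower.of_algebraMap_smul fun t v => by
      rw [IsScalarTower.algebraMap_apply k (O ⧸ J) (ResidueField (O ⧸ J)), algebraMap_smul, algebraMap_smul]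
  refine (ringKrullDim_le_spanFinrank_maximalIdeal (R := O ⧸ J)).trans ?_
  rw [IsLocalRing.spanFinrank_maximalIdeal_eq_finrank_cotangentSpace]
  have h1 := Module.finrank_mul_finrank k (ResidueField (O ⧸ J)) (CotangentSpace (O ⧸ J))
  have h2 := LinearMap.finrank_le_finrank_of_surjective (f := gk) hg'
  have h3 : 0 < Module.finrank k (ResidueField (O ⧸ J)) := Module.finrank_pos
  have h4 : Module.finrank (ResidueField (O ⧸ J)) (CotangentSpace (O ⧸ J)) ≤
      Module.finrank k (M ⧸ (maximalIdeal O • (⊤ : Submodule O M))) :=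
    ((Nat.le_mul_of_pos_left _ h3).trans h1.le).trans h2
  exact_mod_cast h4

end Groth.L22.FiberOmega
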