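import Groth.Agent.L16.Connected.Fibre
import Groth.Agent.L00.SteinNorm
import Groth.Agent.L19.NormalSections
import Groth.Agent.L21.Curve.NormalConnected
import Groth.Prelude.Def_Pi1
import Mathlib.AlgebraicGeometry.Morphisms.Flat
import Mathlib.AlgebraicGeometry.Properties
import Mathlib.RingTheory.Localization.AsSubring
import Mathlib.RingTheory.IntegralClosure.IntegrallyClosed
import Mathlib.RingTheory.Localization.LocalizationLocalization

/-!
Proper morphisms with `O_Y = f_* O_X`: image, integrality, normality, flat base change.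
-/

set_option autoImplicit false
set_option linter.style.haveILetI false
set_option backward.isDefEq.respectTransparency false
universe u

open CategoryTheory CategoryTheory.Limits AlgebraicGeometry TopologicalSpace Opposite

noncomputable section

namespace Groth.L22.Fibration

open Groth.L17.BC (fV fV_fromSpec)

variable {X Y : Scheme.{u}} (f : X ⟶ Y)

theorem surjective [UniversallyClosed f] (hf : ∀ U : Y.Opens, IsIso (f.app U)) : Surjective f := by
  refine ⟨fun y => ?_⟩
  by_contra hy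
  have hy' : y ∈ (Set.range f)ᶜ := fun ⟨x, hx⟩ => hy ⟨x, hx⟩
  let U : Y.Opens := ⟨_, f.isClosedMap.isClosed_range.isOpen_compl⟩
  have : Nonempty (U : Scheme.{u}) := ⟨⟨y, hy'⟩⟩
  have : Nontrivial Γ(Y, U) := inferInstance
  have he : f ⁻¹ᵁ U = ⊥ := by
    ext x
    simp [U]
  have : Subsingleton Γ(X, f ⁻¹ᵁ U) := by rw [he]; infer_instance
  have := hf U
  exact not_subsingleton Γ(Y, U) ((ConcreteCategory.bijective_of_isIso (f.app U)).1.subsingleton)

theorem isIntegral [UniversallyClosed f] (hf : ∀ U : Y.Opens, IsIso (f.app U)) [IsIntegral X] : IsIntegral Y := by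
  haveI : IsReduced Y := ⟨fun U => by
    have := hf U
    exact isReduced_of_injective (f.app U).hom (ConcreteCategory.bijective_of_isIso (f.app U)).1⟩
  haveI : IrreducibleSpace Y := by
    rw [irreducibleSpace_def]
    show IsIrreducible (Set.univ : Set Y)
    rw [← (surjective f hf).surj.range_eq, ← Set.image_univ]
    exact (IrreducibleSpace.isIrreducible_univ X).image _ f.continuous.continuousOn
  exact isIntegral_of_irreducibleSpace_of_isReduced Y

theorem isNormalScheme [IsProper f] (hf : ∀ U : Y.Opens, IsIso (f.app U)) [IsNoetherian X]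
    (hX : Pi1.IsNormalScheme X) : Pi1.IsNormalScheme Y := by
  intro y
  have hsurj := (surjective f hf).surj
  obtain ⟨x, hxy⟩ := hsurj y
  haveI := Groth.L16.Connected.geometricallyConnected f hf
  let C := irreducibleComponent x
  have hdis : ∀ W ∈ irreducibleComponents X, W ≠ C → Disjoint W C := fun W hW hne =>
    Set.disjoint_left.2 fun z hzW hzC => by
      haveI := (hX z).1
      exact hne (Groth.L21.NormalTotal.eq_of_mem_irreducibleComponents z hW (irreducibleComponent_mem_irreducibleComponents x) hzW hzC)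
  have hcompl : Cᶜ = ⋃ W ∈ irreducibleComponents X \ {C}, W := by
    ext z
    simp only [Set.mem_compl_iff, Set.mem_iUnion, Set.mem_sdiff, Set.mem_singleton_iff, exists_prop]
    refine ⟨fun hz => ⟨irreducibleComponent z, ⟨irreducibleComponent_mem_irreducibleComponents z,
      fun e => hz (e ▸ mem_irreducibleComponent)⟩, mem_irreducibleComponent⟩, ?_⟩
    rintro ⟨W, ⟨hW, hne⟩, hzW⟩ hzC
    exact Set.disjoint_left.1 (hdis W hW hne) hzW hzC
  have hCc : IsClosed (Cᶜ : Set X) := by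
    rw [hcompl]
    exact (NoetherianSpace.finite_irreducibleComponents.subset Set.sdiff_subset).isClosed_biUnion
      fun W hW => isClosed_of_mem_irreducibleComponents W hW.1
  let V₀ : Y.Opens := ⟨(f '' Cᶜ)ᶜ, (f.isClosedMap _ hCc).isOpen_compl⟩
  have hyV₀ : y ∈ V₀ := by
    rintro ⟨z, hz, hzy⟩
    have hconn : _root_.IsPreconnected (f ⁻¹' {y}) := by
      rw [← f.range_fiberι y, ← Set.image_univ]
      haveI : ConnectedSpace ↥(f.fiber y) := inferInstance
      exact isPreconnected_univ.image _ (f.fiberι y).continuous.continuousOn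
    have := isPreconnected_closed_iff.1 hconn C Cᶜ isClosed_irreducibleComponent hCc
      (fun w _ => em (w ∈ C)) ⟨x, hxy, mem_irreducibleComponent⟩ ⟨z, (hzy : z ∈ f ⁻¹' {y}), hz⟩
    obtain ⟨w, -, hw1, hw2⟩ := this
    exact hw2 hw1
  obtain ⟨_, ⟨V, hV, rfl⟩, hyV, hVV₀⟩ :=
    Y.isBasis_affineOpens.exists_subset_of_mem_open hyV₀ V₀.2
  have hsub : (f ⁻¹ᵁ V : Set X) ⊆ C := fun w hw => by
    by_contra hwC
    exact hVV₀ hw ⟨w, hwC, rfl⟩
  let U : X.Opens := f ⁻¹ᵁ V
  have hxU : x ∈ U := show f x ∈ V by rw [hxy]; exact hyV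
  haveI : Nonempty (U : Scheme.{u}) := ⟨⟨x, hxU⟩⟩
  haveI : IrreducibleSpace (U : Scheme.{u}) := by
    have h1 : IsPreirreducible (U : Set X) := by
      have h := (isIrreducible_irreducibleComponent (x := x)).2.open_subset U.2 hsub
      exact h
    exact { toPreirreducibleSpace := ⟨by
              have := Subtype.preirreducibleSpace h1
              exact this.isPreirreducible_univ⟩
            toNonempty := ⟨⟨x, hxU⟩⟩ }
  haveI : IsReduced X := by
    haveI : ∀ z : X, _root_.IsReduced (X.presheaf.stalk z) := fun z => by haveI := (hX z).1; infer_instance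
    exact isReduced_of_isReduced_stalk X
  haveI : IsReduced (U : Scheme.{u}) := isReduced_of_isOpenImmersion U.ι
  haveI : IsIntegral (U : Scheme.{u}) := isIntegral_of_irreducibleSpace_of_isReduced _
  have hN : ∀ z : (U : Scheme.{u}), IsIntegrallyClosed ((U : Scheme.{u}).presheaf.stalk z) := fun z => by
    haveI := (hX (U.ι z)).2
    exact IsIntegrallyClosed.of_equiv (asIso (U.ι.stalkMap z)).commRingCatIsoToRingEquiv
  haveI : Nonempty (⊤ : (U : Scheme.{u}).Opens) := ⟨⟨⟨x, hxU⟩, trivial⟩⟩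
  haveI := Groth.L19.NormalSec.isIntegrallyClosed_sections hN ⊤
  haveI := hf V
  let e : Γ(Y, V) ≃+* Γ((U : Scheme.{u}), ⊤) :=
    (asIso (f.app V)).commRingCatIsoToRingEquiv.trans U.topIso.symm.commRingCatIsoToRingEquiv
  haveI : IsDomain Γ(Y, V) := e.toMulEquiv.isDomain
  haveI : IsIntegrallyClosed Γ(Y, V) := IsIntegrallyClosed.of_equiv e.symm
  letI : Algebra Γ(Y, V) (Y.presheaf.stalk y) := Y.presheaf.algebra_section_stalk ⟨y, hyV⟩
  haveI := hV.isLocalization_stalk ⟨y, hyV⟩
  have hle : (hV.primeIdealOf ⟨y, hyV⟩).asIdeal.primeCompl ≤ nonZeroDivisors Γ(Y, V) :=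
    Ideal.primeCompl_le_nonZeroDivisors _
  exact ⟨IsLocalization.isDomain_of_le_nonZeroDivisors _ hle,
    isIntegrallyClosed_of_isLocalization _ _ hle⟩

variable {f}

theorem isIso_app_of_flat_affine [IsProper f] (hf : ∀ U : Y.Opens, IsIso (f.app U)) {X' Y' : Scheme.{u}}
    {g : X' ⟶ X} {f' : X' ⟶ Y'} {π : Y' ⟶ Y} (sq : IsPullback g f' f π) [IsAffineHom π] [Flat π]
    (U : Y'.Opens) : IsIso (f'.app U) := by
  haveI : IsProper f' := MorphismProperty.of_isPullback sq ‹IsProper f›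
  refine Groth.L00.SteinNorm.isIso_app_of_cover f' (fun s => ?_) U
  obtain ⟨_, ⟨V, hV, rfl⟩, hsV, -⟩ := Y.isBasis_affineOpens.exists_subset_of_mem_open
    (Set.mem_univ (π s)) isOpen_univ
  let W : Y'.Opens := π ⁻¹ᵁ V
  have hW : IsAffineOpen W := hV.preimage π
  refine ⟨W, hsV, hW, ?_⟩
  let φ := π.appLE V W le_rfl
  letI : Algebra Γ(Y, V) Γ(Y', W) := φ.hom.toAlgebra
  haveI : Module.Flat Γ(Y, V) Γ(Y', W) := Scheme.Hom.flat_appLE π hV hW le_rfl
  let XV : Scheme.{u} := ↑(f ⁻¹ᵁ V)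
  let XW : Scheme.{u} := ↑(f' ⁻¹ᵁ W)
  letI : XV.Over (Spec (CommRingCat.of Γ(Y, V))) := ⟨fV f hV⟩
  letI : XW.Over (Spec (CommRingCat.of Γ(Y', W))) := ⟨fV f' hW⟩
  have hspec : Spec.map (CommRingCat.ofHom (algebraMap Γ(Y, V) Γ(Y', W))) ≫ hV.fromSpec = hW.fromSpec ≫ π :=
    IsAffineOpen.SpecMap_appLE_fromSpec π hV hW le_rfl
  have big := (Groth.L17.BC.Classes.isPullback_fV f' hW).paste_horiz sq
  have hr : Set.range ((f' ⁻¹ᵁ W).ι ≫ g) ⊆ Set.range (f ⁻¹ᵁ V).ι := by
    rw [Scheme.Opens.range_ι]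
    rintro _ ⟨w, rfl⟩
    show f (g ((f' ⁻¹ᵁ W).ι w)) ∈ V
    rw [← Scheme.Hom.comp_apply g f, sq.w]
    exact w.2
  let gV : XW ⟶ XV := IsOpenImmersion.lift (f ⁻¹ᵁ V).ι ((f' ⁻¹ᵁ W).ι ≫ g) hr
  have hgV : gV ≫ (f ⁻¹ᵁ V).ι = (f' ⁻¹ᵁ W).ι ≫ g := IsOpenImmersion.lift_fac _ _ _
  have hc : gV ≫ fV f hV = fV f' hW ≫ Spec.map (CommRingCat.ofHom (algebraMap Γ(Y, V) Γ(Y', W))) := by
    rw [← cancel_mono hV.fromSpec, Category.assoc, Category.assoc, hspec,
      ← (Groth.L17.BC.Classes.isPullback_fV f hV).w, reassoc_of% hgV, ← big.w, Category.assoc]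
  have sqV : IsPullback gV (XW ↘ Spec (CommRingCat.of Γ(Y', W))) (XV ↘ Spec (CommRingCat.of Γ(Y, V)))
      (Spec.map (CommRingCat.ofHom (algebraMap Γ(Y, V) Γ(Y', W)))) := by
    refine IsPullback.of_right ?_ hc (Groth.L17.BC.Classes.isPullback_fV f hV)
    rw [hgV, hspec]
    exact big
  haveI : IsProper (XV ↘ Spec (CommRingCat.of Γ(Y, V))) := inferInstanceAs (IsProper (fV f hV))
  have hb := Groth.L16.Connected.bijective_scal_of_flat gV sqV (Groth.L16.Connected.bijective_scal_fV f hf hV)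
  -- read back
  have hb' : Function.Bijective (Coh.toGlobal (fV f' hW)) := by
    have e : XW.presheaf.map (homOfLE (le_top : (⊤ : XW.Opens) ≤ ⊤)).op = 𝟙 _ := by
      rw [show (homOfLE (le_top : (⊤ : XW.Opens) ≤ ⊤)).op = 𝟙 (op (⊤ : XW.Opens)) from Subsingleton.elim _ _]
      exact XW.presheaf.map_id _
    have h1 : ∀ b, Groth.L16.AffineBC.scal Γ(Y', W) XW ⊤ b = Coh.toGlobal (fV f' hW) b := fun b =>
      ConcreteCategory.congr_hom e (Coh.toGlobal (fV f' hW) b)
    exact (funext h1) ▸ hb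
  haveI : IsIso (f' ∣_ W).appTop := by
    rw [Coh.toGlobal, fV, Scheme.Hom.comp_appTop] at hb'
    rw [ConcreteCategory.isIso_iff_bijective]
    have h2 : Function.Bijective ((Scheme.ΓSpecIso Γ(Y', W)).inv ≫ hW.isoSpec.hom.appTop).hom :=
      ConcreteCategory.bijective_of_isIso _
    exact (Function.Bijective.of_comp_iff (f' ∣_ W).appTop.hom h2).1 hb'
  have h3 : IsIso (f'.app (W.ι ''ᵁ ⊤)) := by
    have : IsIso ((f' ∣_ W).appTop) := inferInstance
    rw [Scheme.Hom.appTop, morphismRestrict_app] at this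
    exact IsIso.of_isIso_comp_right _ (X'.presheaf.map (eqToHom (image_morphismRestrict_preimage f' W ⊤)).op)
  rwa [W.ι_image_top] at h3

end Groth.L22.Fibration

namespace Groth.L22.Fibration

variable {k : Type u} [Field k] {X Y : Scheme.{u}} {qX : X ⟶ Spec (CommRingCat.of k)} {qY : Y ⟶ Spec (CommRingCat.of k)}

/-- A fibration of proper schemes over a field stays one after an extension of the field. -/
theorem exists_bc [IsProper qX] [IsProper qY] (f : X ⟶ Y) (hfq : f ≫ qY = qX) (hf : ∀ U : Y.Opens, IsIso (f.app U))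
    {K : Type u} [Field K] (c : Spec (CommRingCat.of K) ⟶ Spec (CommRingCat.of k)) {X' Y' : Scheme.{u}}
    {a : X' ⟶ X} {a' : X' ⟶ Spec (CommRingCat.of K)} (hX : IsPullback a a' qX c)
    {b : Y' ⟶ Y} {b' : Y' ⟶ Spec (CommRingCat.of K)} (hY : IsPullback b b' qY c) :
    ∃ f' : X' ⟶ Y', f' ≫ b' = a' ∧ IsProper f' ∧ ∀ U : Y'.Opens, IsIso (f'.app U) := by
  haveI : IsProper (f ≫ qY) := by rw [hfq]; infer_instance
  haveI : IsProper f := IsProper.of_comp f qY
  let f' : X' ⟶ Y' := hY.lift (a ≫ f) a' (by rw [Category.assoc, hfq, hX.w])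
  have sq : IsPullback a f' f b :=
    IsPullback.of_bot (by rw [hfq, hY.lift_snd]; exact hX) (hY.lift_fst _ _ _).symm hY
  obtain ⟨φ, rfl⟩ : ∃ φ : CommRingCat.of k ⟶ CommRingCat.of K, c = Spec.map φ :=
    ⟨Spec.preimage c, (Spec.map_preimage c).symm⟩
  haveI : Flat (Spec.map φ) := by
    rw [HasRingHomProperty.Spec_iff (P := @Flat)]
    letI : Algebra k K := φ.hom.toAlgebra
    exact (inferInstance : Module.Flat k K)
  haveI : IsAffineHom (Spec.map φ) := inferInstance
  haveI : Flat b := MorphismProperty.of_isPullback hY.flip ‹Flat (Spec.map φ)›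
  haveI : IsAffineHom b := MorphismProperty.of_isPullback hY.flip ‹IsAffineHom (Spec.map φ)›
  exact ⟨f', hY.lift_snd _ _ _, MorphismProperty.of_isPullback sq ‹IsProper f›, isIso_app_of_flat_affine hf sq⟩

end Groth.L22.Fibration
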