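import Groth.Prelude.Def_Curv2
import Mathlib.FieldTheory.Galois.Basic

/-!
# Galois action on the fibres of `X_K → X` for a Galois extension
-/

set_option autoImplicit false
universe u

open CategoryTheory CategoryTheory.Limits AlgebraicGeometry

set_option backward.isDefEq.respectTransparency.types false

namespace Groth.L22.GaloisTransitive

variable {k : Type u} [Field k] {K : Type u} [Field K] [Algebra k K] [IsGalois k K]

theorem exists_comp_eq {Ω : Type u} [Field Ω] [Algebra k Ω] (α β : K →ₐ[k] Ω) :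
    ∃ σ : K ≃ₐ[k] K, α.comp (σ : K →ₐ[k] K) = β := by
  have hex : ∀ x, ∃ y, α y = β x := by
    intro x
    have hi : IsIntegral k x := Algebra.IsIntegral.isIntegral x
    have hs : ((minpoly k x).map (algebraMap k (K))).Splits :=
      Normal.splits inferInstance x
    have hr : β x ∈ (((minpoly k x).map (algebraMap k (K))).map α.toRingHom).roots := by
      rw [Polynomial.map_map, show α.toRingHom.comp (algebraMap k (K)) = algebraMap k Ω from α.comp_algebraMap,
        Polynomial.mem_roots (Polynomial.map_ne_zero (minpoly.ne_zero hi)),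
        Polynomial.IsRoot.def, Polynomial.eval_map, ← Polynomial.aeval_def, Polynomial.aeval_algHom_apply, minpoly.aeval, map_zero]
    rw [hs.roots_map, Multiset.mem_map] at hr
    obtain ⟨y, -, hy⟩ := hr
    exact ⟨y, hy⟩
  choose s hs using hex
  have hinj : Function.Injective α := α.toRingHom.injective
  let σ₀ : K →ₐ[k] K :=
    { toFun := s
      map_one' := hinj (by rw [hs, map_one, map_one])
      map_mul' := fun a b => hinj (by rw [hs, map_mul, map_mul, hs, hs])
      map_zero' := hinj (by rw [hs, map_zero, map_zero])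
      map_add' := fun a b => hinj (by rw [hs, map_add, map_add, hs, hs])
      commutes' := fun r => hinj (by rw [hs, AlgHom.commutes, AlgHom.commutes]) }
  exact ⟨AlgEquiv.ofBijective σ₀ (Algebra.IsAlgebraic.algHom_bijective σ₀), AlgHom.ext fun x => hs x⟩

/-- The Galois group acts transitively on the fibres of `X_{k^sep} → X`. -/
theorem exists_galAct_eq (X : Scheme.{u}) [X.Over (Spec (CommRingCat.of k))]
    (a b : ↥(Curv2.bc k X (K)))
    (h : Curv2.bcFst k X (K) a = Curv2.bcFst k X (K) b) :
    ∃ σ : K ≃ₐ[k] K, (Curv2.galAct k X (K) σ).base a = b := by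
  let p := Curv2.bcFst k X (K)
  let P := pullback p p
  obtain ⟨c, hc1, hc2⟩ := Scheme.Pullback.exists_preimage_pullback (f := p) (g := p) a b h
  let ξ := P.fromSpecResidueField c
  let ξa := ξ ≫ pullback.fst p p
  let ξb := ξ ≫ pullback.snd p p
  have hab : ξa ≫ p = ξb ≫ p := by simp only [ξa, ξb, Category.assoc, pullback.condition]
  let A := ξa ≫ Curv2.bcSnd k X (K)
  let B := ξb ≫ Curv2.bcSnd k X (K)
  obtain ⟨φ, hφ⟩ : ∃ φ, Spec.map φ = A := ⟨_, Spec.map_preimage _⟩
  obtain ⟨ψ, hψ⟩ : ∃ ψ, Spec.map ψ = B := ⟨_, Spec.map_preimage _⟩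
  let ι := CommRingCat.ofHom (algebraMap k (K))
  have hA : A ≫ Spec.map ι = (ξa ≫ p) ≫ (X ↘ Spec (CommRingCat.of k)) := by
    simp only [A, p, Category.assoc, pullback.condition, ι]
  have hB : B ≫ Spec.map ι = (ξb ≫ p) ≫ (X ↘ Spec (CommRingCat.of k)) := by
    simp only [B, p, Category.assoc, pullback.condition, ι]
  have hAB : ι ≫ φ = ι ≫ ψ := by
    apply Spec.map_injective
    rw [Spec.map_comp, Spec.map_comp, hφ, hψ, hA, hB, hab]
  letI : Algebra k (P.residueField c) := (ι ≫ φ).hom.toAlgebra
  let α : K →ₐ[k] P.residueField c := { φ.hom with commutes' := fun r => rfl }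
  let β : K →ₐ[k] P.residueField c :=
    { ψ.hom with commutes' := fun r => (congrArg (fun m => m.hom r) hAB).symm }
  obtain ⟨σ, hσ⟩ := exists_comp_eq α β
  refine ⟨σ, ?_⟩
  have key : ξa ≫ Curv2.galAct k X (K) σ = ξb := by
    apply pullback.hom_ext
    · refine Eq.trans ?_ hab
      simp only [Category.assoc]
      refine congrArg (ξa ≫ ·) ?_
      exact (pullback.lift_fst _ _ _).trans (Category.comp_id _)
    · refine Eq.trans ?_ hψ
      simp only [Category.assoc]
      rw [show Curv2.galAct k X (K) σ ≫ pullback.snd _ _ =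
        Curv2.bcSnd k X (K) ≫ Spec.map (CommRingCat.ofHom (σ : K →ₐ[k] K).toRingHom)
        from pullback.lift_snd _ _ _]
      rw [← Category.assoc, show ξa ≫ Curv2.bcSnd k X (K) = Spec.map φ from hφ.symm, ← Spec.map_comp]
      congr 1
      ext x
      exact AlgHom.congr_fun hσ x
  have e := congrArg (fun m => m.base (default : ↥(Spec (P.residueField c)))) key
  simp only [ξa, ξb, Category.assoc] at e
  simp only [Scheme.Hom.comp_apply, ξ, Scheme.fromSpecResidueField_apply, hc1, hc2] at e
  exact e

/-- A closed subset stable under the Galois group descends. -/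
theorem exists_closed_descent (X : Scheme.{u}) [X.Over (Spec (CommRingCat.of k))] (T' : Set (Curv2.bc k X K))
    (hT' : IsClosed T') (hinv : ∀ σ : K ≃ₐ[k] K, (Curv2.galAct k X K σ).base '' T' = T') :
    ∃ T : Set X, IsClosed T ∧ (Curv2.bcFst k X K).base ⁻¹' T = T' := by
  haveI : IsIntegralHom (Spec.map (CommRingCat.ofHom (algebraMap k K))) := by
    rw [IsIntegralHom.SpecMap_iff]
    exact algebraMap_isIntegral_iff.2 inferInstance
  haveI : IsIntegralHom (Curv2.bcFst k X K) := inferInstanceAs (IsIntegralHom (pullback.fst _ _))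
  refine ⟨_, (Curv2.bcFst k X K).isClosedMap _ hT', Set.Subset.antisymm ?_ fun a ha => ⟨a, ha, rfl⟩⟩
  rintro a ⟨b, hb, hba⟩
  obtain ⟨σ, hσ⟩ := exists_galAct_eq (K := K) X b a hba
  rw [← hinv σ]
  exact ⟨b, hb, hσ⟩

end Groth.L22.GaloisTransitive
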