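import Mathlib.RingTheory.AdjoinRoot
import Mathlib.RingTheory.Ideal.GoingUp
import Mathlib.RingTheory.Flat.Basic

/-!
Finite free extensions over which a monic polynomial splits.
-/

universe u

open Polynomial

namespace Groth.L22.SplitRing

theorem exists_split_aux : ∀ (n : ℕ) (A : Type u) [CommRing A] [Nontrivial A] (P : A[X]),
    P.Monic → P.natDegree = n →
    ∃ (C : Type u) (_ : CommRing C) (_ : Algebra A C), Module.Free A C ∧ Module.Finite A C ∧
      Function.Injective (algebraMap A C) ∧
      ∃ s : Multiset C, P.map (algebraMap A C) = (s.map fun a => X - Polynomial.C a).prod := by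
  intro n
  induction n with
  | zero =>
    intro A _ _ P hP hn
    refine ⟨A, inferInstance, inferInstance, inferInstance, inferInstance, fun _ _ h => h, 0, ?_⟩
    rw [hP.natDegree_eq_zero.1 hn]
    simp
  | succ n ih =>
    intro A _ _ P hP hn
    have hdeg : P.degree ≠ 0 := by
      rw [degree_eq_natDegree hP.ne_zero, hn]; exact_mod_cast Nat.succ_ne_zero n
    let A₁ := AdjoinRoot P
    have hinj₁ : Function.Injective (algebraMap A A₁) := by
      rw [injective_iff_map_eq_zero]
      intro x hx
      have hx' : AdjoinRoot.mk P (Polynomial.C x) = 0 := hx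
      rw [AdjoinRoot.mk_eq_zero] at hx'
      by_contra hx0
      refine hP.not_dvd_of_degree_lt (C_ne_zero.2 hx0) ?_ hx'
      rw [degree_C hx0, degree_eq_natDegree hP.ne_zero, hn]
      exact_mod_cast Nat.succ_pos n
    haveI : Nontrivial A₁ := hinj₁.nontrivial
    haveI : Module.Free A A₁ := hP.free_adjoinRoot
    haveI : Module.Finite A A₁ := hP.finite_adjoinRoot
    let Q := (P.map (algebraMap A A₁)) /ₘ (X - Polynomial.C (AdjoinRoot.root P))
    have hroot : (P.map (algebraMap A A₁)).IsRoot (AdjoinRoot.root P) := by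
      rw [IsRoot, eval_map, ← aeval_def, AdjoinRoot.aeval_eq, AdjoinRoot.mk_self]
    have hQ : (X - Polynomial.C (AdjoinRoot.root P)) * Q = P.map (algebraMap A A₁) :=
      mul_divByMonic_eq_iff_isRoot.2 hroot
    have hQm : Q.Monic := (monic_X_sub_C _).of_mul_monic_left (hQ ▸ hP.map _)
    have hQd : Q.natDegree = n := by
      have := congrArg natDegree hQ
      rw [(monic_X_sub_C _).natDegree_mul hQm, natDegree_X_sub_C,
        hP.natDegree_map (algebraMap A A₁), hn] at this
      omega
    obtain ⟨C, iC, iA₁, hfree, hfin, hinj, s, hs⟩ := ih A₁ Q hQm hQd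
    letI : Algebra A C := ((algebraMap A₁ C).comp (algebraMap A A₁)).toAlgebra
    haveI : IsScalarTower A A₁ C := IsScalarTower.of_algebraMap_eq fun _ => rfl
    refine ⟨C, iC, inferInstance, Module.Free.of_basis ((Module.Free.chooseBasis A A₁).smulTower
      (Module.Free.chooseBasis A₁ C)), Module.Finite.trans A₁ C, hinj.comp hinj₁,
      algebraMap A₁ C (AdjoinRoot.root P) ::ₘ s, ?_⟩
    rw [IsScalarTower.algebraMap_eq A A₁ C, ← Polynomial.map_map, ← hQ, Polynomial.map_mul, hs,
      Polynomial.map_sub, map_X, map_C, Multiset.map_cons, Multiset.prod_cons]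

/-- A monic polynomial splits in a finite free extension; some prime lies over any given prime. -/
theorem exists_split {A : Type u} [CommRing A] (P : A[X]) (hP : P.Monic) (p : Ideal A)
    [p.IsPrime] :
    ∃ (C : Type u) (_ : CommRing C) (_ : Algebra A C) (m : Ideal C), m.IsPrime ∧
      m.comap (algebraMap A C) = p ∧ Module.Flat A C ∧ Algebra.IsIntegral A C ∧
      ∃ s : Multiset C, P.map (algebraMap A C) = (s.map fun a => X - Polynomial.C a).prod := by
  haveI : Nontrivial A :=
    nontrivial_iff.2 ⟨0, 1, fun h => ‹p.IsPrime›.ne_top (p.eq_top_iff_one.2 (h ▸ p.zero_mem))⟩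
  obtain ⟨C, iC, iA, hfree, hfin, hinj, s, hs⟩ := exists_split_aux _ A P hP rfl
  haveI : Algebra.IsIntegral A C := Algebra.IsIntegral.of_finite A C
  obtain ⟨m, -, hm, hmp⟩ := Ideal.exists_ideal_over_prime_of_isIntegral p (⊥ : Ideal C) (by
    intro x hx
    have : x = 0 := hinj (by rw [map_zero]; exact hx)
    rw [this]; exact zero_mem p)
  exact ⟨C, iC, iA, m, hm, hmp, Module.Flat.of_free, inferInstance, s, hs⟩

end Groth.L22.SplitRing
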