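import Groth.Agent.L22.GlueVal
import Mathlib.AlgebraicGeometry.OpenImmersion
import Mathlib.RingTheory.Localization.Away.Basic
import Mathlib.RingTheory.Localization.BaseChange
import Mathlib.RingTheory.Localization.Finiteness
import Mathlib.RingTheory.Localization.Submodule
import Mathlib.Algebra.Category.Ring.Constructions

/-!
Glueing semilocal one-dimensional Noetherian subrings of a field.
-/

universe u

open CategoryTheory AlgebraicGeometry

namespace Groth.L22.Glue

variable {K : Type u} [Field K]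

theorem exists_pow_mul_mem {A : Subring K} [IsFractionRing A K] (hdim : ringKrullDim A = 1)
    {t : A} (ht : t ∈ Ideal.jacobson (⊥ : Ideal A)) (x : K) :
    ∃ N : ℕ, ∀ n, N ≤ n → (t : K) ^ n * x ∈ A := by
  obtain ⟨a, b, hb, rfl⟩ := exists_div (A := A) x
  have hrad : t ∈ (Ideal.span {b}).radical := by
    rw [Ideal.radical_eq_sInf, Submodule.mem_sInf]
    rintro P ⟨hle, hP⟩
    haveI := hP
    have hP0 : P ≠ ⊥ := fun e => hb (by
      have := hle (Ideal.mem_span_singleton_self b)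
      rw [e, Ideal.mem_bot] at this
      simp [this])
    exact Ideal.mem_sInf.1 ht ⟨bot_le, isMaximal_of_ne_bot hdim hP0⟩
  obtain ⟨N, hN⟩ := hrad
  obtain ⟨r, hr⟩ := Ideal.mem_span_singleton'.1 hN
  refine ⟨N, fun n hn => ?_⟩
  obtain ⟨d, rfl⟩ := Nat.exists_eq_add_of_le hn
  have hr' : (r : K) * b = (t : K) ^ N := congrArg Subtype.val hr
  rw [pow_add, ← hr', show (r : K) * b * (t : K) ^ d * (a / b) = r * (t : K) ^ d * a by field_simp]
  exact A.mul_mem (A.mul_mem r.2 (pow_mem t.2 d)) a.2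

/-- A finite family of subrings to be glued, with intersection `R`. -/
structure Data (K : Type u) [Field K] where
  r : ℕ
  pos : 1 ≤ r
  A : Fin r → Subring K
  R : Subring K
  mem_iff : ∀ x, x ∈ R ↔ ∀ i, x ∈ A i
  noeth : ∀ i, IsNoetherianRing (A i)
  frac : ∀ i, IsFractionRing (A i) K
  dim : ∀ i, ringKrullDim (A i) = 1
  semilocal : ∀ i, Finite (MaximalSpectrum (A i))
  gen : ∀ i j, i ≠ j → A i ⊔ A j = ⊤

namespace Data

variable (D : Data K)

attribute [local instance] Data.noeth Data.frac Data.semilocal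

theorem le (i : Fin D.r) : D.R ≤ D.A i := fun x hx => (D.mem_iff x).1 hx i

theorem exists_unit_jac (i : Fin D.r) :
    ∃ t : D.R, IsUnit (Subring.inclusion (D.le i) t) ∧
      ∀ j, j ≠ i → Subring.inclusion (D.le j) t ∈ Ideal.jacobson (⊥ : Ideal (D.A j)) := by
  classical
  have hfin := fun j => finite_over (D.dim j) (D.semilocal j)
  let T₁ := (hfin i).toFinset
  let T₂ := (Finset.univ.erase i).biUnion fun j => (hfin j).toFinset
  have hdisj : Disjoint T₁ T₂ := by
    rw [Finset.disjoint_left]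
    intro V h1 h2
    obtain ⟨j, hj, hVj⟩ := Finset.mem_biUnion.1 h2
    rw [Set.Finite.mem_toFinset] at h1 hVj
    have htop : (⊤ : Subring K) ≤ V.toSubring :=
      (D.gen i j (Finset.mem_erase.1 hj).1.symm).ge.trans (sup_le h1.2 hVj.2)
    exact h1.1 (ValuationSubring.ext _ _ fun x => ⟨fun _ => trivial, fun _ => htop trivial⟩)
  obtain ⟨z, hz1, hz2⟩ := exists_sides T₁ T₂ hdisj
    (fun V hV => isDVR_of_mem_over (D.dim i) ((hfin i).mem_toFinset.1 hV))
    (fun V hV => by
      obtain ⟨j, -, hVj⟩ := Finset.mem_biUnion.1 hV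
      exact isDVR_of_mem_over (D.dim j) ((hfin j).mem_toFinset.1 hVj))
  -- large powers in the Jacobson radical
  have key : ∀ (j : Fin D.r) (w : K), (∀ V ∈ Over (D.A j), V.valuation w < 1) →
      ∃ N : ℕ, ∀ n, N ≤ n → ∃ a : D.A j, (a : K) = w ^ n ∧
        a ∈ Ideal.jacobson (⊥ : Ideal (D.A j)) := by
    intro j w hw
    obtain ⟨c, hc, hcj⟩ := exists_jac_ne_zero (D.dim j) (D.semilocal j)
    obtain ⟨N, hN⟩ := exists_pow_mem hw hc
    refine ⟨N, fun n hn => ?_⟩
    obtain ⟨a, ha⟩ := hN n hn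
    exact ⟨c * a, ha.symm, Ideal.mul_mem_right _ _ hcj⟩
  obtain ⟨N₀, hN₀⟩ := key i z fun V hV => hz1 V ((hfin i).mem_toFinset.2 hV)
  have hzj : ∀ j, j ≠ i → ∃ N : ℕ, ∀ n, N ≤ n → ∃ a : D.A j, (a : K) = (z⁻¹) ^ n ∧
      a ∈ Ideal.jacobson (⊥ : Ideal (D.A j)) := fun j hj => key j z⁻¹ fun V hV =>
    inv_lt_one (hz2 V (Finset.mem_biUnion.2 ⟨j, Finset.mem_erase.2 ⟨hj, Finset.mem_univ j⟩,
      (hfin j).mem_toFinset.2 hV⟩))
  choose! N hN using hzj
  let n := N₀ + Finset.univ.sup N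
  obtain ⟨a, ha, haj⟩ := hN₀ n (Nat.le_add_right _ _)
  obtain ⟨u, hu⟩ : IsUnit (1 + a) := by
    have := Ideal.mem_jacobson_bot.1 haj 1
    rwa [mul_one, add_comm] at this
  have hu' : (((u : D.A i) : K)) = 1 + z ^ n := by rw [hu, ← ha]; rfl
  have ht : (((↑u⁻¹ : D.A i) : K)) = (1 + z ^ n)⁻¹ := by
    refine eq_inv_of_mul_eq_one_left ?_
    rw [← hu', ← Subring.coe_mul, Units.inv_mul, Subring.coe_one]
  have hj : ∀ j, j ≠ i → ∃ b : D.A j, (b : K) = (1 + z ^ n)⁻¹ ∧
      b ∈ Ideal.jacobson (⊥ : Ideal (D.A j)) := by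
    intro j hji
    obtain ⟨b, hb, hbj⟩ := hN j hji n
      ((Finset.le_sup (Finset.mem_univ j)).trans (Nat.le_add_left _ _))
    obtain ⟨v, hv⟩ : IsUnit (b * 1 + 1) := Ideal.mem_jacobson_bot.1 hbj 1
    refine ⟨b * ↑v⁻¹, ?_, Ideal.mul_mem_right _ _ hbj⟩
    have hv' : (((v : D.A j) : K)) = z⁻¹ ^ n + 1 := by
      rw [hv, mul_one, ← hb]; rfl
    have hvinv : (((↑v⁻¹ : D.A j) : K)) = (z⁻¹ ^ n + 1)⁻¹ := by
      refine eq_inv_of_mul_eq_one_left ?_
      rw [← hv', ← Subring.coe_mul, Units.inv_mul, Subring.coe_one]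
    obtain ⟨V, hV⟩ : (Over (D.A j)).Nonempty := by
      obtain ⟨c, hc, hcj⟩ := exists_jac_ne_zero (D.dim j) (D.semilocal j)
      have hne : Ideal.span {c} ≠ ⊤ := fun e => by
        have hcu : IsUnit c := Ideal.span_singleton_eq_top.1 e
        exact not_isUnit_zero (M₀ := D.A j) (by
          have := Ideal.mem_jacobson_bot.1 hcj (-(↑hcu.unit⁻¹))
          rwa [mul_neg, IsUnit.mul_val_inv, neg_add_cancel] at this)
      obtain ⟨V, hV, hVc⟩ := Ideal.image_subset_nonunits_valuationSubring _ hne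
      refine ⟨V, ?_, hV⟩
      rintro rfl
      have h1 : (⊤ : ValuationSubring K).valuation (c : K) < 1 :=
        (⊤ : ValuationSubring K).mem_nonunits_iff.1 (hVc ⟨c, Ideal.mem_span_singleton_self c, rfl⟩)
      have h2 : ((c : K))⁻¹ ∈ (⊤ : ValuationSubring K) := trivial
      rw [← ValuationSubring.valuation_le_one_iff, map_inv₀, inv_le_one₀ (zero_lt_iff.2
        ((map_ne_zero _).2 fun e => hc (Subtype.ext e)))] at h2
      exact absurd h2 (not_le.2 h1)
    have hz0 : z ≠ 0 := by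
      rintro rfl
      have := hz2 V (Finset.mem_biUnion.2 ⟨j, Finset.mem_erase.2 ⟨hji, Finset.mem_univ j⟩,
        (hfin j).mem_toFinset.2 hV⟩)
      simp at this
    rw [Subring.coe_mul, hb, hvinv, inv_pow]
    field_simp
  have hmem : (1 + z ^ n)⁻¹ ∈ D.R := by
    rw [D.mem_iff]
    intro j
    rcases eq_or_ne j i with rfl | hji
    · rw [← ht]; exact Subtype.prop _
    · obtain ⟨b, hb, -⟩ := hj j hji
      rw [← hb]; exact b.2
  refine ⟨⟨_, hmem⟩, ?_, fun j hji => ?_⟩
  · have : Subring.inclusion (D.le i) ⟨_, hmem⟩ = ((u⁻¹ : (D.A i)ˣ) : D.A i) :=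
      Subtype.ext ht.symm
    rw [this]
    exact Units.isUnit _
  · obtain ⟨b, hb, hbj⟩ := hj j hji
    have : Subring.inclusion (D.le j) ⟨_, hmem⟩ = b := Subtype.ext hb.symm
    rwa [this]

/-- The element cutting out the `i`-th chart. -/
noncomputable def t (i : Fin D.r) : D.R := (D.exists_unit_jac i).choose

theorem isUnit_t (i : Fin D.r) : IsUnit (Subring.inclusion (D.le i) (D.t i)) :=
  (D.exists_unit_jac i).choose_spec.1

theorem t_mem_jac {i j : Fin D.r} (h : j ≠ i) :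
    Subring.inclusion (D.le j) (D.t i) ∈ Ideal.jacobson (⊥ : Ideal (D.A j)) :=
  (D.exists_unit_jac i).choose_spec.2 j h

theorem t_ne_zero (i : Fin D.r) : ((D.t i : D.R) : K) ≠ 0 := fun h =>
  (D.isUnit_t i).ne_zero (Subtype.ext h)

theorem exists_pow_mem_R {i : Fin D.r} {z : K} (hz : z ∈ D.A i) :
    ∃ N : ℕ, ∀ n, N ≤ n → ((D.t i : D.R) : K) ^ n * z ∈ D.R := by
  classical
  have : ∀ j, ∃ N : ℕ, ∀ n, N ≤ n → ((D.t i : D.R) : K) ^ n * z ∈ D.A j := by
    intro j
    rcases eq_or_ne j i with rfl | hji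
    · exact ⟨0, fun n _ => (D.A j).mul_mem (pow_mem (D.le j (D.t j).2) n) hz⟩
    · exact Glue.exists_pow_mul_mem (D.dim j) (D.t_mem_jac hji) z
  choose N hN using this
  exact ⟨Finset.univ.sup N, fun n hn => (D.mem_iff _).2 fun j =>
    hN j n ((Finset.le_sup (Finset.mem_univ j)).trans hn)⟩

theorem isFractionRing : IsFractionRing D.R K := by
  haveI : FaithfulSMul D.R K :=
    (faithfulSMul_iff_algebraMap_injective D.R K).2 Subtype.val_injective
  refine IsFractionRing.of_field _ _ fun x => ?_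
  let i : Fin D.r := ⟨0, D.pos⟩
  obtain ⟨a, b, hb, rfl⟩ := exists_div (A := D.A i) x
  obtain ⟨N, hN⟩ := D.exists_pow_mem_R a.2
  obtain ⟨M, hM⟩ := D.exists_pow_mem_R b.2
  refine ⟨⟨_, hN (N + M) (Nat.le_add_right _ _)⟩, ⟨_, hM (N + M) (Nat.le_add_left _ _)⟩, ?_⟩
  change (a : K) / b = _ / _
  exact (mul_div_mul_left _ _ (pow_ne_zero _ (D.t_ne_zero i))).symm

theorem isLocalizationAway (i : Fin D.r) :
    @IsLocalization.Away D.R _ (D.t i) (D.A i) _ (Subring.inclusion (D.le i)).toAlgebra := by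
  letI := (Subring.inclusion (D.le i)).toAlgebra
  refine IsLocalization.Away.mk (D.t i) (D.isUnit_t i) (fun z => ?_) fun a b h => ?_
  · obtain ⟨N, hN⟩ := D.exists_pow_mem_R z.2
    refine ⟨N, ⟨_, hN N le_rfl⟩, Subtype.ext ?_⟩
    change (z : K) * ((D.t i : D.R) : K) ^ N = _ * (z : K)
    rw [mul_comm]
  · exact ⟨0, by
      have : (a : K) = b := congrArg (fun w : D.A i => (w : K)) h
      rw [Subtype.ext this]⟩

theorem isOpenImmersion (i : Fin D.r) :
    IsOpenImmersion (Spec.map (CommRingCat.ofHom (Subring.inclusion (D.le i)))) := by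
  letI := (Subring.inclusion (D.le i)).toAlgebra
  haveI := D.isLocalizationAway i
  exact IsOpenImmersion.of_isLocalization (R := D.R) (S := D.A i) (D.t i)

theorem range_eq (i : Fin D.r) :
    Set.range (Spec.map (CommRingCat.ofHom (Subring.inclusion (D.le i)))).base =
      (PrimeSpectrum.basicOpen (D.t i) : Set (PrimeSpectrum D.R)) := by
  letI := (Subring.inclusion (D.le i)).toAlgebra
  haveI := D.isLocalizationAway i
  exact PrimeSpectrum.localization_away_comap_range (D.A i) (D.t i)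

theorem isUnit_sum_t : IsUnit (∑ i, D.t i) := by
  classical
  have hu : ∀ j, IsUnit (Subring.inclusion (D.le j) (∑ i, D.t i)) := by
    intro j
    rw [map_sum, ← Finset.add_sum_erase _ _ (Finset.mem_univ j)]
    obtain ⟨u, hu⟩ := D.isUnit_t j
    rw [← hu]
    have hj : (∑ i ∈ Finset.univ.erase j, Subring.inclusion (D.le j) (D.t i)) ∈
        Ideal.jacobson (⊥ : Ideal (D.A j)) :=
      Ideal.sum_mem _ fun i hi => D.t_mem_jac (Finset.mem_erase.1 hi).1.symm
    have h1 := Ideal.mem_jacobson_bot.1 hj ↑u⁻¹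
    convert u.isUnit.mul h1 using 1
    rw [mul_add, mul_one, ← mul_assoc, mul_comm (u : D.A j), mul_assoc, Units.mul_inv, mul_one,
      add_comm]
  have hmem : ((∑ i, D.t i : D.R) : K)⁻¹ ∈ D.R := (D.mem_iff _).2 fun j => by
    obtain ⟨v, hv⟩ := hu j
    rw [show ((∑ i, D.t i : D.R) : K)⁻¹ = ((↑v⁻¹ : D.A j) : K) from (eq_inv_of_mul_eq_one_left (by
      rw [show ((∑ i, D.t i : D.R) : K) = ((v : D.A j) : K) from (congrArg Subtype.val hv).symm,
        ← Subring.coe_mul, Units.inv_mul, Subring.coe_one])).symm]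
    exact Subtype.prop _
  have hne : ((∑ i, D.t i : D.R) : K) ≠ 0 := fun h =>
    (hu ⟨0, D.pos⟩).ne_zero (Subtype.ext h)
  exact isUnit_iff_exists_inv.2 ⟨⟨_, hmem⟩, Subtype.ext (mul_inv_cancel₀ hne)⟩

theorem span_t : Ideal.span (Set.range D.t) = ⊤ :=
  Ideal.eq_top_of_isUnit_mem _
    (Ideal.sum_mem _ fun i _ => Ideal.subset_span ⟨i, rfl⟩) D.isUnit_sum_t

theorem exists_notMem (P : Ideal D.R) (hP : P ≠ ⊤) : ∃ i, D.t i ∉ P := by
  by_contra h
  push Not at h
  exact hP (top_le_iff.1 (D.span_t.ge.trans (Ideal.span_le.2 (by rintro _ ⟨i, rfl⟩; exact h i))))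

theorem iUnion_range :
    (⋃ i, Set.range (Spec.map (CommRingCat.ofHom (Subring.inclusion (D.le i)))).base) =
      Set.univ := by
  refine Set.eq_univ_of_forall fun P => ?_
  obtain ⟨i, hi⟩ := D.exists_notMem P.asIdeal P.2.ne_top
  exact Set.mem_iUnion.2 ⟨i, (D.range_eq i).symm ▸ hi⟩

theorem isNoetherianRing : IsNoetherianRing D.R := by
  refine (isNoetherianRing_iff_ideal_fg _).2 fun I => ?_
  refine Ideal.fg_of_localizationSpan (Set.range D.t) D.span_t ?_
  rintro ⟨_, i, rfl⟩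
  letI := (Subring.inclusion (D.le i)).toAlgebra
  haveI := D.isLocalizationAway i
  haveI : IsNoetherianRing (Localization.Away (D.t i)) := isNoetherianRing_of_ringEquiv (D.A i)
    (IsLocalization.algEquiv (Submonoid.powers (D.t i)) (D.A i)
      (Localization.Away (D.t i))).toRingEquiv
  exact IsNoetherian.noetherian _

theorem not_isField : ¬ IsField D.R := by
  intro h
  let i : Fin D.r := ⟨0, D.pos⟩
  refine Glue.not_isField (D.dim i) ⟨⟨0, 1, zero_ne_one⟩, mul_comm, fun {a} ha => ?_⟩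
  haveI := D.isFractionRing
  obtain ⟨x, y, hy, hxy⟩ := IsFractionRing.div_surjective D.R ((a : K)⁻¹)
  obtain ⟨w, hw⟩ := h.mul_inv_cancel (nonZeroDivisors.ne_zero hy)
  refine ⟨Subring.inclusion (D.le i) (x * w), Subtype.ext ?_⟩
  change (a : K) * ((x : K) * (w : K)) = 1
  have hw' : (y : K) * w = 1 := congrArg Subtype.val hw
  have hy0 : (y : K) ≠ 0 := left_ne_zero_of_mul (hw'.symm ▸ one_ne_zero)
  have hw'' : (w : K) = (y : K)⁻¹ := (eq_inv_of_mul_eq_one_right hw')
  rw [hw'', ← div_eq_mul_inv]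
  change (a : K) * (algebraMap D.R K x / algebraMap D.R K y) = 1
  rw [hxy, mul_inv_cancel₀ fun e => ha (Subtype.ext e)]

/-- Nonzero primes of the glued ring are maximal. -/
theorem isMaximal_of_ne_bot {P : Ideal D.R} [P.IsPrime] (hP : P ≠ ⊥) : P.IsMaximal := by
  obtain ⟨M, hM, hle⟩ := P.exists_le_maximal (Ideal.IsPrime.ne_top ‹_›)
  obtain ⟨i, hi⟩ := D.exists_notMem M hM.ne_top
  letI := (Subring.inclusion (D.le i)).toAlgebra
  haveI := D.isLocalizationAway i
  have hd : ∀ Q : Ideal D.R, Q.IsPrime → D.t i ∉ Q →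
      Disjoint (Submonoid.powers (D.t i) : Set D.R) (Q : Set D.R) := by
    intro Q hQ h
    rw [Set.disjoint_left]
    rintro _ ⟨n, rfl⟩ hn
    exact h (hQ.mem_of_pow_mem n hn)
  have hdP := hd P ‹_› fun h => hi (hle h)
  have hdM := hd M hM.isPrime hi
  haveI hP' := IsLocalization.isPrime_of_isPrime_disjoint (Submonoid.powers (D.t i)) (D.A i) P ‹_› hdP
  have hM' := IsLocalization.isPrime_of_isPrime_disjoint (Submonoid.powers (D.t i)) (D.A i) M
    hM.isPrime hdM
  have h1 := IsLocalization.under_map_of_isPrime_disjoint (Submonoid.powers (D.t i)) (D.A i)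
    (I := P) ‹_› hdP
  have h2 := IsLocalization.under_map_of_isPrime_disjoint (Submonoid.powers (D.t i)) (D.A i)
    (I := M) hM.isPrime hdM
  have hne : P.map (algebraMap D.R (D.A i)) ≠ ⊥ := by
    obtain ⟨x, hx, hx0⟩ := Submodule.exists_mem_ne_zero_of_ne_bot hP
    intro e
    have := Ideal.mem_map_of_mem (algebraMap D.R (D.A i)) hx
    rw [e, Ideal.mem_bot] at this
    exact hx0 (Subtype.ext (congrArg (fun w : D.A i => (w : K)) this))
  have hmax := Glue.isMaximal_of_ne_bot (D.dim i) hne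
  have he := hmax.eq_of_le hM'.ne_top (Ideal.map_mono hle)
  rwa [show P = M by rw [← h1, he, h2]]

theorem ringKrullDim_eq : ringKrullDim D.R = 1 := by
  refine le_antisymm ?_ ?_
  · exact_mod_cast Ring.krullDimLE_iff.1 (Ring.krullDimLE_one_iff_of_noZeroDivisors.2
      fun I hI hP => @isMaximal_of_ne_bot _ _ D I hP hI)
  · obtain ⟨M, hM⟩ := Ideal.exists_maximal D.R
    have hne : M ≠ ⊥ := fun e => D.not_isField (by
      by_contra hnf
      obtain ⟨I, hI, hI'⟩ := Ring.not_isField_iff_exists_ideal_bot_lt_and_lt_top.1 hnf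
      exact hI'.ne (hM.out.2 I (e ▸ hI)))
    haveI := hM.isPrime
    refine le_trans ?_ (Ideal.height_le_ringKrullDim_of_isPrime (I := M))
    have := Ideal.height_add_one_le_of_lt_of_isPrime (bot_lt_iff_ne_bot.2 hne)
    exact_mod_cast le_trans le_add_self this

theorem finite_maximalSpectrum : Finite (MaximalSpectrum D.R) := by
  have h : ∀ M : MaximalSpectrum D.R, ∃ p : (i : Fin D.r) × MaximalSpectrum (D.A i),
      M.asIdeal = p.2.asIdeal.comap (Subring.inclusion (D.le p.1)) := by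
    intro M
    obtain ⟨i, hi⟩ := D.exists_notMem M.asIdeal M.isMaximal.ne_top
    have : (⟨M.asIdeal, M.isMaximal.isPrime⟩ : PrimeSpectrum D.R) ∈
        Set.range (Spec.map (CommRingCat.ofHom (Subring.inclusion (D.le i)))).base := by
      rw [D.range_eq i]; exact hi
    obtain ⟨(Q : PrimeSpectrum (D.A i)), hQ⟩ := this
    have hQ' : Q.asIdeal.comap (Subring.inclusion (D.le i)) = M.asIdeal :=
      congrArg PrimeSpectrum.asIdeal hQ
    refine ⟨⟨i, ⟨Q.asIdeal, Glue.isMaximal_of_ne_bot (D.dim i) fun e => D.not_isField ?_⟩⟩, hQ'.symm⟩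
    have hM : M.asIdeal = ⊥ := by
      rw [← hQ', e]
      exact Ideal.comap_bot_of_injective _ (Subring.inclusion_injective (D.le i))
    by_contra hnf
    obtain ⟨I, hI, hI'⟩ := Ring.not_isField_iff_exists_ideal_bot_lt_and_lt_top.1 hnf
    exact hI'.ne (M.isMaximal.out.2 I (hM ▸ hI))
  choose p hp using h
  refine Finite.of_injective p fun M N e => MaximalSpectrum.ext ?_
  rw [hp M, hp N, e]

theorem existsUnique_chart (m : PrimeSpectrum D.R) (hm : m.asIdeal.IsMaximal) :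
    ∃! i, m ∈ Set.range (Spec.map (CommRingCat.ofHom (Subring.inclusion (D.le i)))).base := by
  obtain ⟨i, hi⟩ := D.exists_notMem m.asIdeal hm.ne_top
  refine ⟨i, (by dsimp only; rw [D.range_eq i]; exact hi), fun j hj => ?_⟩
  dsimp only at hj
  rw [D.range_eq] at hj
  by_contra hji
  obtain ⟨x, hx, hx0⟩ : ∃ x ∈ m.asIdeal, x ≠ 0 := by
    refine Submodule.exists_mem_ne_zero_of_ne_bot fun e => D.not_isField ?_
    by_contra hnf
    obtain ⟨I, hI, hI'⟩ := Ring.not_isField_iff_exists_ideal_bot_lt_and_lt_top.1 hnf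
    exact hI'.ne (hm.out.2 I (e ▸ hI))
  have : ∀ l, ∃ N : ℕ, ∀ n, N ≤ n →
      ((D.t i * D.t j : D.R) : K) ^ n * (x : K)⁻¹ ∈ D.A l := by
    intro l
    rcases eq_or_ne l i with rfl | hli
    · obtain ⟨N, hN⟩ := Glue.exists_pow_mul_mem (D.dim l) (D.t_mem_jac (Ne.symm hji)) (x : K)⁻¹
      refine ⟨N, fun n hn => ?_⟩
      rw [Subring.coe_mul, mul_pow, mul_assoc]
      exact (D.A l).mul_mem (pow_mem (D.le l (D.t l).2) n) (hN n hn)
    · obtain ⟨N, hN⟩ := Glue.exists_pow_mul_mem (D.dim l) (D.t_mem_jac hli) (x : K)⁻¹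
      refine ⟨N, fun n hn => ?_⟩
      rw [Subring.coe_mul, mul_pow, mul_comm (((D.t i : D.R) : K) ^ n), mul_assoc]
      exact (D.A l).mul_mem (pow_mem (D.le l (D.t j).2) n) (hN n hn)
  choose N hN using this
  have hmem : ((D.t i * D.t j : D.R) : K) ^ Finset.univ.sup N * (x : K)⁻¹ ∈ D.R :=
    (D.mem_iff _).2 fun l => hN l _ (Finset.le_sup (Finset.mem_univ l))
  have hpow : (D.t i * D.t j) ^ Finset.univ.sup N = ⟨_, hmem⟩ * x := Subtype.ext (by
    change ((D.t i * D.t j : D.R) : K) ^ Finset.univ.sup N = _ * _ * (x : K)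
    rw [mul_assoc, inv_mul_cancel₀ fun e => hx0 (Subtype.ext e), mul_one])
  exact (hm.isPrime.mem_or_mem (hm.isPrime.mem_of_pow_mem _
    (hpow ▸ Ideal.mul_mem_left _ _ hx))).elim hi hj

theorem isPushout (i j : Fin D.r) (hij : j ≠ i) :
    IsPushout (CommRingCat.ofHom (Subring.inclusion (D.le i)))
      (CommRingCat.ofHom (Subring.inclusion (D.le j)))
      (CommRingCat.ofHom (D.A i).subtype) (CommRingCat.ofHom (D.A j).subtype) := by
  letI := (Subring.inclusion (D.le i)).toAlgebra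
  letI := (Subring.inclusion (D.le j)).toAlgebra
  haveI := D.isLocalizationAway i
  haveI : IsScalarTower D.R (D.A i) K := IsScalarTower.of_algebraMap_eq' rfl
  haveI : IsScalarTower D.R (D.A j) K := IsScalarTower.of_algebraMap_eq' rfl
  haveI : IsLocalization (Algebra.algebraMapSubmonoid (D.A j) (Submonoid.powers (D.t i))) K := by
    rw [Algebra.algebraMapSubmonoid_powers]
    refine IsLocalization.Away.mk _ ?_ (fun z => ?_) fun a b h => ⟨0, ?_⟩
    · exact isUnit_iff_ne_zero.2 (D.t_ne_zero i)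
    · obtain ⟨N, hN⟩ := Glue.exists_pow_mul_mem (D.dim j) (D.t_mem_jac hij) z
      exact ⟨N, ⟨_, hN N le_rfl⟩, mul_comm _ _⟩
    · rw [Subtype.ext (h : (a : K) = b)]
  have h : Algebra.IsPushout D.R (D.A j) (D.A i) K :=
    Algebra.isPushout_of_isLocalization (A := D.A i) (Submonoid.powers (D.t i)) (D.A j) K
  exact CommRingCat.isPushout_iff_isPushout.2 h.symm

end Data

end Groth.L22.Glue
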