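import Groth.Prelude.Def_CycAlg
import Mathlib.RingTheory.Length
import Mathlib.LinearAlgebra.Isomorphisms
import Mathlib.Algebra.Exact.Basic
import Mathlib.Data.ENat.Basic
import Mathlib.Tactic.Linarith
import Mathlib.Tactic.Abel
import Mathlib.Tactic.Ring

/-!
Length bookkeeping for periodic complexes and additive Herbrand quotients.
-/

universe u v w

namespace Groth.L22

open CycAlg

variable {R : Type u} [CommRing R]

section General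

variable {A B C D E F : Type v}
  [AddCommGroup A] [Module R A] [AddCommGroup B] [Module R B] [AddCommGroup C] [Module R C]
  [AddCommGroup D] [Module R D] [AddCommGroup E] [Module R E] [AddCommGroup F] [Module R F]

theorem length_eq_ker_add_range (f : A →ₗ[R] B) :
    Module.length R A = Module.length R (LinearMap.ker f) + Module.length R (LinearMap.range f) :=
  Module.length_eq_add_of_exact (LinearMap.ker f).subtype f.rangeRestrict
    (Submodule.injective_subtype _) (LinearMap.surjective_rangeRestrict f)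
    (LinearMap.exact_iff.2 (by simp [LinearMap.ker_rangeRestrict]))

theorem length_eq_range_add_range {f : A →ₗ[R] B} {g : B →ₗ[R] C} (h : Function.Exact f g) :
    Module.length R B = Module.length R (LinearMap.range f) + Module.length R (LinearMap.range g) := by
  rw [length_eq_ker_add_range g, LinearMap.exact_iff.1 h]

theorem length_le_add_of_exact {f : A →ₗ[R] B} {g : B →ₗ[R] C} (h : Function.Exact f g) :
    Module.length R B ≤ Module.length R A + Module.length R C := by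
  rw [length_eq_range_add_range h]
  exact add_le_add (Module.length_le_of_surjective f.rangeRestrict f.surjective_rangeRestrict)
    (Module.length_le_of_injective (LinearMap.range g).subtype (Submodule.injective_subtype _))

theorem length_lt_top_of_exact {f : A →ₗ[R] B} {g : B →ₗ[R] C} (h : Function.Exact f g)
    (hA : Module.length R A < ⊤) (hC : Module.length R C < ⊤) : Module.length R B < ⊤ :=
  lt_of_le_of_lt (length_le_add_of_exact h) (WithTop.add_lt_top.2 ⟨hA, hC⟩)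

/-- In an exact hexagon the two alternate sums of lengths agree. -/
theorem length_hexagon (a : A →ₗ[R] B) (b : B →ₗ[R] C) (c : C →ₗ[R] D) (d : D →ₗ[R] E)
    (e : E →ₗ[R] F) (f : F →ₗ[R] A) (hB : Function.Exact a b) (hC : Function.Exact b c)
    (hD : Function.Exact c d) (hE : Function.Exact d e) (hF : Function.Exact e f)
    (hA : Function.Exact f a) :
    Module.length R A + Module.length R C + Module.length R E =
      Module.length R B + Module.length R D + Module.length R F := by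
  rw [length_eq_range_add_range hA, length_eq_range_add_range hB, length_eq_range_add_range hC,
    length_eq_range_add_range hD, length_eq_range_add_range hE, length_eq_range_add_range hF]
  ac_rfl

theorem length_surjections_eq {S : Type v} [AddCommGroup S] [Module R S] (p : S →ₗ[R] A)
    (q : S →ₗ[R] B) (hp : Function.Surjective p) (hq : Function.Surjective q)
    (h : LinearMap.ker p = LinearMap.ker q) : Nonempty (A ≃ₗ[R] B) :=
  ⟨(p.quotKerEquivOfSurjective hp).symm.trans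
    ((Submodule.quotEquivOfEq _ _ h).trans (q.quotKerEquivOfSurjective hq))⟩

end General

theorem toNat_hexagon {a b c d e f : ℕ∞} (h : a + c + e = b + d + f) (ha : a < ⊤) (hb : b < ⊤)
    (hc : c < ⊤) (hd : d < ⊤) (he : e < ⊤) (hf : f < ⊤) :
    (a.toNat : ℤ) + c.toNat + e.toNat = b.toNat + d.toNat + f.toNat := by
  lift a to ℕ using ha.ne
  lift b to ℕ using hb.ne
  lift c to ℕ using hc.ne
  lift d to ℕ using hd.ne
  lift e to ℕ using he.ne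
  lift f to ℕ using hf.ne
  simp only [ENat.toNat_natCast]
  exact_mod_cast h

section PerH

variable {M N M' N' M'' N'' : Type v} [AddCommGroup M] [Module R M] [AddCommGroup N] [Module R N]
  [AddCommGroup M'] [Module R M'] [AddCommGroup N'] [Module R N']
  [AddCommGroup M''] [Module R M''] [AddCommGroup N''] [Module R N'']
  {φ : M →ₗ[R] N} {ψ : N →ₗ[R] M} {φ' : M' →ₗ[R] N'} {ψ' : N' →ₗ[R] M'}
  {φ'' : M'' →ₗ[R] N''} {ψ'' : N'' →ₗ[R] M''}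

/-- The class in the cohomology of a cocycle. -/
def hmk (φ : M →ₗ[R] N) (ψ : N →ₗ[R] M) : LinearMap.ker φ →ₗ[R] perH φ ψ :=
  ((LinearMap.range ψ).submoduleOf (LinearMap.ker φ)).mkQ

theorem hmk_surjective : Function.Surjective (hmk φ ψ) := Submodule.mkQ_surjective _

theorem hmk_eq_zero {x : LinearMap.ker φ} : hmk φ ψ x = 0 ↔ (x : M) ∈ LinearMap.range ψ := by
  rw [hmk, Submodule.mkQ_apply, Submodule.Quotient.mk_eq_zero]
  rfl

theorem hmk_eq_hmk {x y : LinearMap.ker φ} :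
    hmk φ ψ x = hmk φ ψ y ↔ (x : M) - y ∈ LinearMap.range ψ := by
  rw [← sub_eq_zero, ← map_sub, hmk_eq_zero]; rfl

/-- The map on cohomology induced by `u`, which carries cocycles to cocycles and boundaries to
boundaries. -/
def hmap (φ : M →ₗ[R] N) (ψ : N →ₗ[R] M) (φ' : M' →ₗ[R] N') (ψ' : N' →ₗ[R] M') (u : M →ₗ[R] M')
    (hk : ∀ x, φ x = 0 → φ' (u x) = 0) (hr : ∀ y, u (ψ y) ∈ LinearMap.range ψ') :
    perH φ ψ →ₗ[R] perH φ' ψ' :=
  Submodule.liftQ _ ((hmk φ' ψ').comp (u.restrict (fun x hx => hk x hx))) (by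
    rintro ⟨x, hx⟩ hxr
    obtain ⟨y, rfl⟩ : x ∈ LinearMap.range ψ := hxr
    exact hmk_eq_zero.2 (hr y))

theorem hmap_hmk (u : M →ₗ[R] M') (hk : ∀ x, φ x = 0 → φ' (u x) = 0)
    (hr : ∀ y, u (ψ y) ∈ LinearMap.range ψ') (x : LinearMap.ker φ) :
    hmap φ ψ φ' ψ' u hk hr (hmk φ ψ x) = hmk φ' ψ' ⟨u x, hk x x.2⟩ := rfl

theorem hmap_exact (u : M →ₗ[R] M') (v : M' →ₗ[R] M'')
    (hk : ∀ x, φ x = 0 → φ' (u x) = 0) (hr : ∀ y, u (ψ y) ∈ LinearMap.range ψ')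
    (hk' : ∀ x, φ' x = 0 → φ'' (v x) = 0) (hr' : ∀ y, v (ψ' y) ∈ LinearMap.range ψ'')
    (h0 : ∀ x, φ x = 0 → v (u x) ∈ LinearMap.range ψ'')
    (hex : ∀ x, φ' x = 0 → v x ∈ LinearMap.range ψ'' →
      ∃ y, φ y = 0 ∧ x - u y ∈ LinearMap.range ψ') :
    Function.Exact (hmap φ ψ φ' ψ' u hk hr) (hmap φ' ψ' φ'' ψ'' v hk' hr') := by
  intro z
  obtain ⟨x, rfl⟩ := hmk_surjective z
  constructor
  · intro h
    rw [hmap_hmk, hmk_eq_zero] at h
    obtain ⟨y, hy, hy'⟩ := hex x x.2 h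
    refine ⟨hmk φ ψ ⟨y, hy⟩, ?_⟩
    rw [hmap_hmk, hmk_eq_hmk, ← neg_mem_iff, neg_sub]
    exact hy'
  · rintro ⟨w, hw⟩
    obtain ⟨y, rfl⟩ := hmk_surjective w
    rw [← hw, hmap_hmk, hmap_hmk, hmk_eq_zero]
    exact h0 y y.2

/-- `length (ker φ) = length (perH φ ψ) + length (range ψ)` when `φ ∘ ψ = 0`. -/
theorem length_ker_eq (h : φ ∘ₗ ψ = 0) :
    Module.length R (LinearMap.ker φ) =
      Module.length R (perH φ ψ) + Module.length R (LinearMap.range ψ) := by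
  have hle : LinearMap.range ψ ≤ LinearMap.ker φ := by
    rintro _ ⟨y, rfl⟩
    exact LinearMap.congr_fun h y
  rw [Module.length_eq_add_of_exact ((LinearMap.range ψ).submoduleOf (LinearMap.ker φ)).subtype
    (hmk φ ψ) (Submodule.injective_subtype _) hmk_surjective (LinearMap.exact_subtype_mkQ _),
    (Submodule.submoduleOfEquivOfLe hle).length_eq, add_comm]

theorem herbrand_swap (φ : M →ₗ[R] N) (ψ : N →ₗ[R] M) : herbrand R φ ψ = - herbrand R ψ φ := by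
  simp [herbrand]

theorem herbrand_eq_length_sub_length (h : IsPeriodic φ ψ) (hM : Module.length R M < ⊤)
    (hN : Module.length R N < ⊤) : FinCoh R φ ψ ∧
      herbrand R φ ψ = ((Module.length R M).toNat : ℤ) - ((Module.length R N).toNat : ℤ) := by
  have hM' := length_eq_ker_add_range φ
  rw [length_ker_eq h.1] at hM'
  have hN' := length_eq_ker_add_range ψ
  rw [length_ker_eq h.2] at hN'
  have key : Module.length R M + Module.length R (perH ψ φ) + 0 =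
      Module.length R N + Module.length R (perH φ ψ) + 0 := by
    rw [hM', hN']; ac_rfl
  have h1 : Module.length R (perH φ ψ) < ⊤ := by
    rw [hM'] at hM
    exact (WithTop.add_lt_top.1 (WithTop.add_lt_top.1 hM).1).1
  have h2 : Module.length R (perH ψ φ) < ⊤ := by
    rw [hN'] at hN
    exact (WithTop.add_lt_top.1 (WithTop.add_lt_top.1 hN).1).1
  refine ⟨⟨h1, h2⟩, ?_⟩
  have := toNat_hexagon key hM hN h2 h1 (by simp) (by simp)
  unfold herbrand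
  linarith

end PerH

section ShortExact

variable {M₁ N₁ M₂ N₂ M₃ N₃ : Type v} [AddCommGroup M₁] [Module R M₁] [AddCommGroup N₁]
  [Module R N₁] [AddCommGroup M₂] [Module R M₂] [AddCommGroup N₂] [Module R N₂]
  [AddCommGroup M₃] [Module R M₃] [AddCommGroup N₃] [Module R N₃]

/-- The six-term exact hexagon: existence of one connecting map. -/
theorem exists_connecting (φ₁ : M₁ →ₗ[R] N₁) (ψ₁ : N₁ →ₗ[R] M₁) (φ₂ : M₂ →ₗ[R] N₂)
    (ψ₂ : N₂ →ₗ[R] M₂) (φ₃ : M₃ →ₗ[R] N₃) (ψ₃ : N₃ →ₗ[R] M₃) (h₂ : IsPeriodic φ₂ ψ₂)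
    (f₁ : M₁ →ₗ[R] M₂) (g₁ : N₁ →ₗ[R] N₂) (f₂ : M₂ →ₗ[R] M₃) (g₂ : N₂ →ₗ[R] N₃)
    (cφ₁ : ∀ x, φ₂ (f₁ x) = g₁ (φ₁ x)) (cψ₁ : ∀ y, ψ₂ (g₁ y) = f₁ (ψ₁ y))
    (cφ₂ : ∀ x, φ₃ (f₂ x) = g₂ (φ₂ x)) (cψ₂ : ∀ y, ψ₃ (g₂ y) = f₂ (ψ₂ y))
    (hf₁ : Function.Injective f₁) (hg₁ : Function.Injective g₁) (hf₂ : Function.Surjective f₂)
    (hg₂ : Function.Surjective g₂) (hM : LinearMap.range f₁ = LinearMap.ker f₂)
    (hN : LinearMap.range g₁ = LinearMap.ker g₂)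
    (hkM : ∀ x, φ₂ x = 0 → φ₃ (f₂ x) = 0) (hrM : ∀ y, f₂ (ψ₂ y) ∈ LinearMap.range ψ₃)
    (hkN : ∀ y, ψ₁ y = 0 → ψ₂ (g₁ y) = 0) (hrN : ∀ x, g₁ (φ₁ x) ∈ LinearMap.range φ₂) :
    ∃ δ : perH φ₃ ψ₃ →ₗ[R] perH ψ₁ φ₁,
      Function.Exact (hmap φ₂ ψ₂ φ₃ ψ₃ f₂ hkM hrM) δ ∧
      Function.Exact δ (hmap ψ₁ φ₁ ψ₂ φ₂ g₁ hkN hrN) := by
  set a := hmap φ₂ ψ₂ φ₃ ψ₃ f₂ hkM hrM with ha
  set b := hmap ψ₁ φ₁ ψ₂ φ₂ g₁ hkN hrN with hb
  set S := LinearMap.ker (g₂ ∘ₗ φ₂) with hS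
  have hS1 : ∀ x : S, φ₂ (x : M₂) ∈ LinearMap.range g₁ := fun x => by
    rw [hN]; exact x.2
  have hS3 : ∀ x : S, f₂ (x : M₂) ∈ LinearMap.ker φ₃ := fun x => by
    rw [LinearMap.mem_ker, cφ₂]; exact x.2
  let l : S →ₗ[R] N₁ := (LinearEquiv.ofInjective g₁ hg₁).symm.toLinearMap ∘ₗ
    LinearMap.codRestrict (LinearMap.range g₁) (φ₂ ∘ₗ S.subtype) hS1
  have hl : ∀ x : S, g₁ (l x) = φ₂ (x : M₂) := fun x => by
    have h := LinearEquiv.apply_symm_apply (LinearEquiv.ofInjective g₁ hg₁)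
      (⟨φ₂ (x : M₂), hS1 x⟩ : LinearMap.range g₁)
    exact congrArg Subtype.val h
  have hlk : ∀ x : S, l x ∈ LinearMap.ker ψ₁ := fun x => by
    rw [LinearMap.mem_ker]
    apply hf₁
    rw [← cψ₁, hl, map_zero]
    exact LinearMap.congr_fun h₂.2 _
  have hqk : ∀ x : S, hmk ψ₁ φ₁ ⟨l x, hlk x⟩ ∈ LinearMap.ker b := fun x => by
    rw [LinearMap.mem_ker, hb, hmap_hmk, hmk_eq_zero]
    exact ⟨x, (hl x).symm⟩
  let p : S →ₗ[R] perH φ₃ ψ₃ ⧸ LinearMap.range a :=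
    (LinearMap.range a).mkQ ∘ₗ hmk φ₃ ψ₃ ∘ₗ
      LinearMap.codRestrict (LinearMap.ker φ₃) (f₂ ∘ₗ S.subtype) hS3
  let q : S →ₗ[R] LinearMap.ker b :=
    LinearMap.codRestrict (LinearMap.ker b)
      (hmk ψ₁ φ₁ ∘ₗ LinearMap.codRestrict (LinearMap.ker ψ₁) l hlk) hqk
  have hp : Function.Surjective p := by
    intro z
    obtain ⟨z, rfl⟩ := (LinearMap.range a).mkQ_surjective z
    obtain ⟨⟨x, hx⟩, rfl⟩ := hmk_surjective z
    obtain ⟨x, rfl⟩ := hf₂ x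
    refine ⟨⟨x, ?_⟩, rfl⟩
    rw [hS, LinearMap.mem_ker, LinearMap.comp_apply, ← cφ₂]
    exact hx
  have hq : Function.Surjective q := by
    rintro ⟨z, hz⟩
    obtain ⟨⟨y, hy⟩, rfl⟩ := hmk_surjective z
    rw [LinearMap.mem_ker, hb, hmap_hmk, hmk_eq_zero] at hz
    obtain ⟨x, hx⟩ := hz
    have hxS : x ∈ S := by
      rw [hS, LinearMap.mem_ker, LinearMap.comp_apply, hx, ← LinearMap.mem_ker, ← hN]
      exact ⟨y, rfl⟩
    refine ⟨⟨x, hxS⟩, Subtype.ext ?_⟩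
    refine congrArg (hmk ψ₁ φ₁) (Subtype.ext (hg₁ ?_))
    exact (hl _).trans hx
  have hker : LinearMap.ker p = LinearMap.ker q := by
    ext x
    have e1 : x ∈ LinearMap.ker p ↔ hmk φ₃ ψ₃ ⟨f₂ (x : M₂), hS3 x⟩ ∈ LinearMap.range a := by
      rw [LinearMap.mem_ker]
      exact Submodule.Quotient.mk_eq_zero _
    have e2 : x ∈ LinearMap.ker q ↔ l x ∈ LinearMap.range φ₁ := by
      rw [LinearMap.mem_ker, ← Subtype.coe_inj]
      exact hmk_eq_zero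
    rw [e1, e2]
    constructor
    · rintro ⟨z, hz⟩
      obtain ⟨⟨t, ht⟩, rfl⟩ := hmk_surjective z
      rw [ha, hmap_hmk, hmk_eq_hmk] at hz
      obtain ⟨w, hw⟩ := hz
      obtain ⟨w, rfl⟩ := hg₂ w
      rw [cψ₂] at hw
      have : (x : M₂) - t + ψ₂ w ∈ LinearMap.range f₁ := by
        rw [hM, LinearMap.mem_ker, map_add, map_sub, hw]; abel
      obtain ⟨m, hm⟩ := this
      refine ⟨m, hg₁ ?_⟩
      rw [hl, ← cφ₁, hm, map_add, map_sub, LinearMap.mem_ker.1 ht, sub_zero]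
      rw [show φ₂ (ψ₂ w) = 0 from LinearMap.congr_fun h₂.1 w, add_zero]
    · rintro ⟨m, hm⟩
      have ht : φ₂ ((x : M₂) - f₁ m) = 0 := by
        rw [map_sub, cφ₁, hm, hl, sub_self]
      refine ⟨hmk φ₂ ψ₂ ⟨(x : M₂) - f₁ m, ht⟩, ?_⟩
      rw [ha, hmap_hmk]
      refine congrArg _ (Subtype.ext ?_)
      change f₂ ((x : M₂) - f₁ m) = f₂ (x : M₂)
      have : f₁ m ∈ LinearMap.ker f₂ := hM ▸ ⟨m, rfl⟩
      rw [map_sub, LinearMap.mem_ker.1 this, sub_zero]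
  obtain ⟨e⟩ := length_surjections_eq p q hp hq hker
  refine ⟨(LinearMap.ker b).subtype ∘ₗ e.toLinearMap ∘ₗ (LinearMap.range a).mkQ, ?_, ?_⟩
  · rw [LinearMap.exact_iff]
    ext z
    simp
  · rw [LinearMap.exact_iff]
    ext z
    constructor
    · intro hz
      obtain ⟨w, hw⟩ := (LinearMap.range a).mkQ_surjective (e.symm ⟨z, hz⟩)
      refine ⟨w, ?_⟩
      simp [LinearMap.comp_apply, hw]
    · rintro ⟨w, rfl⟩
      exact (e ((LinearMap.range a).mkQ w)).2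

theorem herbrand_shortExact (φ₁ : M₁ →ₗ[R] N₁) (ψ₁ : N₁ →ₗ[R] M₁) (φ₂ : M₂ →ₗ[R] N₂)
    (ψ₂ : N₂ →ₗ[R] M₂) (φ₃ : M₃ →ₗ[R] N₃) (ψ₃ : N₃ →ₗ[R] M₃) (h₂ : IsPeriodic φ₂ ψ₂)
    (f₁ : M₁ →ₗ[R] M₂) (g₁ : N₁ →ₗ[R] N₂) (f₂ : M₂ →ₗ[R] M₃) (g₂ : N₂ →ₗ[R] N₃)
    (cφ₁ : φ₂ ∘ₗ f₁ = g₁ ∘ₗ φ₁) (cψ₁ : ψ₂ ∘ₗ g₁ = f₁ ∘ₗ ψ₁)
    (cφ₂ : φ₃ ∘ₗ f₂ = g₂ ∘ₗ φ₂) (cψ₂ : ψ₃ ∘ₗ g₂ = f₂ ∘ₗ ψ₂)
    (hf₁ : Function.Injective f₁) (hg₁ : Function.Injective g₁) (hf₂ : Function.Surjective f₂)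
    (hg₂ : Function.Surjective g₂) (hM : LinearMap.range f₁ = LinearMap.ker f₂)
    (hN : LinearMap.range g₁ = LinearMap.ker g₂)
    (htwo : (FinCoh R φ₁ ψ₁ ∧ FinCoh R φ₂ ψ₂) ∨ (FinCoh R φ₁ ψ₁ ∧ FinCoh R φ₃ ψ₃) ∨
      (FinCoh R φ₂ ψ₂ ∧ FinCoh R φ₃ ψ₃)) :
    FinCoh R φ₁ ψ₁ ∧ FinCoh R φ₂ ψ₂ ∧ FinCoh R φ₃ ψ₃ ∧
      herbrand R φ₂ ψ₂ = herbrand R φ₁ ψ₁ + herbrand R φ₃ ψ₃ := by
  have c1 := LinearMap.congr_fun cφ₁
  have d1 := LinearMap.congr_fun cψ₁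
  have c2 := LinearMap.congr_fun cφ₂
  have d2 := LinearMap.congr_fun cψ₂
  simp only [LinearMap.comp_apply] at c1 d1 c2 d2
  have hk1 : ∀ x, φ₁ x = 0 → φ₂ (f₁ x) = 0 := fun x hx => by rw [c1, hx, map_zero]
  have hr1 : ∀ y, f₁ (ψ₁ y) ∈ LinearMap.range ψ₂ := fun y => ⟨g₁ y, d1 y⟩
  have hk2 : ∀ x, φ₂ x = 0 → φ₃ (f₂ x) = 0 := fun x hx => by rw [c2, hx, map_zero]
  have hr2 : ∀ y, f₂ (ψ₂ y) ∈ LinearMap.range ψ₃ := fun y => ⟨g₂ y, d2 y⟩
  have hk1' : ∀ x, ψ₁ x = 0 → ψ₂ (g₁ x) = 0 := fun x hx => by rw [d1, hx, map_zero]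
  have hr1' : ∀ y, g₁ (φ₁ y) ∈ LinearMap.range φ₂ := fun y => ⟨f₁ y, c1 y⟩
  have hk2' : ∀ x, ψ₂ x = 0 → ψ₃ (g₂ x) = 0 := fun x hx => by rw [d2, hx, map_zero]
  have hr2' : ∀ y, g₂ (φ₂ y) ∈ LinearMap.range φ₃ := fun y => ⟨f₂ y, c2 y⟩
  obtain ⟨δ, hδ1, hδ2⟩ := exists_connecting φ₁ ψ₁ φ₂ ψ₂ φ₃ ψ₃ h₂ f₁ g₁ f₂ g₂ c1 d1 c2 d2
    hf₁ hg₁ hf₂ hg₂ hM hN hk2 hr2 hk1' hr1'
  obtain ⟨ε, hε1, hε2⟩ := exists_connecting ψ₁ φ₁ ψ₂ φ₂ ψ₃ φ₃ ⟨h₂.2, h₂.1⟩ g₁ f₁ g₂ f₂ d1 c1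
    d2 c2 hg₁ hf₁ hg₂ hf₂ hN hM hk2' hr2' hk1 hr1
  have e1 : Function.Exact (hmap φ₁ ψ₁ φ₂ ψ₂ f₁ hk1 hr1) (hmap φ₂ ψ₂ φ₃ ψ₃ f₂ hk2 hr2) := by
    apply hmap_exact
    · intro x _
      have : f₁ x ∈ LinearMap.ker f₂ := hM ▸ ⟨x, rfl⟩
      rw [LinearMap.mem_ker.1 this]; exact zero_mem _
    · rintro x hx ⟨w, hw⟩
      obtain ⟨w, rfl⟩ := hg₂ w
      rw [d2] at hw
      have : x - ψ₂ w ∈ LinearMap.range f₁ := by
        rw [hM, LinearMap.mem_ker, map_sub, hw, sub_self]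
      obtain ⟨m, hm⟩ := this
      refine ⟨m, hg₁ ?_, w, by rw [hm]; abel⟩
      rw [← c1, hm, map_sub, hx, show φ₂ (ψ₂ w) = 0 from LinearMap.congr_fun h₂.1 w, map_zero,
        sub_zero]
  have e2 : Function.Exact (hmap ψ₁ φ₁ ψ₂ φ₂ g₁ hk1' hr1') (hmap ψ₂ φ₂ ψ₃ φ₃ g₂ hk2' hr2') := by
    apply hmap_exact
    · intro x _
      have : g₁ x ∈ LinearMap.ker g₂ := hN ▸ ⟨x, rfl⟩
      rw [LinearMap.mem_ker.1 this]; exact zero_mem _
    · rintro x hx ⟨w, hw⟩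
      obtain ⟨w, rfl⟩ := hf₂ w
      rw [c2] at hw
      have : x - φ₂ w ∈ LinearMap.range g₁ := by
        rw [hN, LinearMap.mem_ker, map_sub, hw, sub_self]
      obtain ⟨m, hm⟩ := this
      refine ⟨m, hf₁ ?_, w, by rw [hm]; abel⟩
      rw [← d1, hm, map_sub, hx, show ψ₂ (φ₂ w) = 0 from LinearMap.congr_fun h₂.2 w, map_zero,
        sub_zero]
  have key := length_hexagon _ _ _ _ _ _ e1 hδ1 hδ2 e2 hε1 hε2
  have fin : FinCoh R φ₁ ψ₁ ∧ FinCoh R φ₂ ψ₂ ∧ FinCoh R φ₃ ψ₃ := by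
    rcases htwo with ⟨a, b⟩ | ⟨a, b⟩ | ⟨a, b⟩
    · exact ⟨a, b, length_lt_top_of_exact hδ1 b.1 a.2, length_lt_top_of_exact hε1 b.2 a.1⟩
    · exact ⟨a, ⟨length_lt_top_of_exact e1 a.1 b.1, length_lt_top_of_exact e2 a.2 b.2⟩, b⟩
    · exact ⟨⟨length_lt_top_of_exact hε2 b.2 a.1, length_lt_top_of_exact hδ2 b.1 a.2⟩, a, b⟩
  obtain ⟨⟨a1, a2⟩, ⟨b1, b2⟩, ⟨c1', c2'⟩⟩ := fin
  refine ⟨⟨a1, a2⟩, ⟨b1, b2⟩, ⟨c1', c2'⟩, ?_⟩
  have := toNat_hexagon key a1 b1 c1' a2 b2 c2'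
  unfold herbrand
  linarith

end ShortExact

section Endo

variable {M : Type v} [AddCommGroup M] [Module R M]

/-- `α ∘ β ∘ γ = 0` and cyclic permutations give the exact hexagon
`e(αβ, γ) = e(α, βγ) + e(β, γα)`. -/
theorem herbrand_comp (α β γ : Module.End R M) (h1 : α * β * γ = 0)
    (hab : α * β = β * α) (hbc : β * γ = γ * β) (hac : α * γ = γ * α)
    (fa : FinCoh R α (β * γ)) (fb : FinCoh R β (γ * α)) :
    FinCoh R (α * β) γ ∧
      herbrand R (α * β) γ = herbrand R α (β * γ) + herbrand R β (γ * α) := by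
  have h2 : β * γ * α = 0 := by rw [mul_assoc, ← hac, ← mul_assoc, ← hab, h1]
  have h3 : γ * α * β = 0 := by rw [mul_assoc, hab, ← mul_assoc, ← hbc, h2]
  have c : ∀ {p q : Module.End R M}, p * q = q * p → ∀ x, p (q x) = q (p x) :=
    fun h x => LinearMap.congr_fun h x
  have z : ∀ {p q r : Module.End R M}, p * q * r = 0 → ∀ x, p (q (r x)) = 0 :=
    fun h x => LinearMap.congr_fun h x
  -- kerβ/imγα → kerαβ/imγ → kerα/imβγ → kerγα/imβ → kerγ/imαβ → kerβγ/imα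
  have i1k : ∀ x, β x = 0 → (α * β) (LinearMap.id (R := R) x) = 0 := fun x hx => by
    simp [hx]
  have i1r : ∀ y, LinearMap.id (R := R) ((γ * α) y) ∈ LinearMap.range γ := fun y => ⟨α y, rfl⟩
  have b1k : ∀ x, (α * β) x = 0 → α (β x) = 0 := fun x hx => hx
  have b1r : ∀ y, β (γ y) ∈ LinearMap.range (β * γ) := fun y => ⟨y, rfl⟩
  have i2k : ∀ x, α x = 0 → (γ * α) (LinearMap.id (R := R) x) = 0 := fun x hx => by
    simp [hx]
  have i2r : ∀ y, LinearMap.id (R := R) ((β * γ) y) ∈ LinearMap.range β := fun y => ⟨γ y, rfl⟩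
  have b2k : ∀ x, (γ * α) x = 0 → γ (α x) = 0 := fun x hx => hx
  have b2r : ∀ y, α (β y) ∈ LinearMap.range (α * β) := fun y => ⟨y, rfl⟩
  have i3k : ∀ x, γ x = 0 → (β * γ) (LinearMap.id (R := R) x) = 0 := fun x hx => by
    simp [hx]
  have i3r : ∀ y, LinearMap.id (R := R) ((α * β) y) ∈ LinearMap.range α := fun y => ⟨β y, rfl⟩
  have b3k : ∀ x, (β * γ) x = 0 → β (γ x) = 0 := fun x hx => hx
  have b3r : ∀ y, γ (α y) ∈ LinearMap.range (γ * α) := fun y => ⟨y, rfl⟩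
  have E1 : Function.Exact (hmap β (γ * α) (α * β) γ LinearMap.id i1k i1r)
      (hmap (α * β) γ α (β * γ) β b1k b1r) := by
    apply hmap_exact
    · intro x hx; simp [hx]
    · rintro x - ⟨w, hw⟩
      exact ⟨x - γ w, by rw [map_sub, ← hw]; exact sub_self _, w, by simp⟩
  have E2 : Function.Exact (hmap (α * β) γ α (β * γ) β b1k b1r)
      (hmap α (β * γ) (γ * α) β LinearMap.id i2k i2r) := by
    apply hmap_exact
    · intro x _; exact ⟨x, rfl⟩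
    · rintro x hx ⟨w, hw⟩
      exact ⟨w, by change α (β w) = 0; rw [hw]; exact hx, by rw [hw]; simp⟩
  have E3 : Function.Exact (hmap α (β * γ) (γ * α) β LinearMap.id i2k i2r)
      (hmap (γ * α) β γ (α * β) α b2k b2r) := by
    apply hmap_exact
    · intro x hx; simp [hx]
    · rintro x - ⟨w, hw⟩
      exact ⟨x - β w, by rw [map_sub, ← hw]; exact sub_self _, w, by simp⟩
  have E4 : Function.Exact (hmap (γ * α) β γ (α * β) α b2k b2r)
      (hmap γ (α * β) (β * γ) α LinearMap.id i3k i3r) := by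
    apply hmap_exact
    · intro x _; exact ⟨x, rfl⟩
    · rintro x hx ⟨w, hw⟩
      exact ⟨w, by change γ (α w) = 0; rw [hw]; exact hx, by rw [hw]; simp⟩
  have E5 : Function.Exact (hmap γ (α * β) (β * γ) α LinearMap.id i3k i3r)
      (hmap (β * γ) α β (γ * α) γ b3k b3r) := by
    apply hmap_exact
    · intro x hx; simp [hx]
    · rintro x - ⟨w, hw⟩
      exact ⟨x - α w, by rw [map_sub, ← hw]; exact sub_self _, w, by simp⟩
  have E6 : Function.Exact (hmap (β * γ) α β (γ * α) γ b3k b3r)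
      (hmap β (γ * α) (α * β) γ LinearMap.id i1k i1r) := by
    apply hmap_exact
    · intro x _; exact ⟨x, rfl⟩
    · rintro x hx ⟨w, hw⟩
      exact ⟨w, by change β (γ w) = 0; rw [hw]; exact hx, by rw [hw]; simp⟩
  have key := length_hexagon _ _ _ _ _ _ E1 E2 E3 E4 E5 E6
  have g1 : Module.length R (perH (α * β) γ) < ⊤ := length_lt_top_of_exact E1 fb.1 fa.1
  have g2 : Module.length R (perH γ (α * β)) < ⊤ := length_lt_top_of_exact E4 fb.2 fa.2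
  refine ⟨⟨g1, g2⟩, ?_⟩
  have := toNat_hexagon key fb.1 g1 fa.1 fb.2 g2 fa.2
  unfold herbrand
  linarith

end Endo

end Groth.L22
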