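import Groth.Agent.L22.AffineDim
import Mathlib.RingTheory.Jacobson.Ring
import Mathlib.RingTheory.Ideal.KrullsHeightTheorem
import Mathlib.FieldTheory.IsAlgClosed.Basic
import Mathlib.LinearAlgebra.FiniteDimensional.Basic

/-!
Hopf's inequality for nonsingular bilinear maps over an algebraically closed field.
-/

set_option autoImplicit false
set_option linter.style.haveILetI false
universe u

open MvPolynomial Module

noncomputable section

namespace Groth.L22.HopfBilinear

variable (k : Type u) [Field k] (m n : ℕ)

/-- The parametrisation of rank one matrices. -/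
def par : MvPolynomial (Fin (m + 1) × Fin (n + 1)) k →ₐ[k]
    MvPolynomial (Fin (m + 1) ⊕ Fin (n + 1)) k :=
  aeval fun p => X (Sum.inl p.1) * X (Sum.inr p.2)

/-- The coordinate ring of rank one matrices. -/
abbrev SegRing : Type u :=
  MvPolynomial (Fin (m + 1) × Fin (n + 1)) k ⧸ RingHom.ker (par k m n)

instance : IsDomain (SegRing k m n) :=
  have : (RingHom.ker (par k m n)).IsPrime := RingHom.ker_isPrime _
  Ideal.Quotient.isDomain _

/-- The coordinates. -/
def z (p : Fin (m + 1) × Fin (n + 1)) : SegRing k m n := Ideal.Quotient.mk _ (X p)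

theorem z_rel (i i' : Fin (m + 1)) (j j' : Fin (n + 1)) :
    z k m n (i, j) * z k m n (i', j') = z k m n (i, j') * z k m n (i', j) := by
  rw [z, z, z, z, ← map_mul, ← map_mul, Ideal.Quotient.eq, RingHom.mem_ker, map_sub, map_mul,
    map_mul, par, aeval_X, aeval_X, aeval_X, aeval_X]
  ring

/-- A chart of independent coordinates. -/
def chart : Option (Fin m ⊕ Fin n) → Fin (m + 1) × Fin (n + 1)
  | none => (0, 0)
  | some (Sum.inl i) => (i.succ, 0)
  | some (Sum.inr j) => (0, j.succ)

theorem exists_dim_le : ∃ D : ℕ, ringKrullDim (SegRing k m n) = D ∧ m + n + 1 ≤ D := by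
  obtain ⟨D, -, -, -, hD, htr⟩ := AffineDim.exists_normalization k (SegRing k m n)
  refine ⟨D, hD, ?_⟩
  let L := FractionRing (MvPolynomial (Option (Fin m ⊕ Fin n)) k)
  let t : Option (Fin m ⊕ Fin n) → L := fun o =>
    algebraMap (MvPolynomial (Option (Fin m ⊕ Fin n)) k) L (X o)
  have ht0 : t none ≠ 0 := by
    intro h
    exact X_ne_zero (R := k) (none : Option (Fin m ⊕ Fin n))
      (IsFractionRing.injective (MvPolynomial (Option (Fin m ⊕ Fin n)) k) L (h.trans (map_zero _).symm))
  let ev : MvPolynomial (Fin (m + 1) ⊕ Fin (n + 1)) k →ₐ[k] L := aeval (Sum.elim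
    (Fin.cons 1 fun i => t (some (Sum.inl i)) / t none)
    (Fin.cons (t none) fun j => t (some (Sum.inr j))))
  let φ : SegRing k m n →ₐ[k] L := ev.comp (Ideal.kerLiftAlg (par k m n))
  have hφ : φ ∘ (fun o => z k m n (chart m n o)) = t := by
    funext o
    change ev (par k m n (X (chart m n o))) = t o
    rw [par, aeval_X]
    rcases o with - | (i | j)
    · simp [ev, chart]
    · simp [ev, chart, div_mul_cancel₀ _ ht0]
    · simp [ev, chart]
  have hind : AlgebraicIndependent k (fun o => z k m n (chart m n o)) := by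
    refine AlgebraicIndependent.of_comp φ ?_
    rw [hφ]
    exact (MvPolynomial.algebraicIndependent_X (Option (Fin m ⊕ Fin n)) k).map'
      (f := IsScalarTower.toAlgHom k (MvPolynomial (Option (Fin m ⊕ Fin n)) k) L)
      (IsFractionRing.injective _ _)
  have h := hind.lift_cardinalMk_le_trdeg
  rw [htr, Cardinal.mk_fintype, Fintype.card_option, Fintype.card_sum, Fintype.card_fin,
    Fintype.card_fin, Cardinal.lift_natCast, Cardinal.lift_natCast] at h
  exact_mod_cast h

variable [IsAlgClosed k]

/-- Hopf's inequality. -/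
theorem finrank_add_le {V W U : Type u} [AddCommGroup V] [Module k V] [FiniteDimensional k V]
    [Nontrivial V] [AddCommGroup W] [Module k W] [FiniteDimensional k W] [Nontrivial W]
    [AddCommGroup U] [Module k U] [FiniteDimensional k U]
    (B : V →ₗ[k] W →ₗ[k] U) (hB : ∀ v w, B v w = 0 → v = 0 ∨ w = 0) :
    finrank k V + finrank k W ≤ finrank k U + 1 := by
  classical
  obtain ⟨m, hm⟩ := Nat.exists_eq_add_one_of_ne_zero (Module.finrank_pos (R := k) (M := V)).ne'
  obtain ⟨n, hn⟩ := Nat.exists_eq_add_one_of_ne_zero (Module.finrank_pos (R := k) (M := W)).ne'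
  let bV := Module.finBasisOfFinrankEq k V hm
  let bW := Module.finBasisOfFinrankEq k W hn
  let bU := Module.finBasis k U
  let f : Fin (finrank k U) → SegRing k m n := fun l =>
    ∑ p : Fin (m + 1) × Fin (n + 1), bU.repr (B (bV p.1) (bW p.2)) l • z k m n p
  let φ₀ : SegRing k m n →ₐ[k] k := (aeval (fun _ => (0 : k))).comp (Ideal.kerLiftAlg (par k m n))
  have hφz : ∀ p, φ₀ (z k m n p) = 0 := by
    intro p
    change aeval (fun _ => (0 : k)) (par k m n (X p)) = 0
    simp [par]
  let M : Ideal (SegRing k m n) := RingHom.ker φ₀.toRingHom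
  haveI : M.IsMaximal := RingHom.ker_isMaximal_of_surjective φ₀.toRingHom fun c =>
    ⟨algebraMap k _ c, φ₀.commutes c⟩
  have hmin : M ∈ (Ideal.span (Set.range f)).minimalPrimes := by
    refine ⟨⟨inferInstance, Ideal.span_le.2 ?_⟩, ?_⟩
    · rintro _ ⟨l, rfl⟩
      change φ₀ (f l) = 0
      simp [f, hφz]
    rintro Q ⟨hQ, hfQ⟩ -
    have hzQ : ∀ p, z k m n p ∈ Q := by
      intro p₀
      by_contra hp
      have hjac : Q.jacobson = Q := isJacobsonRing_iff.1 inferInstance Q hQ.isRadical
      rw [← hjac, Ideal.jacobson, Submodule.mem_sInf] at hp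
      push Not at hp
      obtain ⟨N, ⟨hQN, hN⟩, hpN⟩ := hp
      haveI := hN
      letI : Field (SegRing k m n ⧸ N) := Ideal.Quotient.field N
      haveI : Algebra.FiniteType k (SegRing k m n ⧸ N) :=
        Algebra.FiniteType.of_surjective (Ideal.Quotient.mkₐ k N) Ideal.Quotient.mk_surjective
      haveI : Module.Finite k (SegRing k m n ⧸ N) :=
        finite_of_finite_type_of_isJacobsonRing k (SegRing k m n ⧸ N)
      let e := AlgEquiv.ofBijective (Algebra.ofId k (SegRing k m n ⧸ N))
        (IsAlgClosed.algebraMap_bijective_of_isIntegral (k := k))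
      let φ : SegRing k m n →ₐ[k] k := e.symm.toAlgHom.comp (Ideal.Quotient.mkₐ k N)
      have hφN : ∀ a, φ a = 0 ↔ a ∈ N := fun a => by
        change e.symm (Ideal.Quotient.mk N a) = 0 ↔ a ∈ N
        rw [map_eq_zero_iff _ e.symm.injective, Ideal.Quotient.eq_zero_iff_mem]
      let a : Fin (m + 1) × Fin (n + 1) → k := fun p => φ (z k m n p)
      obtain ⟨i₀, j₀⟩ := p₀
      have ha : a (i₀, j₀) ≠ 0 := fun h => hpN ((hφN _).1 h)
      have hrel : ∀ i j, a (i, j₀) * (a (i₀, j) / a (i₀, j₀)) = a (i, j) := by
        intro i j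
        have := congrArg φ (z_rel k m n i i₀ j₀ j)
        rw [map_mul, map_mul] at this
        rw [mul_div_assoc', div_eq_iff ha]
        exact this
      let v := ∑ i, a (i, j₀) • bV i
      let w := ∑ j, (a (i₀, j) / a (i₀, j₀)) • bW j
      have hvw : B v w = 0 := by
        apply bU.repr.injective
        ext l
        have h0 : φ (f l) = 0 := (hφN _).2 (hQN (hfQ (Ideal.subset_span ⟨l, rfl⟩)))
        simp only [f, map_sum, map_smul, smul_eq_mul, Fintype.sum_prod_type] at h0
        simp only [v, w, map_sum, map_smul, LinearMap.sum_apply, LinearMap.smul_apply,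
          Finsupp.coe_finsetSum, Finset.sum_apply, Finsupp.coe_smul, Pi.smul_apply, smul_eq_mul,
          map_zero, Finsupp.coe_zero, Pi.zero_apply]
        simp only [Finset.mul_sum]
        rw [Finset.sum_comm, ← h0]
        refine Finset.sum_congr rfl fun i _ => ?_
        refine Finset.sum_congr rfl fun j _ => ?_
        rw [← mul_assoc, mul_comm _ (φ (z k m n (i, j)))]
        congr 1
        exact (mul_comm _ _).trans (hrel i j)
      rcases hB v w hvw with h | h
      · have := congrArg (fun x => bV.repr x i₀) h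
        simp [v, Finsupp.single_apply] at this
        exact ha this
      · have := congrArg (fun x => bW.repr x j₀) h
        simp [w, Finsupp.single_apply, ha] at this
    have key : ∀ s, Ideal.Quotient.mk (RingHom.ker (par k m n)) s -
        algebraMap k (SegRing k m n) (φ₀ (Ideal.Quotient.mk _ s)) ∈ Q := by
      intro s
      induction s using MvPolynomial.induction_on with
      | C c =>
        rw [show (Ideal.Quotient.mk (RingHom.ker (par k m n))) (C c) =
          algebraMap k (SegRing k m n) c from rfl, AlgHom.commutes]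
        simp
      | add p q hp hq =>
        rw [map_add, map_add, map_add, add_sub_add_comm]
        exact Q.add_mem hp hq
      | mul_X p i hp =>
        rw [map_mul, map_mul]
        change _ * z k m n i - algebraMap k _ (_ * φ₀ (z k m n i)) ∈ Q
        rw [hφz, mul_zero, map_zero, sub_zero]
        exact Q.mul_mem_left _ (hzQ i)
    intro x hx
    obtain ⟨s, rfl⟩ := Ideal.Quotient.mk_surjective x
    have := key s
    rwa [show φ₀ (Ideal.Quotient.mk _ s) = 0 from hx, map_zero, sub_zero] at this
  haveI : IsNoetherianRing (SegRing k m n) := inferInstance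
  have hle := (Ideal.height_le_card_of_mem_minimalPrimes_span (Set.finite_range f) hmin).trans
    (show ((Set.range f).ncard : ℕ∞) ≤ finrank k U from by
      rw [Set.ncard_eq_toFinset_card', Set.toFinset_range]
      exact_mod_cast Finset.card_image_le.trans (le_of_eq (Finset.card_fin _)))
  obtain ⟨D, hD, hmn⟩ := exists_dim_le k m n
  have hM := AffineDim.height_of_isMaximal k (SegRing k m n) M
  rw [hD] at hM
  have hDU : D ≤ finrank k U := by
    have h1 : (D : WithBot ℕ∞) ≤ ((finrank k U : ℕ∞) : WithBot ℕ∞) := hM ▸ WithBot.coe_le_coe.2 hle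
    exact_mod_cast h1
  omega

end Groth.L22.HopfBilinear
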