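import Groth.Agent.L22.SplitRing
import Groth.Agent.L22.AffineDescent
import Groth.Agent.L22.FaithfullyFlatPointwise
import Mathlib.AlgebraicGeometry.Morphisms.Integral
import Mathlib.AlgebraicGeometry.Limits

/-!
A separated scheme which is the image of an integral scheme with finite fibres is integral.
-/

universe u

open CategoryTheory CategoryTheory.Limits AlgebraicGeometry TopologicalSpace TensorProduct

namespace Groth.L22.IntImage

/-- A locally closed piece: an open with closed underlying set inside an affine open is affine. -/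
theorem isAffineOpen_of_isClosed {X : Scheme.{u}} {V W : X.Opens} (hW : IsAffineOpen W)
    (h : V ≤ W) (hV : IsClosed (V : Set X)) : IsAffineOpen V := by
  haveI : IsAffine W.toScheme := hW
  let j := X.homOfLE h
  haveI : IsOpenImmersion j := inferInstance
  have hr : IsClosed (Set.range j) := by
    have : Set.range j = W.ι ⁻¹' (V : Set X) := by
      ext z
      constructor
      · rintro ⟨v, rfl⟩
        change (j ≫ W.ι) v ∈ V
        rw [Scheme.homOfLE_ι]
        exact v.2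
      · intro hz
        refine ⟨⟨W.ι z, hz⟩, W.ι.injective ?_⟩
        rw [← Scheme.Hom.comp_apply, Scheme.homOfLE_ι]
        rfl
    rw [this]
    exact hV.preimage W.ι.continuous
  haveI : IsAffineHom j := isAffineHom_of_isInducing j j.isOpenEmbedding.isInducing hr
  exact isAffine_of_isAffineHom j

set_option maxHeartbeats 800000 in
/-- Pointwise on the base, such a scheme becomes affine after a flat base change. -/
theorem exists_flat_point_affine {A B : Type u} [CommRing A] [CommRing B] [Algebra A B]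
    [Algebra.IsIntegral A B] {Y : Scheme.{u}} (g : Y ⟶ Spec (.of A)) [IsSeparated g]
    (f : Spec (.of B) ⟶ Y) [Surjective f]
    (h : f ≫ g = Spec.map (CommRingCat.ofHom (algebraMap A B))) (p : Spec (CommRingCat.of A))
    (hfin : Set.Finite ((f ≫ g).base ⁻¹' {p})) :
    ∃ (T : Scheme.{u}) (t : T ⟶ Spec (.of A)),
      IsAffine T ∧ Flat t ∧ p ∈ Set.range t ∧ IsAffine (pullback g t) := by
  classical
  haveI : p.asIdeal.IsPrime := p.2
  -- primes of `B` over `p`
  let M : Set (PrimeSpectrum B) := {q | q.asIdeal.comap (algebraMap A B) = p.asIdeal}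
  have hM : M.Finite := by
    refine hfin.subset fun q hq => ?_
    rw [Set.mem_preimage, Set.mem_singleton_iff, h]
    exact PrimeSpectrum.ext hq
  -- affine neighbourhoods and separating functions
  have hU : ∀ y : Y, ∃ U : Y.Opens, IsAffineOpen U ∧ y ∈ U := fun y => by
    obtain ⟨_, ⟨U, hU, rfl⟩, hy, -⟩ :=
      Y.isBasis_affineOpens.exists_subset_of_mem_open (Set.mem_univ y) isOpen_univ
    exact ⟨U, hU, hy⟩
  choose U hUaff hUmem using hU
  have hb : ∀ y : Y, ∃ b : B, ∀ q ∈ M, (b ∈ q.asIdeal ↔ f q ≠ y) := by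
    intro y
    let out : Finset (PrimeSpectrum B) := hM.toFinset.filter fun q => f q ≠ y
    let inn : Finset (PrimeSpectrum B) := hM.toFinset.filter fun q => f q = y
    have hnot : ∀ q ∈ inn, ¬ out.inf PrimeSpectrum.asIdeal ≤ q.asIdeal := by
      intro q hq hle
      obtain ⟨q', hq', hle'⟩ := (Ideal.IsPrime.inf_le' q.2).1 hle
      obtain ⟨hqM, hqy⟩ := Finset.mem_filter.1 hq
      obtain ⟨hqM', hqy'⟩ := Finset.mem_filter.1 hq'
      rw [Set.Finite.mem_toFinset] at hqM hqM'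
      rcases hle'.lt_or_eq with hlt | he
      · haveI := q'.2
        have := Ideal.IsIntegral.comap_lt_comap (R := A) hlt
        rw [hqM', hqM] at this
        exact lt_irrefl _ this
      · exact hqy' (by rw [PrimeSpectrum.ext he]; exact hqy)
    obtain ⟨b, hb1, hb2⟩ : ∃ b ∈ out.inf PrimeSpectrum.asIdeal,
        ∀ q ∈ inn, b ∉ q.asIdeal := by
      by_contra hcon
      push Not at hcon
      have hsub : ((out.inf PrimeSpectrum.asIdeal : Ideal B) : Set B) ⊆
          ⋃ q ∈ (↑inn : Set (PrimeSpectrum B)), (q.asIdeal : Set B) := by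
        intro b hb
        obtain ⟨q, hq, hbq⟩ := hcon b hb
        exact Set.mem_biUnion hq hbq
      rcases inn.eq_empty_or_nonempty with he | ⟨q0, hq0⟩
      · obtain ⟨q, hq, -⟩ := hcon 0 (zero_mem _)
        rw [he] at hq
        exact absurd hq (Finset.notMem_empty q)
      · obtain ⟨q, hq, hle⟩ := (Ideal.subset_union_prime q0 q0
          fun q _ _ _ => q.2).1 hsub
        exact hnot q hq hle
    refine ⟨b, fun q hq => ⟨fun hbq hfy => hb2 q ?_ hbq, fun hne => ?_⟩⟩
    · exact Finset.mem_filter.2 ⟨hM.mem_toFinset.2 hq, hfy⟩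
    · exact Finset.inf_le (f := PrimeSpectrum.asIdeal)
        (Finset.mem_filter.2 ⟨hM.mem_toFinset.2 hq, hne⟩ : q ∈ out) hb1
  choose b hb using hb
  let ι : Set Y := f '' M
  haveI : Finite ι := (hM.image f).to_subtype
  let P : Polynomial A := ∏ y ∈ (hM.image f).toFinset, minpoly A (b y)
  have hPm : P.Monic := Polynomial.monic_prod_of_monic _ _ fun y _ =>
    minpoly.monic (Algebra.IsIntegral.isIntegral _)
  obtain ⟨C, iC, iAC, m, hm, hmp, hflat, hint, s, hs⟩ :=
    Groth.L22.SplitRing.exists_split P hPm p.asIdeal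
  haveI := hm
  let C' := Localization.AtPrime m
  let D := C' ⊗[A] B
  let inr : B →+* D := (Algebra.TensorProduct.includeRight : B →ₐ[A] D).toRingHom
  let ψ : C →+* D := (algebraMap C' D).comp (algebraMap C C')
  let t : Spec (.of C') ⟶ Spec (.of A) := Spec.map (CommRingCat.ofHom (algebraMap A C'))
  haveI : Flat t := by
    rw [HasRingHomProperty.Spec_iff (P := @Flat), CommRingCat.hom_ofHom,
      RingHom.flat_algebraMap_iff]
    haveI : Module.Flat C C' := IsLocalization.flat C' m.primeCompl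
    exact Module.Flat.trans A C C'
  refine ⟨Spec (.of C'), t, inferInstance, inferInstance, ⟨IsLocalRing.closedPoint C', ?_⟩, ?_⟩
  · apply PrimeSpectrum.ext
    change (IsLocalRing.maximalIdeal C').comap (algebraMap A C') = _
    rw [IsScalarTower.algebraMap_eq A C C', ← Ideal.comap_comap, show
      (IsLocalRing.maximalIdeal C').comap (algebraMap C C') = m from
        Localization.AtPrime.under_maximalIdeal, hmp]
  -- the base change of `f`
  have hcart : IsPullback (Spec.map (CommRingCat.ofHom inr))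
      (Spec.map (CommRingCat.ofHom (algebraMap C' D))) (f ≫ g) t := by
    rw [h]
    exact (isPullback_SpecMap_of_isPushout _ _ _ _
      (CommRingCat.isPushout_tensorProduct A C' B)).flip
  let f' : Spec (.of D) ⟶ pullback g t := pullback.lift
    (Spec.map (CommRingCat.ofHom inr) ≫ f) (Spec.map (CommRingCat.ofHom (algebraMap C' D)))
    (by rw [Category.assoc, hcart.w])
  have hf'1 : f' ≫ pullback.fst g t = Spec.map (CommRingCat.ofHom inr) ≫ f := pullback.lift_fst _ _ _
  have hf'2 : f' ≫ pullback.snd g t = Spec.map (CommRingCat.ofHom (algebraMap C' D)) :=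
    pullback.lift_snd _ _ _
  haveI : Surjective f' := by
    refine MorphismProperty.of_isPullback (P := @Surjective)
      (IsPullback.of_right ?_ hf'1 (IsPullback.of_hasPullback g t).flip).flip inferInstance
    rw [hf'2]
    exact hcart.flip
  haveI : IsIntegralHom (f' ≫ pullback.snd g t) := by
    rw [hf'2, IsIntegralHom.SpecMap_iff, CommRingCat.hom_ofHom]
    exact Algebra.IsIntegral.isIntegral
  haveI : IsIntegralHom f' := IsIntegralHom.of_comp f' (pullback.snd g t)
  haveI : IsAffineHom (pullback.fst g t) := MorphismProperty.pullback_fst g t inferInstance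
  have hclosed : IsClosedMap f' := f'.isClosedMap
  have hfst : ∀ P : PrimeSpectrum D, pullback.fst g t (f' P) = f (P.comap inr) := fun P => by
    rw [← Scheme.Hom.comp_apply, hf'1, Scheme.Hom.comp_apply]; rfl
  -- closed points
  have hψ : ψ.comp (algebraMap A C) = algebraMap A D := by
    rw [RingHom.comp_assoc, ← IsScalarTower.algebraMap_eq, ← IsScalarTower.algebraMap_eq]
  have hover : ∀ Q : PrimeSpectrum D, Q.asIdeal.IsMaximal →
      (∀ a, ψ a ∈ Q.asIdeal ↔ a ∈ m) ∧ Q.comap inr ∈ M := by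
    intro Q hQ
    haveI := hQ
    have hm' : Q.asIdeal.comap (algebraMap C' D) = IsLocalRing.maximalIdeal C' :=
      IsLocalRing.eq_maximalIdeal (Ideal.isMaximal_comap_of_isIntegral_of_isMaximal Q.asIdeal)
    have hm'' : Q.asIdeal.comap ψ = m := by
      rw [← Ideal.comap_comap, hm']
      exact Localization.AtPrime.under_maximalIdeal
    refine ⟨fun a => by simp only [← hm'', Ideal.mem_comap], ?_⟩
    change (Q.asIdeal.comap inr).comap (algebraMap A B) = p.asIdeal
    rw [Ideal.comap_comap]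
    have : inr.comp (algebraMap A B) = algebraMap A D :=
      (Algebra.TensorProduct.includeRight : B →ₐ[A] D).comp_algebraMap
    rw [this, ← hψ, ← Ideal.comap_comap, hm'', hmp]
  -- the pieces
  let e : Y → D := fun y => inr (b y)
  let Z1 : Y → Set (PrimeSpectrum D) := fun y =>
    ⋃ a ∈ s.toFinset.filter (fun a => a ∉ m), PrimeSpectrum.zeroLocus {e y - ψ a}
  let Z0 : Y → Set (PrimeSpectrum D) := fun y =>
    ⋃ a ∈ s.toFinset.filter (fun a => a ∈ m), PrimeSpectrum.zeroLocus {e y - ψ a}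
  have hZ1c : ∀ y, IsClosed (Z1 y) := fun y =>
    isClosed_biUnion_finset fun a _ => PrimeSpectrum.isClosed_zeroLocus _
  have hZ0c : ∀ y, IsClosed (Z0 y) := fun y =>
    isClosed_biUnion_finset fun a _ => PrimeSpectrum.isClosed_zeroLocus _
  have hcover : ∀ y ∈ ι, ∀ Q : PrimeSpectrum D, Q ∈ Z1 y ∪ Z0 y := by
    intro y hy Q
    have hdvd : minpoly A (b y) ∣ P := Finset.dvd_prod_of_mem _ ((hM.image f).mem_toFinset.2 hy)
    have h0 : Polynomial.aeval (b y) P = 0 := by
      obtain ⟨R, hR⟩ := hdvd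
      rw [hR, map_mul, minpoly.aeval, zero_mul]
    have h1 : Polynomial.aeval (e y) P = 0 := by
      change Polynomial.aeval ((Algebra.TensorProduct.includeRight : B →ₐ[A] D) (b y)) P = 0
      rw [Polynomial.aeval_algHom_apply, h0, map_zero]
    have h2 : (s.map fun a => e y - ψ a).prod = 0 := by
      rw [← h1, Polynomial.aeval_def, ← hψ, ← Polynomial.eval₂_map, hs,
        Polynomial.eval₂_multiset_prod, Multiset.map_map]
      congr 1
      simp [Function.comp_def]
    obtain ⟨x, hx, hxQ⟩ := (Q.2.multiset_prod_mem_iff_exists_mem _).1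
      (show (s.map fun a => e y - ψ a).prod ∈ Q.asIdeal by rw [h2]; exact zero_mem _)
    obtain ⟨a, ha, rfl⟩ := Multiset.mem_map.1 hx
    by_cases ham : a ∈ m
    · exact Or.inr (Set.mem_biUnion (Finset.mem_filter.2 ⟨Multiset.mem_toFinset.2 ha, ham⟩)
        (by rwa [PrimeSpectrum.mem_zeroLocus, Set.singleton_subset_iff]))
    · exact Or.inl (Set.mem_biUnion (Finset.mem_filter.2 ⟨Multiset.mem_toFinset.2 ha, ham⟩)
        (by rwa [PrimeSpectrum.mem_zeroLocus, Set.singleton_subset_iff]))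
  have hlab1 : ∀ y Q, Q.asIdeal.IsMaximal → Q ∈ Z1 y → pullback.fst g t (f' Q) = y := by
    intro y Q hQ hQZ
    obtain ⟨a, ha, haQ⟩ := Set.mem_iUnion₂.1 hQZ
    rw [PrimeSpectrum.mem_zeroLocus, Set.singleton_subset_iff] at haQ
    obtain ⟨hψm, hqM⟩ := hover Q hQ
    rw [hfst]
    by_contra hne
    have heQ : e y ∈ Q.asIdeal := (hb y _ hqM).2 hne
    exact (Finset.mem_filter.1 ha).2 ((hψm a).1 (by simpa using sub_mem heQ haQ))
  have hlab0 : ∀ y Q, Q.asIdeal.IsMaximal → Q ∈ Z0 y → pullback.fst g t (f' Q) ≠ y := by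
    intro y Q hQ hQZ
    obtain ⟨a, ha, haQ⟩ := Set.mem_iUnion₂.1 hQZ
    rw [PrimeSpectrum.mem_zeroLocus, Set.singleton_subset_iff] at haQ
    obtain ⟨hψm, hqM⟩ := hover Q hQ
    rw [hfst]
    refine (hb y _ hqM).1 ?_
    have := add_mem haQ ((hψm a).2 (Finset.mem_filter.1 ha).2)
    rwa [sub_add_cancel] at this
  -- every point of a closed image specialises to the image of a maximal point
  have hspec : ∀ (Z : Set (PrimeSpectrum D)), IsClosed Z → ∀ Q ∈ Z,
      ∃ Qm ∈ Z, Qm.asIdeal.IsMaximal ∧ f' Q ⤳ f' Qm ∧ IsClosed ({f' Qm} : Set ↥(pullback g t)) := by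
    intro Z hZ Q hQ
    obtain ⟨J, hJ, hle⟩ := Ideal.exists_le_maximal Q.asIdeal Q.2.ne_top
    let Qm : PrimeSpectrum D := ⟨J, hJ.isPrime⟩
    have hsp : Q ⤳ Qm := (PrimeSpectrum.le_iff_specializes Q Qm).1 hle
    refine ⟨Qm, hsp.mem_closed hZ hQ, hJ, hsp.map f'.continuous, ?_⟩
    have := hclosed {Qm} ((PrimeSpectrum.isClosed_singleton_iff_isMaximal Qm).2 hJ)
    convert this using 1
    ext z
    exact ⟨fun hz => ⟨Qm, rfl, hz.symm⟩, fun ⟨w, hw, hz⟩ => hz.symm.trans (congrArg f' hw)⟩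
  let W1 : Y → Set ↥(pullback g t) := fun y => f' '' Z1 y
  let W0 : Y → Set ↥(pullback g t) := fun y => f' '' Z0 y
  have hdisj : ∀ y, ∀ z ∈ W1 y, z ∉ W0 y := by
    rintro y z ⟨Q, hQ, rfl⟩ hz0
    obtain ⟨Qm, hQmZ, hQm, hsp, hcl⟩ := hspec _ (hZ1c y) Q hQ
    obtain ⟨R, hR, hRQ⟩ := hsp.mem_closed (hclosed _ (hZ0c y)) hz0
    obtain ⟨Rm, hRmZ, hRm, hspR, -⟩ := hspec _ (hZ0c y) R hR
    have : f' Rm = f' Qm := hspR.mem_closed hcl (hRQ ▸ rfl)
    exact hlab0 y Rm hRm hRmZ (this ▸ hlab1 y Qm hQm hQmZ)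
  have hopen : ∀ y ∈ ι, IsOpen (W1 y) := by
    intro y hy
    have : W1 y = (W0 y)ᶜ := by
      ext z
      refine ⟨hdisj y z, fun hz => ?_⟩
      obtain ⟨Q, rfl⟩ := f'.surjective z
      rcases hcover y hy Q with hQ | hQ
      · exact ⟨Q, hQ, rfl⟩
      · exact absurd ⟨Q, hQ, rfl⟩ hz
    rw [this]
    exact (hclosed _ (hZ0c y)).isOpen_compl
  let V : ι → (pullback g t).Opens := fun y => ⟨W1 y.1, hopen y.1 y.2⟩
  have hVaff : ∀ y, IsAffineOpen (V y) := by
    intro y
    have hW : IsAffineOpen (pullback.fst g t ⁻¹ᵁ U y.1) := (hUaff y.1).preimage _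
    refine isAffineOpen_of_isClosed hW ?_ (hclosed _ (hZ1c y.1))
    rintro z ⟨Q, hQ, rfl⟩
    obtain ⟨Qm, hQmZ, hQm, hsp, -⟩ := hspec _ (hZ1c y.1) Q hQ
    refine hsp.mem_open (pullback.fst g t ⁻¹ᵁ U y.1).2 ?_
    change pullback.fst g t (f' Qm) ∈ U y.1
    rw [hlab1 y.1 Qm hQm hQmZ]
    exact hUmem y.1
  have hVdisj : Pairwise (Function.onFun Disjoint V) := by
    intro y y' hne
    rw [Function.onFun, disjoint_iff_inf_le]
    rintro z ⟨⟨Q, hQ, rfl⟩, hz'⟩
    exfalso
    obtain ⟨Qm, hQmZ, hQm, hsp, hcl⟩ := hspec _ (hZ1c y.1) Q hQ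
    obtain ⟨R, hR, hRQ⟩ := hsp.mem_closed (hclosed _ (hZ1c y'.1)) hz'
    obtain ⟨Rm, hRmZ, hRm, hspR, -⟩ := hspec _ (hZ1c y'.1) R hR
    have : f' Rm = f' Qm := hspR.mem_closed hcl (hRQ ▸ rfl)
    exact hne (Subtype.ext ((hlab1 y.1 Qm hQm hQmZ).symm.trans (this ▸ hlab1 y'.1 Rm hRm hRmZ)))
  have htop : iSup V = ⊤ := by
    refine top_le_iff.1 fun z _ => ?_
    obtain ⟨Q, rfl⟩ := f'.surjective z
    obtain ⟨Qm, -, hQm, hsp, -⟩ := hspec Set.univ isClosed_univ Q trivial
    obtain ⟨-, hqM⟩ := hover Qm hQm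
    have hy : pullback.fst g t (f' Qm) ∈ ι := by
      rw [hfst]; exact ⟨_, hqM, rfl⟩
    refine Opens.mem_iSup.2 ⟨⟨_, hy⟩, hsp.mem_open (V ⟨_, hy⟩).2 ?_⟩
    rcases hcover _ hy Qm with hQ | hQ
    · exact ⟨Qm, hQ, rfl⟩
    · exact absurd rfl (hlab0 _ Qm hQm hQ)
  have hall : IsAffineOpen (⊤ : (pullback g t).Opens) :=
    htop ▸ IsAffineOpen.iSup_of_disjoint hVaff hVdisj
  haveI : IsAffine ((⊤ : (pullback g t).Opens).toScheme) := hall
  exact IsAffine.of_isIso (pullback g t).topIso.inv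

/-- Affineness over an affine base may be checked pointwise after flat base changes. -/
theorem isAffine_of_pointwise {Y S : Scheme.{u}} (g : Y ⟶ S) [IsAffine S] [CompactSpace Y]
    [QuasiSeparatedSpace Y]
    (H : ∀ s : S, ∃ (T : Scheme.{u}) (t : T ⟶ S),
      IsAffine T ∧ Flat t ∧ s ∈ Set.range t ∧ IsAffine (pullback g t)) : IsAffine Y := by
  refine ⟨?_⟩
  refine Groth.L22.Pointwise.isIso_of_pointwise _ fun r => ?_
  obtain ⟨T, t, hT, ht, ⟨w, hw⟩, hP⟩ := H (S.isoSpec.inv (Spec.map g.appTop r))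
  haveI := hT; haveI := ht; haveI := hP
  have hsq := Groth.L22.AffDesc.isPullback_toSpecΓ (IsPullback.of_hasPullback g t)
  have hR := ((Groth.L22.AffDesc.isPushout_appTop (IsPullback.of_hasPullback g t)).op.map
    Scheme.Spec).flip
  refine ⟨_, Spec.map (pullback.fst g t).appTop, ?_, ?_, ?_⟩
  · refine MorphismProperty.of_isPullback hR.flip ?_
    exact (MorphismProperty.arrow_mk_iso_iff @Flat
      (Arrow.isoMk T.isoSpec S.isoSpec (by
        simpa [Scheme.isoSpec] using (Scheme.toSpecΓ_naturality t).symm) :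
        Arrow.mk t ≅ Arrow.mk (Spec.map t.appTop))).1 inferInstance
  · have hspec : Spec.map g.appTop r = Spec.map t.appTop (T.isoSpec.hom w) := by
      rw [← Scheme.Hom.comp_apply T.isoSpec.hom, Scheme.isoSpec_hom_naturality,
        Scheme.Hom.comp_apply, hw]
      exact (Scheme.inv_hom_apply S.isoSpec _).symm
    obtain ⟨z, hz, -⟩ := Scheme.exists_preimage_of_isPullback hR r (T.isoSpec.hom w) hspec
    exact ⟨z, hz⟩
  · rw [← IsPullback.isoPullback_inv_snd hsq]
    infer_instance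

theorem isAffineHom_of_integral_comp {X Y S : Scheme.{u}} (f : X ⟶ Y) (g : Y ⟶ S) [IsSeparated g]
    [Surjective f] [IsIntegralHom (f ≫ g)] (hfin : ∀ s : S, Set.Finite ((f ≫ g).base ⁻¹' {s})) :
    IsAffineHom g := by
  refine ⟨fun U hU => ?_⟩
  haveI : IsAffine U.toScheme := hU
  haveI : IsSeparated (g ∣_ U) :=
    MorphismProperty.of_isPullback (P := @IsSeparated) (isPullback_morphismRestrict g U).flip
      inferInstance
  haveI : Surjective (f ∣_ (g ⁻¹ᵁ U)) :=
    MorphismProperty.of_isPullback (P := @Surjective) (isPullback_morphismRestrict f _).flip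
      inferInstance
  have hh : (f ∣_ (g ⁻¹ᵁ U)) ≫ (g ∣_ U) = (f ≫ g) ∣_ U := (morphismRestrict_comp f g U).symm
  haveI hint : IsIntegralHom ((f ≫ g) ∣_ U) :=
    MorphismProperty.of_isPullback (P := @IsIntegralHom)
      (isPullback_morphismRestrict (f ≫ g) U).flip inferInstance
  haveI hX : IsAffine ((f ≫ g) ⁻¹ᵁ U).toScheme := isAffine_of_isAffineHom ((f ≫ g) ∣_ U)
  haveI hX' : IsAffine (f ⁻¹ᵁ (g ⁻¹ᵁ U)).toScheme := hX
  haveI : CompactSpace (g ⁻¹ᵁ U).toScheme :=
    (f ∣_ (g ⁻¹ᵁ U)).surjective.compactSpace (f ∣_ (g ⁻¹ᵁ U)).continuous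
  haveI : QuasiSeparatedSpace (g ⁻¹ᵁ U).toScheme :=
    quasiSeparatedSpace_of_quasiSeparated (g ∣_ U)
  let A := Γ(U.toScheme, ⊤)
  let B := Γ((f ⁻¹ᵁ (g ⁻¹ᵁ U)).toScheme, ⊤)
  let φ : A ⟶ B := ((f ∣_ (g ⁻¹ᵁ U)) ≫ (g ∣_ U)).appTop
  letI : Algebra A B := φ.hom.toAlgebra
  let g' : (g ⁻¹ᵁ U).toScheme ⟶ Spec (.of A) := (g ∣_ U) ≫ U.toScheme.isoSpec.hom
  let f' : Spec (.of B) ⟶ (g ⁻¹ᵁ U).toScheme :=
    (f ⁻¹ᵁ (g ⁻¹ᵁ U)).toScheme.isoSpec.inv ≫ (f ∣_ (g ⁻¹ᵁ U))
  have hcomp : f' ≫ g' = Spec.map (CommRingCat.ofHom (algebraMap A B)) := by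
    have e := Scheme.isoSpec_hom_naturality ((f ∣_ (g ⁻¹ᵁ U)) ≫ (g ∣_ U))
    simp only [f', g', Category.assoc]
    rw [Iso.inv_comp_eq, ← Category.assoc (f ∣_ (g ⁻¹ᵁ U)), ← e]
    rfl
  haveI : Algebra.IsIntegral A B := by
    have h1 : IsIntegralHom (f' ≫ g') := by
      have : IsIntegralHom ((f ∣_ (g ⁻¹ᵁ U)) ≫ (g ∣_ U)) := by rw [hh]; exact hint
      simp only [f', g', Category.assoc]
      rw [← Category.assoc (f ∣_ (g ⁻¹ᵁ U))]
      infer_instance
    rw [hcomp, IsIntegralHom.SpecMap_iff, CommRingCat.hom_ofHom] at h1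
    exact ⟨h1⟩
  haveI : Surjective f' := inferInstanceAs (Surjective
    ((f ⁻¹ᵁ (g ⁻¹ᵁ U)).toScheme.isoSpec.inv ≫ (f ∣_ (g ⁻¹ᵁ U))))
  haveI : IsSeparated g' :=
    inferInstanceAs (IsSeparated ((g ∣_ U) ≫ U.toScheme.isoSpec.hom))
  refine isAffine_of_pointwise g' fun p => exists_flat_point_affine g' f' hcomp p ?_
  let ψ : Spec (.of B) ⟶ X :=
    (f ⁻¹ᵁ (g ⁻¹ᵁ U)).toScheme.isoSpec.inv ≫ (f ⁻¹ᵁ (g ⁻¹ᵁ U)).ι
  have hψ : ψ ≫ f ≫ g = (f' ≫ g') ≫ U.toScheme.isoSpec.inv ≫ U.ι := by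
    simp only [ψ, f', g', Category.assoc, Iso.hom_inv_id_assoc, morphismRestrict_ι,
      morphismRestrict_ι_assoc]
  refine ((hfin ((U.toScheme.isoSpec.inv ≫ U.ι) p)).preimage
    (ψ.isOpenEmbedding.injective.injOn)).subset fun q hq => ?_
  change (f ≫ g) (ψ q) = _
  rw [← Scheme.Hom.comp_apply, hψ, Scheme.Hom.comp_apply]
  exact congrArg _ hq

theorem isIntegralHom_of_integral_comp {X Y S : Scheme.{u}} (f : X ⟶ Y) (g : Y ⟶ S)
    [IsSeparated g] [Surjective f] [IsIntegralHom (f ≫ g)]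
    (hfin : ∀ s : S, Set.Finite ((f ≫ g).base ⁻¹' {s})) :
    IsIntegralHom g ∧ ∀ s : S, Set.Finite (g.base ⁻¹' {s}) := by
  haveI := isAffineHom_of_integral_comp f g hfin
  haveI : UniversallyClosed g := UniversallyClosed.of_comp_surjective f g
  refine ⟨IsIntegralHom.iff_universallyClosed_and_isAffineHom.2 ⟨inferInstance, inferInstance⟩,
    fun s => ((hfin s).image f.base).subset fun y hy => ?_⟩
  obtain ⟨x, rfl⟩ := f.surjective y
  exact ⟨x, hy, rfl⟩

end Groth.L22.IntImage
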