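import Mathlib.AlgebraicGeometry.Noetherian
import Mathlib.Topology.NoetherianSpace
import Mathlib.Topology.LocallyFinite

/-!
Irreducible components of a subset of a locally Noetherian scheme form a locally finite family.
-/

universe u

open AlgebraicGeometry TopologicalSpace

namespace Groth.L22.LocFinComp

theorem finite_components_meeting {α : Type*} [TopologicalSpace α] {O : Set α} (hO : IsOpen O)
    [NoetherianSpace O] : {Z ∈ irreducibleComponents α | (Z ∩ O).Nonempty}.Finite := by
  have hfin := (NoetherianSpace.finite_irreducibleComponents (α := O))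
  refine Set.Finite.of_finite_image (f := fun Z => ((↑) : O → α) ⁻¹' Z) (hfin.subset ?_) ?_
  · rintro _ ⟨Z, ⟨hZ, z, hz, hzO⟩, rfl⟩
    exact preimage_mem_irreducibleComponents hZ hO.isOpenEmbedding_subtypeVal ⟨z, hz, ⟨z, hzO⟩, rfl⟩
  · rintro Z ⟨hZ, hne⟩ Z' ⟨hZ', hne'⟩ h
    have h1 : Z ∩ O = Z' ∩ O := by
      ext a
      exact ⟨fun ha => ⟨(Set.ext_iff.1 h ⟨a, ha.2⟩).1 ha.1, ha.2⟩,
        fun ha => ⟨(Set.ext_iff.1 h ⟨a, ha.2⟩).2 ha.1, ha.2⟩⟩
    have key : ∀ W ∈ irreducibleComponents α, (W ∩ O).Nonempty → closure (W ∩ O) = W :=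
      fun W hW hWne => ((closure_mono Set.inter_subset_left).trans
        (isClosed_of_mem_irreducibleComponents W hW).closure_eq.le).antisymm
        (subset_closure_inter_of_isPreirreducible_of_isOpen hW.1.isPreirreducible hO hWne)
    rw [← key Z hZ hne, ← key Z' hZ' hne', h1]

theorem locallyFinite_components (X : Scheme.{u}) [IsLocallyNoetherian X] (S : Set X) :
    LocallyFinite (fun Z : irreducibleComponents S => ((↑) '' (Z : Set S) : Set X)) := by
  intro x
  obtain ⟨_, ⟨V, hV, rfl⟩, hxV, -⟩ :=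
    X.isBasis_affineOpens.exists_subset_of_mem_open (Set.mem_univ x) isOpen_univ
  haveI : IsNoetherianRing Γ(X, V) := IsLocallyNoetherian.component_noetherian ⟨V, hV⟩
  haveI : NoetherianSpace (V : Set X) := noetherianSpace_of_isAffineOpen V hV
  let O : Set S := (↑) ⁻¹' (V : Set X)
  have hO : IsOpen O := V.2.preimage continuous_subtype_val
  haveI : NoetherianSpace O := by
    have hi : Topology.IsInducing (fun a : O => (⟨(a : S), a.2⟩ : (V : Set X))) :=
      (Topology.IsInducing.subtypeVal.comp Topology.IsInducing.subtypeVal).codRestrict _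
    exact hi.noetherianSpace
  refine ⟨V, V.2.mem_nhds hxV, ?_⟩
  refine ((finite_components_meeting hO).preimage Subtype.val_injective.injOn).subset ?_
  rintro Z ⟨_, ⟨a, haZ, rfl⟩, haV⟩
  exact ⟨Z.2, a, haZ, haV⟩

end Groth.L22.LocFinComp
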