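import Groth.Agent.L22.C1.Local
import Groth.Agent.L22.SubBundle.Ops
import Groth.Agent.L22.Cyc.DivSupport

/-!
The middle exactness of the Mayer–Vietoris sequence for cycles.
-/

set_option autoImplicit false
set_option linter.style.haveILetI false
set_option linter.unusedSectionVars false

universe u

open CategoryTheory CategoryTheory.Limits AlgebraicGeometry

noncomputable section

namespace Groth.L22.MV

theorem exists_glue {X X₁ X₂ Y : Scheme.{u}} [IsLocallyNoetherian X] [IsLocallyNoetherian X₁]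
    [IsLocallyNoetherian X₂] [IsLocallyNoetherian Y] {δ' : X → ℤ} (hd : Cyc.IsDimFun X δ') (i₁ : X₁ ⟶ X) (i₂ : X₂ ⟶ X)
    [IsClosedImmersion i₁] [IsClosedImmersion i₂] (hcov : Set.range i₁ ∪ Set.range i₂ = Set.univ)
    (j₁ : Y ⟶ X₁) (j₂ : Y ⟶ X₂) [IsClosedImmersion j₁] [IsClosedImmersion j₂] (hcomm : j₁ ≫ i₁ = j₂ ≫ i₂)
    (hY : Set.range (j₁ ≫ i₁) = Set.range i₁ ∩ Set.range i₂) (n : ℤ) (α₁ : AlgebraicCycle X₁ ℤ)
    (α₂ : AlgebraicCycle X₂ ℤ) (h1 : α₁ ∈ Cyc.Zk X₁ (fun x => δ' (i₁ x)) n) (h2 : α₂ ∈ Cyc.Zk X₂ (fun x => δ' (i₂ x)) n)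
    (h0 : Cyc.RatEquivZero δ' n
        (AlgebraicCycle.map i₁ (fun x => δ' (i₁ x)) δ' α₁ + AlgebraicCycle.map i₂ (fun x => δ' (i₂ x)) δ' α₂)) :
    ∃ γ : AlgebraicCycle Y ℤ, γ ∈ Cyc.Zk Y (fun y => δ' (i₁ (j₁ y))) n ∧
      Cyc.RatEquiv (fun x => δ' (i₁ x)) n α₁
        (AlgebraicCycle.map j₁ (fun y => δ' (i₁ (j₁ y))) (fun x => δ' (i₁ x)) γ) ∧
      Cyc.RatEquiv (fun x => δ' (i₂ x)) n α₂
        (-AlgebraicCycle.map j₂ (fun y => δ' (i₁ (j₁ y))) (fun x => δ' (i₂ x)) γ) := by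
  classical
  obtain ⟨ι, ξ, f, q1, q2, q4, q5⟩ := h0
  have hGc : ∀ P : ι → Prop, ∃ G : AlgebraicCycle X ℤ,
      ⇑G = fun x => ∑ᶠ j : {j // P j}, Cyc.divFun δ' (ξ j.1) (f j.1) x := fun P =>
    Groth.L22.C1.exists_cycle _ fun x => by
      obtain ⟨U, hU, hxU, hfin⟩ := q4 x
      obtain ⟨V, hV, hxV, hVU⟩ := exists_isAffineOpen_mem_and_subset (x := x) (U := ⟨U, hU⟩) hxU
      refine ⟨V, hxV, (hfin.biUnion fun j _ => Groth.L22.Cyc.finite_support_divFun_inter hd (ξ j) (f j) (q2 j) hV).subset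
        fun z hz => ?_⟩
      obtain ⟨j, hj⟩ := exists_ne_zero_of_finsum_mem_ne_zero (s := Set.univ)
        (f := fun j : {j // P j} => Cyc.divFun δ' (ξ j.1) (f j.1) z) (by rw [finsum_mem_univ]; exact hz.1)
      exact Set.mem_biUnion (show j.1 ∈ {j | (closure {ξ j} ∩ U).Nonempty} from
        ⟨z, specializes_iff_mem_closure.1 (Groth.L22.C1.divFun_ne_zero hj.2).1, hVU hz.2⟩) ⟨hj.2, hz.2⟩
  let R₁ : ι → Prop := fun j => ξ j ∈ Set.range i₁
  obtain ⟨G₁, hG₁⟩ := hGc R₁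
  obtain ⟨G₂, hG₂⟩ := hGc (fun j => ¬ R₁ j)
  have hrat : ∀ (P : ι → Prop) (G : AlgebraicCycle X ℤ),
      (⇑G = fun x => ∑ᶠ j : {j // P j}, Cyc.divFun δ' (ξ j.1) (f j.1) x) → ∀ S : Set X, (∀ j, P j → ξ j ∈ S) →
      Groth.L22.C1.RatOn δ' n S ⇑G := fun P G hG S hS =>
    ⟨{j // P j}, fun j => ξ j.1, fun j => f j.1, fun j => q1 j.1, fun j => q2 j.1, fun j => hS _ j.2, fun x => by
      obtain ⟨U, hU, hxU, hfin⟩ := q4 x
      exact ⟨U, hU, hxU, (hfin.preimage Subtype.val_injective.injOn :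
        ((fun j : {j // P j} => j.1) ⁻¹' {i | (closure {ξ i} ∩ U).Nonempty}).Finite)⟩, fun x => congrFun hG x⟩
  have r₁ := hrat R₁ G₁ hG₁ (Set.range i₁) fun j h => h
  have r₂ := hrat _ G₂ hG₂ (Set.range i₂) fun j h => ((Set.ext_iff.1 hcov (ξ j)).2 trivial).resolve_left h
  let A₁ := Groth.L22.Chern.pushC i₁ (fun x => δ' (i₁ x)) δ' α₁
  let A₂ := Groth.L22.Chern.pushC i₂ (fun x => δ' (i₂ x)) δ' α₂
  have key : ∀ x, A₁ x + A₂ x = G₁ x + G₂ x := fun x => by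
    refine (q5 x).trans ?_
    have hf := Groth.L22.C1.finite_support_family (δ := δ') ξ f x q4
    rw [hG₁, hG₂]
    show (∑ᶠ j, Cyc.divFun δ' (ξ j) (f j) x) = (∑ᶠ j : {j // R₁ j}, Cyc.divFun δ' (ξ j.1) (f j.1) x) +
      ∑ᶠ j : {j // ¬ R₁ j}, Cyc.divFun δ' (ξ j.1) (f j.1) x
    rw [finsum_subtype_eq_finsum_cond (f := fun j => Cyc.divFun δ' (ξ j) (f j) x) R₁,
      finsum_subtype_eq_finsum_cond (f := fun j => Cyc.divFun δ' (ξ j) (f j) x) (fun j => ¬ R₁ j)]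
    simp only [finsum_eq_if]
    rw [← finsum_add_distrib (hf.subset fun j hj => ?_) (hf.subset fun j hj => ?_)]
    · exact finsum_congr fun j => by by_cases h : R₁ j <;> simp [h]
    · simp only [Function.mem_support, ne_eq] at hj ⊢
      exact fun h => hj (by simp [h])
    · simp only [Function.mem_support, ne_eq] at hj ⊢
      exact fun h => hj (by simp [h])
  have hc1 : IsClosed (Set.range i₁) := i₁.isClosedEmbedding.isClosed_range
  have hc2 : IsClosed (Set.range i₂) := i₂.isClosedEmbedding.isClosed_range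
  obtain ⟨γ, hγ⟩ : ∃ γ : AlgebraicCycle Y ℤ, ⇑γ = fun y => (A₁ - G₁) (i₁ (j₁ y)) :=
    Groth.L22.C1.exists_cycle _ fun y => by
      obtain ⟨V, hV, hzV, -⟩ := exists_isAffineOpen_mem_and_subset (x := i₁ (j₁ y)) (U := ⊤) trivial
      refine ⟨(j₁ ≫ i₁) ⁻¹ᵁ V, hzV, (((A₁ - G₁).locallyFiniteSupport.finite_inter_support_of_isCompact hV.isCompact).preimage
        (j₁ ≫ i₁).isClosedEmbedding.injective.injOn).subset fun w hw => ⟨hw.2, hw.1⟩⟩
  have hYr : ∀ x, (A₁ - G₁) x ≠ 0 → x ∈ Set.range i₁ ∩ Set.range i₂ := fun x hx => by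
    rw [Function.locallyFinsuppWithin.coe_sub, Pi.sub_apply] at hx
    refine ⟨by_contra fun h => hx ?_, by_contra fun h => hx ?_⟩
    · rw [r₁.eq_zero_of_notMem hc1 h, Groth.L22.SubBundle.pushC_outside i₁ δ' α₁ h, sub_zero]
    · have := key x
      rw [r₂.eq_zero_of_notMem hc2 h, Groth.L22.SubBundle.pushC_outside i₂ δ' α₂ h] at this
      linarith
  have hG₁Z : ∀ x, δ' x ≠ n → G₁ x = 0 :=
    Groth.L22.C1.ratEquivZero_mem_Zk (r₁.ratEquivZero G₁ rfl)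
  refine ⟨γ, fun y hy => ?_, ?_, ?_⟩
  · rw [hγ]
    show (A₁ - G₁) (i₁ (j₁ y)) = 0
    rw [Function.locallyFinsuppWithin.coe_sub, Pi.sub_apply, hG₁Z _ hy, sub_zero,
      Groth.L22.SubBundle.pushC_apply_closed]
    exact h1 _ hy
  · refine Groth.L22.C1.RatOn.comap i₁ hd r₁ le_rfl _ fun w => ?_
    show (α₁ - Groth.L22.Chern.pushC j₁ (fun y => δ' (i₁ (j₁ y))) (fun x => δ' (i₁ x)) γ) w = G₁ (i₁ w)
    rw [Function.locallyFinsuppWithin.coe_sub, Pi.sub_apply]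
    by_cases hw : w ∈ Set.range j₁
    · obtain ⟨y, rfl⟩ := hw
      rw [Groth.L22.SubBundle.pushC_apply_closed j₁ (fun x => δ' (i₁ x)) γ y, hγ]
      show α₁ (j₁ y) - (A₁ - G₁) (i₁ (j₁ y)) = _
      rw [Function.locallyFinsuppWithin.coe_sub, Pi.sub_apply, Groth.L22.SubBundle.pushC_apply_closed]
      ring
    · rw [Groth.L22.SubBundle.pushC_outside j₁ (fun x => δ' (i₁ x)) γ hw, sub_zero]
      have h' : (A₁ - G₁) (i₁ w) = 0 := by_contra fun h => hw (by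
        obtain ⟨y, hy⟩ : i₁ w ∈ Set.range (j₁ ≫ i₁) := hY ▸ hYr _ h
        exact ⟨y, i₁.isClosedEmbedding.injective hy⟩)
      rw [Function.locallyFinsuppWithin.coe_sub, Pi.sub_apply, Groth.L22.SubBundle.pushC_apply_closed] at h'
      exact sub_eq_zero.1 h'
  · have hji : ∀ y, i₁ (j₁ y) = i₂ (j₂ y) := fun y => congrArg (fun q : Y ⟶ X => q y) hcomm
    have hδ2 : (fun y => δ' (i₁ (j₁ y))) = fun y => δ' (i₂ (j₂ y)) := funext fun y => congrArg δ' (hji y)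
    rw [hδ2]
    refine Groth.L22.C1.RatOn.comap i₂ hd r₂ le_rfl _ fun w => ?_
    show (α₂ - -Groth.L22.Chern.pushC j₂ (fun y => δ' (i₂ (j₂ y))) (fun x => δ' (i₂ x)) γ) w = G₂ (i₂ w)
    rw [sub_neg_eq_add, Function.locallyFinsuppWithin.coe_add, Pi.add_apply]
    have hk := key (i₂ w)
    simp only [A₂, Groth.L22.SubBundle.pushC_apply_closed] at hk
    by_cases hw : w ∈ Set.range j₂
    · obtain ⟨y, rfl⟩ := hw
      rw [Groth.L22.SubBundle.pushC_apply_closed j₂ (fun x => δ' (i₂ x)) γ y, hγ]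
      show α₂ (j₂ y) + (A₁ - G₁) (i₁ (j₁ y)) = _
      rw [hji, Function.locallyFinsuppWithin.coe_sub, Pi.sub_apply]
      linarith
    · rw [Groth.L22.SubBundle.pushC_outside j₂ (fun x => δ' (i₂ x)) γ hw, add_zero]
      have h' : (A₁ - G₁) (i₂ w) = 0 := by_contra fun h => hw (by
        obtain ⟨y, hy⟩ : i₂ w ∈ Set.range (j₁ ≫ i₁) := hY ▸ hYr _ h
        exact ⟨y, i₂.isClosedEmbedding.injective ((hji y).symm.trans hy)⟩)
      rw [Function.locallyFinsuppWithin.coe_sub, Pi.sub_apply] at h'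
      linarith

end Groth.L22.MV
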