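import Groth.Agent.L22.Herbrand
import Groth.Agent.L22.FiniteLength
import Mathlib.RingTheory.Noetherian.Basic
import Mathlib.RingTheory.Nakayama
import Mathlib.Tactic.LinearCombination
import Mathlib.Tactic.Linarith

/-!
The monomial lemma in dimension two: for a system of parameters `x, y` of nonzerodivisors in a
Noetherian local ring, `(xy)^k ∉ (x^(k+s), y^(k+s))` for some `s` and all `k`.
The proof compares Euler characteristics of the Koszul complex of powers of `x, y`.
-/

universe u v

namespace Groth.L22.Monomial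

variable {A : Type u} [CommRing A]

/-- length of the homology `((p) : q) / (p)`. -/
noncomputable def H (p q : A) : ℕ∞ :=
  Module.length A (LinearMap.ker (LinearMap.lsmul A (A ⧸ Ideal.span {p}) q))

/-- length of `A / (p, q)`. -/
noncomputable def C (p q : A) : ℕ∞ := Module.length A (A ⧸ Ideal.span {p, q})

theorem mk_smul (p a b : A) :
    a • (Submodule.Quotient.mk b : A ⧸ Ideal.span {p}) = Submodule.Quotient.mk (a * b) := rfl

theorem C_comm (p q : A) : C p q = C q p := by rw [C, C, Set.pair_comm]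

theorem length_coker (p q : A) :
    Module.length A ((A ⧸ Ideal.span {p}) ⧸
      LinearMap.range (LinearMap.lsmul A (A ⧸ Ideal.span {p}) q)) = C p q := by
  obtain ⟨e⟩ := length_surjections_eq
    ((LinearMap.range (LinearMap.lsmul A (A ⧸ Ideal.span {p}) q)).mkQ ∘ₗ (Ideal.span {p}).mkQ)
    (Ideal.span {p, q}).mkQ
    ((Submodule.mkQ_surjective _).comp (Submodule.mkQ_surjective _))
    (Submodule.mkQ_surjective _) (by
      rw [Submodule.ker_mkQ, LinearMap.ker_comp, Submodule.ker_mkQ]
      ext a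
      rw [Submodule.mem_comap, Ideal.mem_span_pair, LinearMap.mem_range]
      constructor
      · rintro ⟨m, hm⟩
        obtain ⟨b, rfl⟩ := Submodule.mkQ_surjective _ m
        rw [LinearMap.lsmul_apply, Submodule.mkQ_apply, Submodule.mkQ_apply, mk_smul,
          Submodule.Quotient.eq, Ideal.mem_span_singleton'] at hm
        obtain ⟨c, hc⟩ := hm
        exact ⟨-c, b, by linear_combination (-1 : A) * hc⟩
      · rintro ⟨c, b, rfl⟩
        refine ⟨Submodule.Quotient.mk b, ?_⟩
        rw [LinearMap.lsmul_apply, Submodule.mkQ_apply, mk_smul, Submodule.Quotient.eq,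
          Ideal.mem_span_singleton']
        exact ⟨-c, by ring⟩)
  exact e.length_eq

theorem H_comm {p q : A} (hp : p ∈ nonZeroDivisors A) (hq : q ∈ nonZeroDivisors A) :
    H p q = H q p := by
  let S : Submodule A (A × A) :=
    LinearMap.ker (p • LinearMap.fst A A A - q • LinearMap.snd A A A)
  have hS : ∀ w : S, p * w.1.1 = q * w.1.2 := fun w => sub_eq_zero.1 w.2
  let f : S →ₗ[A] LinearMap.ker (LinearMap.lsmul A (A ⧸ Ideal.span {p}) q) :=
    LinearMap.codRestrict _ ((Ideal.span {p}).mkQ ∘ₗ LinearMap.snd A A A ∘ₗ S.subtype) fun w => by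
      rw [LinearMap.mem_ker, LinearMap.lsmul_apply]
      change Submodule.Quotient.mk (q * w.1.2) = (0 : A ⧸ Ideal.span {p})
      rw [Submodule.Quotient.mk_eq_zero, ← hS w]
      exact Ideal.mul_mem_right _ _ (Ideal.mem_span_singleton_self p)
  let g : S →ₗ[A] LinearMap.ker (LinearMap.lsmul A (A ⧸ Ideal.span {q}) p) :=
    LinearMap.codRestrict _ ((Ideal.span {q}).mkQ ∘ₗ LinearMap.fst A A A ∘ₗ S.subtype) fun w => by
      rw [LinearMap.mem_ker, LinearMap.lsmul_apply]
      change Submodule.Quotient.mk (p * w.1.1) = (0 : A ⧸ Ideal.span {q})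
      rw [Submodule.Quotient.mk_eq_zero, hS w]
      exact Ideal.mul_mem_right _ _ (Ideal.mem_span_singleton_self q)
  have hf : Function.Surjective f := by
    rintro ⟨m, hm⟩
    obtain ⟨b, rfl⟩ := Submodule.mkQ_surjective _ m
    rw [LinearMap.mem_ker, LinearMap.lsmul_apply, Submodule.mkQ_apply, mk_smul,
      Submodule.Quotient.mk_eq_zero, Ideal.mem_span_singleton'] at hm
    obtain ⟨c, hc⟩ := hm
    exact ⟨⟨(c, b), show p * c - q * b = 0 by linear_combination hc⟩, rfl⟩
  have hg : Function.Surjective g := by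
    rintro ⟨m, hm⟩
    obtain ⟨b, rfl⟩ := Submodule.mkQ_surjective _ m
    rw [LinearMap.mem_ker, LinearMap.lsmul_apply, Submodule.mkQ_apply, mk_smul,
      Submodule.Quotient.mk_eq_zero, Ideal.mem_span_singleton'] at hm
    obtain ⟨c, hc⟩ := hm
    exact ⟨⟨(b, c), show p * b - q * c = 0 by linear_combination (-1 : A) * hc⟩, rfl⟩
  obtain ⟨e⟩ := length_surjections_eq f g hf hg (by
    ext w
    have h1 : f w = 0 ↔ w.1.2 ∈ Ideal.span {p} :=
      Subtype.ext_iff.trans (Submodule.Quotient.mk_eq_zero _)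
    have h2 : g w = 0 ↔ w.1.1 ∈ Ideal.span {q} :=
      Subtype.ext_iff.trans (Submodule.Quotient.mk_eq_zero _)
    rw [LinearMap.mem_ker, LinearMap.mem_ker, h1, h2, Ideal.mem_span_singleton',
      Ideal.mem_span_singleton']
    have hw := hS w
    constructor
    · rintro ⟨c, hc⟩
      refine ⟨c, (mul_cancel_left_mem_nonZeroDivisors hp).1 ?_⟩
      rw [hw, ← hc]; ring
    · rintro ⟨c, hc⟩
      refine ⟨c, (mul_cancel_left_mem_nonZeroDivisors hq).1 ?_⟩
      rw [← hw, ← hc]; ring)
  exact e.length_eq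

section Additivity

variable {M : Type v} [AddCommGroup M] [Module A M]

/-- Length identity for a composition of two commuting endomorphisms. -/
theorem length_comp (f g : M →ₗ[A] M) :
    Module.length A (LinearMap.ker f) + Module.length A (LinearMap.ker g) +
        Module.length A (M ⧸ LinearMap.range (g ∘ₗ f)) =
      Module.length A (LinearMap.ker (g ∘ₗ f)) + Module.length A (M ⧸ LinearMap.range f) +
        Module.length A (M ⧸ LinearMap.range g) := by
  have hcD : LinearMap.range f ≤ (LinearMap.range (g ∘ₗ f)).comap g := by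
    rintro _ ⟨z, rfl⟩; exact ⟨z, rfl⟩
  have hr : LinearMap.range (g ∘ₗ f) ≤ LinearMap.range g := LinearMap.range_comp_le_range f g
  refine length_hexagon
    (Submodule.inclusion (show LinearMap.ker f ≤ LinearMap.ker (g ∘ₗ f) from
      LinearMap.ker_le_ker_comp f g))
    (f.restrict (fun z hz => (show g (f z) = 0 from hz) :
      ∀ z ∈ LinearMap.ker (g ∘ₗ f), f z ∈ LinearMap.ker g))
    ((LinearMap.range f).mkQ ∘ₗ (LinearMap.ker g).subtype)
    (Submodule.mapQ _ _ g hcD)
    (Submodule.factor hr)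
    0 ?_ ?_ ?_ ?_ ?_ ?_
  · rintro ⟨z, hz⟩
    constructor
    · intro h
      exact ⟨⟨z, congrArg Subtype.val h⟩, rfl⟩
    · rintro ⟨⟨w, hw⟩, hwz⟩
      rw [← hwz]
      exact Subtype.ext hw
  · rintro ⟨z, hz⟩
    constructor
    · intro h
      obtain ⟨w, hw⟩ := (Submodule.Quotient.mk_eq_zero _).1 h
      refine ⟨⟨w, show g (f w) = 0 by rw [hw]; exact hz⟩, Subtype.ext hw⟩
    · rintro ⟨⟨w, hw⟩, hwz⟩
      exact (Submodule.Quotient.mk_eq_zero _).2 ⟨w, congrArg Subtype.val hwz⟩
  · intro m
    obtain ⟨z, rfl⟩ := Submodule.mkQ_surjective _ m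
    constructor
    · intro h
      rw [Submodule.mkQ_apply, Submodule.mapQ_apply, Submodule.Quotient.mk_eq_zero] at h
      obtain ⟨w, hw⟩ := h
      refine ⟨⟨z - f w, ?_⟩, ?_⟩
      · rw [LinearMap.mem_ker, map_sub, sub_eq_zero]; exact hw.symm
      · refine (Submodule.Quotient.eq _).2 ⟨-w, ?_⟩
        rw [map_neg]
        change -f w = z - f w - z
        abel
    · rintro ⟨⟨w, hw⟩, hwz⟩
      rw [← hwz]
      change Submodule.Quotient.mk (g w) = (0 : M ⧸ LinearMap.range (g ∘ₗ f))
      rw [LinearMap.mem_ker.1 hw, Submodule.Quotient.mk_zero]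
  · intro m
    obtain ⟨z, rfl⟩ := Submodule.mkQ_surjective _ m
    constructor
    · intro h
      obtain ⟨w, hw⟩ := (Submodule.Quotient.mk_eq_zero _).1 h
      exact ⟨Submodule.Quotient.mk w, congrArg Submodule.Quotient.mk hw⟩
    · rintro ⟨n, hn⟩
      obtain ⟨w, rfl⟩ := Submodule.mkQ_surjective _ n
      rw [← hn]
      exact (Submodule.Quotient.mk_eq_zero _).2 ⟨w, rfl⟩
  · intro m
    simp only [LinearMap.zero_apply, true_iff]
    obtain ⟨z, rfl⟩ := Submodule.mkQ_surjective _ m
    exact ⟨Submodule.Quotient.mk z, rfl⟩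
  · intro z
    constructor
    · intro h
      exact ⟨0, by simpa using (Submodule.inclusion_injective _ (h.trans (map_zero _).symm)).symm⟩
    · rintro ⟨w, hw⟩
      rw [← hw]
      simp

theorem length_ker_comp_le (f g : M →ₗ[A] M) :
    Module.length A (LinearMap.ker (g ∘ₗ f)) ≤
      Module.length A (LinearMap.ker f) + Module.length A (LinearMap.ker g) := by
  refine length_le_add_of_exact (f := Submodule.inclusion (LinearMap.ker_le_ker_comp f g))
    (g := f.restrict (fun z hz => (show g (f z) = 0 from hz) :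
      ∀ z ∈ LinearMap.ker (g ∘ₗ f), f z ∈ LinearMap.ker g)) ?_
  rintro ⟨z, hz⟩
  constructor
  · intro h
    exact ⟨⟨z, congrArg Subtype.val h⟩, rfl⟩
  · rintro ⟨⟨w, hw⟩, hwz⟩
    rw [← hwz]
    exact Subtype.ext hw

end Additivity

theorem lsmul_mul (p q q' : A) :
    LinearMap.lsmul A (A ⧸ Ideal.span {p}) (q * q') =
      (LinearMap.lsmul A _ q') ∘ₗ (LinearMap.lsmul A _ q) := by
  refine LinearMap.ext fun m => ?_
  rw [LinearMap.comp_apply, LinearMap.lsmul_apply, LinearMap.lsmul_apply, LinearMap.lsmul_apply,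
    smul_smul, mul_comm]

theorem H_mul_le (p q q' : A) : H p (q * q') ≤ H p q + H p q' := by
  rw [H, lsmul_mul]; exact length_ker_comp_le _ _

theorem H_add_C (p q q' : A) :
    H p q + H p q' + C p (q * q') = H p (q * q') + C p q + C p q' := by
  simp only [← length_coker, H]
  rw [lsmul_mul]
  exact length_comp _ _

theorem H_mono_pow (p q : A) {m n : ℕ} (h : m ≤ n) : H p (q ^ m) ≤ H p (q ^ n) := by
  refine Module.length_le_of_injective (Submodule.inclusion ?_) (Submodule.inclusion_injective _)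
  intro z hz
  obtain ⟨d, rfl⟩ := Nat.exists_eq_add_of_le h
  rw [LinearMap.mem_ker, LinearMap.lsmul_apply] at hz ⊢
  rw [add_comm, pow_add, mul_smul, hz, smul_zero]

variable [IsNoetherianRing A] [IsLocalRing A]

/-- A system of parameters of nonzerodivisors. -/
structure Param (p q : A) : Prop where
  left : p ∈ nonZeroDivisors A
  right : q ∈ nonZeroDivisors A
  rad : IsLocalRing.maximalIdeal A ≤ (Ideal.span {p, q}).radical

omit [IsNoetherianRing A] in
theorem Param.symm {p q : A} (h : Param p q) : Param q p :=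
  ⟨h.right, h.left, by rw [Set.pair_comm]; exact h.rad⟩

omit [IsNoetherianRing A] in
theorem Param.pow_right {p q : A} (h : Param p q) {n : ℕ} (hn : n ≠ 0) : Param p (q ^ n) := by
  refine ⟨h.left, pow_mem h.right n, h.rad.trans (Ideal.radical_le_radical_iff.2 ?_)⟩
  rw [Ideal.span_le]
  intro z hz
  rcases hz with hz | hz
  · subst hz; exact Ideal.le_radical (Ideal.subset_span (Set.mem_insert _ _))
  · rw [Set.mem_singleton_iff.1 hz]
    exact ⟨n, Ideal.subset_span (Set.mem_insert_of_mem _ rfl)⟩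

omit [IsNoetherianRing A] in
theorem Param.pow_pow {p q : A} (h : Param p q) {m n : ℕ} (hm : m ≠ 0) (hn : n ≠ 0) :
    Param (p ^ m) (q ^ n) :=
  ((h.pow_right hn).symm.pow_right hm).symm

omit [IsNoetherianRing A] in
theorem eq_maximal {p q : A} (h : Param p q) {P : PrimeSpectrum A} (hp : p ∈ P.asIdeal)
    (hq : q ∈ P.asIdeal) : P.asIdeal = IsLocalRing.maximalIdeal A := by
  refine le_antisymm (IsLocalRing.le_maximalIdeal P.2.ne_top) (h.rad.trans ?_)
  rw [P.2.radical_le_iff, Ideal.span_le]
  intro z hz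
  rcases hz with hz | hz
  · subst hz; exact hp
  · rw [Set.mem_singleton_iff.1 hz]; exact hq

theorem H_lt_top {p q : A} (h : Param p q) : H p q < ⊤ := by
  refine length_lt_top_of_support_isMaximal fun P hP => ?_
  have hann : ∀ a : A, (∀ m : LinearMap.ker (LinearMap.lsmul A (A ⧸ Ideal.span {p}) q),
      a • m = 0) → a ∈ P.asIdeal := fun a ha =>
    Module.annihilator_le_of_mem_support hP (Module.mem_annihilator.2 ha)
  rw [eq_maximal h (hann p fun m => Subtype.ext ?_) (hann q fun m => Subtype.ext ?_)]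
  · exact IsLocalRing.maximalIdeal.isMaximal A
  · obtain ⟨b, hb⟩ := Submodule.mkQ_surjective _ (m : A ⧸ Ideal.span {p})
    rw [SetLike.val_smul, ← hb, Submodule.mkQ_apply, mk_smul, ZeroMemClass.coe_zero,
      Submodule.Quotient.mk_eq_zero]
    exact Ideal.mul_mem_right _ _ (Ideal.mem_span_singleton_self p)
  · exact m.2

theorem C_lt_top {p q : A} (h : Param p q) : C p q < ⊤ := by
  refine length_lt_top_of_support_isMaximal fun P hP => ?_
  rw [Module.support_eq_zeroLocus, Ideal.annihilator_quotient] at hP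
  rw [eq_maximal h (hP (Ideal.subset_span (Set.mem_insert _ _)))
    (hP (Ideal.subset_span (Set.mem_insert_of_mem _ rfl)))]
  exact IsLocalRing.maximalIdeal.isMaximal A

/-- Euler characteristic. -/
noncomputable def e (p q : A) : ℤ := ((C p q).toNat : ℤ) - (H p q).toNat

theorem e_comm {p q : A} (h : Param p q) : e p q = e q p := by
  rw [e, e, C_comm, H_comm h.left h.right]

theorem e_mul {p q q' : A} (h : Param p q) (h' : Param p q') (h'' : Param p (q * q')) :
    e p (q * q') = e p q + e p q' := by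
  have := H_add_C p q q'
  have a := H_lt_top h; have b := H_lt_top h'; have c := H_lt_top h''
  have a' := C_lt_top h; have b' := C_lt_top h'; have c' := C_lt_top h''
  unfold e
  lift H p q to ℕ using a.ne with A1
  lift H p q' to ℕ using b.ne with A2
  lift H p (q * q') to ℕ using c.ne with A3
  lift C p q to ℕ using a'.ne with B1
  lift C p q' to ℕ using b'.ne with B2
  lift C p (q * q') to ℕ using c'.ne with B3
  simp only [ENat.toNat_natCast]
  have h1 : A1 + A2 + B3 = A3 + B1 + B2 := by exact_mod_cast this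
  omega

theorem e_pow_right {p q : A} (h : Param p q) {n : ℕ} (hn : n ≠ 0) :
    e p (q ^ n) = n * e p q := by
  induction n with
  | zero => exact absurd rfl hn
  | succ n ih =>
    rcases Nat.eq_zero_or_pos n with rfl | hpos
    · simp
    · rw [pow_succ, e_mul (h.pow_right hpos.ne') h (by rw [← pow_succ]; exact h.pow_right hn),
        ih hpos.ne']
      push_cast
      ring

theorem e_pow_pow {p q : A} (h : Param p q) {m n : ℕ} (hm : m ≠ 0) (hn : n ≠ 0) :
    e (p ^ m) (q ^ n) = m * (n * e p q) := by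
  rw [e_comm (h.pow_pow hm hn), e_pow_right (h.pow_right hn).symm hm, e_comm (h.pow_right hn).symm,
    e_pow_right h hn]

/-- Kernels of all powers of `q` on `A / (p)` have bounded length. -/
theorem exists_H_bound {p q : A} (h : Param p q) :
    ∃ c : ℕ, ∀ n, H p (q ^ n) ≤ c := by
  let f : ℕ →o Submodule A (A ⧸ Ideal.span {p}) :=
    ⟨fun n => LinearMap.ker (LinearMap.lsmul A (A ⧸ Ideal.span {p}) (q ^ n)),
      fun m n hmn z hz => by
        obtain ⟨d, rfl⟩ := Nat.exists_eq_add_of_le hmn
        rw [LinearMap.mem_ker, LinearMap.lsmul_apply] at hz ⊢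
        rw [add_comm, pow_add, mul_smul, hz, smul_zero]⟩
  obtain ⟨N, hN⟩ := monotone_stabilizes_iff_noetherian.2 (inferInstance :
    IsNoetherian A (A ⧸ Ideal.span {p})) f
  refine ⟨(H p (q ^ (N + 1))).toNat, fun n => ?_⟩
  rw [ENat.natCast_toNat (H_lt_top (h.pow_right N.succ_ne_zero)).ne]
  rcases le_total n (N + 1) with hn | hn
  · exact H_mono_pow p q hn
  · have h1 := hN n (by omega)
    have h2 := hN (N + 1) (by omega)
    exact le_of_eq (LinearEquiv.ofEq _ _ (h1.symm.trans h2)).length_eq

/-- The Euler characteristic of a system of parameters is positive. -/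
theorem one_le_e {x y : A} (h : Param x y) (hx : x ∈ IsLocalRing.maximalIdeal A)
    (hxy : ∀ k : ℕ, x ^ k ∉ Ideal.span {y}) :
    1 ≤ e x y := by
  obtain ⟨c, hc⟩ := exists_H_bound h.symm
  have hlen : ∀ n : ℕ, (n : ℕ∞) ≤ C y (x ^ n) := by
    intro n
    induction n with
    | zero => simp
    | succ n ih =>
      have hle : Ideal.span {y, x ^ (n + 1)} ≤ Ideal.span {y, x ^ n} := by
        rw [Ideal.span_le]
        intro z hz
        rcases hz with hz | hz
        · subst hz; exact Ideal.subset_span (Set.mem_insert _ _)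
        · rw [Set.mem_singleton_iff.1 hz, pow_succ']
          exact Ideal.mul_mem_left _ _ (Ideal.subset_span (Set.mem_insert_of_mem _ rfl))
      rw [C, length_eq_ker_add_range (Submodule.factor hle),
        LinearMap.range_eq_top.2 (Submodule.factor_surjective hle),
        (LinearEquiv.ofTop _ rfl).length_eq, Nat.cast_succ, add_comm (n : ℕ∞)]
      refine add_le_add ?_ ih
      rw [ENat.one_le_iff_ne_zero]
      intro h0
      have hsub := Module.length_eq_zero_iff.1 h0
      have hmem : (Submodule.Quotient.mk (x ^ n) : A ⧸ Ideal.span {y, x ^ (n + 1)}) ∈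
          LinearMap.ker (Submodule.factor hle) := by
        rw [LinearMap.mem_ker]
        exact (Submodule.Quotient.mk_eq_zero _).2 (Ideal.subset_span (Set.mem_insert_of_mem _ rfl))
      have h1 := congrArg Subtype.val (hsub.elim ⟨_, hmem⟩ 0)
      rw [ZeroMemClass.coe_zero, Submodule.Quotient.mk_eq_zero, Ideal.mem_span_pair] at h1
      obtain ⟨a, b, hab⟩ := h1
      have hu : IsUnit (1 - b * x) := IsLocalRing.isUnit_one_sub_self_of_mem_nonunits _
        ((IsLocalRing.mem_maximalIdeal _).1 (Ideal.mul_mem_left _ b hx))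
      obtain ⟨w, hw⟩ := hu.exists_left_inv
      exact hxy n (Ideal.mem_span_singleton'.2 ⟨w * a, by
        linear_combination w * hab + x ^ n * hw⟩)
  have h1 := hlen (c + 1)
  have hp : Param y (x ^ (c + 1)) := h.symm.pow_right c.succ_ne_zero
  have h2 := e_pow_right h.symm (c.succ_ne_zero)
  have h3 := hc (c + 1)
  rw [e_comm h]
  rw [show e y (x ^ (c + 1)) = ((C y (x ^ (c + 1))).toNat : ℤ) - (H y (x ^ (c + 1))).toNat
    from rfl] at h2
  have a := C_lt_top hp; have b := H_lt_top hp
  lift C y (x ^ (c + 1)) to ℕ using a.ne with C0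
  lift H y (x ^ (c + 1)) to ℕ using b.ne with H0
  simp only [ENat.toNat_natCast] at h2
  have h1' : c + 1 ≤ C0 := by exact_mod_cast h1
  have h3' : H0 ≤ c := by exact_mod_cast h3
  by_contra hcon
  push Not at hcon
  have : ((c : ℤ) + 1) * e y x ≤ 0 :=
    mul_nonpos_of_nonneg_of_nonpos (by positivity) (by omega)
  push_cast at h2
  omega

/-- The monomial lemma. -/
theorem exists_forall_ne {x y : A} (h : Param x y) (hx : x ∈ IsLocalRing.maximalIdeal A)
    (hxy : ∀ k : ℕ, x ^ k ∉ Ideal.span {y}) :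
    ∃ s : ℕ, ∀ (k : ℕ) (a b : A), (x * y) ^ k ≠ a * x ^ (k + s) + b * y ^ (k + s) := by
  obtain ⟨c, hc⟩ := exists_H_bound h
  refine ⟨c + 1, fun k0 a0 b0 hrel0 => ?_⟩
  obtain ⟨k, a, b, hk, hrel⟩ : ∃ (k : ℕ) (a b : A), k ≠ 0 ∧
      (x * y) ^ k = a * x ^ (k + (c + 1)) + b * y ^ (k + (c + 1)) :=
    ⟨k0 + 1, a0 * y, b0 * x, k0.succ_ne_zero, by
      linear_combination (x * y) * hrel0⟩
  -- `H (y^N) (x^m) ≤ m c`
  have hbound : ∀ N m : ℕ, N ≠ 0 → H (y ^ N) (x ^ m) ≤ ((m * c : ℕ) : ℕ∞) := by
    intro N m hN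
    induction m with
    | zero =>
      have : LinearMap.ker (LinearMap.lsmul A (A ⧸ Ideal.span {y ^ N}) (x ^ 0)) = ⊥ := by
        rw [pow_zero, LinearMap.ker_eq_bot]
        intro z w hzw
        simpa using hzw
      rw [H, this, zero_mul, Nat.cast_zero, nonpos_iff_eq_zero, Module.length_eq_zero_iff]
      infer_instance
    | succ m ih =>
      rw [pow_succ, Nat.succ_mul, Nat.cast_add]
      refine (H_mul_le _ _ _).trans (add_le_add ih ?_)
      rw [← H_comm h.left (pow_mem h.right N)]
      exact hc N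
  let s := c + 1
  have hN : k + s ≠ 0 := by omega
  have hs : s ≠ 0 := c.succ_ne_zero
  have hex : C (x ^ (k + s)) (y ^ (k + s)) ≤ C (x ^ s) (y ^ k) + C (x ^ k) (y ^ (k + s)) := by
    have hle1 : Ideal.span {x ^ s, y ^ k} ≤ Submodule.comap (LinearMap.lsmul A A (x ^ k))
        (Ideal.span {x ^ (k + s), y ^ (k + s)}) := by
      refine Submodule.span_le.2 ?_
      intro z hz
      rw [SetLike.mem_coe, Submodule.mem_comap, LinearMap.lsmul_apply, smul_eq_mul]
      rcases hz with hz | hz
      · rw [hz, ← pow_add]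
        exact Ideal.subset_span (Set.mem_insert _ _)
      · rw [Set.mem_singleton_iff.1 hz, ← mul_pow]
        exact Ideal.mem_span_pair.2 ⟨a, b, hrel.symm⟩
    have hle2 : Ideal.span {x ^ (k + s), y ^ (k + s)} ≤ Ideal.span {x ^ k, y ^ (k + s)} := by
      rw [Ideal.span_le]
      intro z hz
      rcases hz with hz | hz
      · rw [hz, pow_add x k s]
        exact Ideal.mul_mem_right _ _ (Ideal.subset_span (Set.mem_insert _ _))
      · exact Ideal.subset_span (Set.mem_insert_of_mem _ hz)
    refine length_le_add_of_exact (f := Submodule.mapQ _ _ (LinearMap.lsmul A A (x ^ k)) hle1)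
      (g := Submodule.factor hle2) ?_
    intro m
    obtain ⟨z, rfl⟩ := Submodule.mkQ_surjective _ m
    constructor
    · intro hz
      obtain ⟨p, q, hpq⟩ := Ideal.mem_span_pair.1 ((Submodule.Quotient.mk_eq_zero _).1 hz)
      refine ⟨Submodule.Quotient.mk p, ?_⟩
      rw [Submodule.mapQ_apply, LinearMap.lsmul_apply, smul_eq_mul, Submodule.mkQ_apply,
        Submodule.Quotient.eq, Ideal.mem_span_pair]
      exact ⟨0, -q, by linear_combination (-1 : A) * hpq⟩
    · rintro ⟨n, hn⟩
      obtain ⟨p, rfl⟩ := Submodule.mkQ_surjective _ n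
      rw [← hn]
      exact (Submodule.Quotient.mk_eq_zero _).2
        (Ideal.mul_mem_right _ _ (Ideal.subset_span (Set.mem_insert _ _)))
  have he := one_le_e h hx hxy
  have p1 := h.pow_pow hN hN
  have p2 := h.pow_pow hs hk
  have p3 := h.pow_pow hk hN
  have e1 := e_pow_pow h hN hN
  have e2 := e_pow_pow h hs hk
  have e3 := e_pow_pow h hk hN
  generalize hE : e x y = E at he e1 e2 e3
  unfold e at e1 e2 e3
  have t1 := hbound k s hk
  have t2 : H (x ^ k) (y ^ (k + s)) ≤ H (x ^ (k + s)) (y ^ (k + s)) := by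
    rw [H_comm p3.left p3.right, H_comm p1.left p1.right]
    exact H_mono_pow _ _ (Nat.le_add_right _ _)
  rw [← H_comm p2.left p2.right] at t1
  have a1 := C_lt_top p1; have a2 := C_lt_top p2; have a3 := C_lt_top p3
  have b1 := H_lt_top p1; have b2 := H_lt_top p2; have b3 := H_lt_top p3
  lift C (x ^ (k + s)) (y ^ (k + s)) to ℕ using a1.ne with C1
  lift C (x ^ s) (y ^ k) to ℕ using a2.ne with C2
  lift C (x ^ k) (y ^ (k + s)) to ℕ using a3.ne with C3
  lift H (x ^ (k + s)) (y ^ (k + s)) to ℕ using b1.ne with H1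
  lift H (x ^ s) (y ^ k) to ℕ using b2.ne with H2
  lift H (x ^ k) (y ^ (k + s)) to ℕ using b3.ne with H3
  simp only [ENat.toNat_natCast] at e1 e2 e3
  have hex' : (C1 : ℤ) ≤ C2 + C3 := by exact_mod_cast hex
  have t1' : (H2 : ℤ) ≤ s * c := by exact_mod_cast t1
  have t2' : (H3 : ℤ) ≤ H1 := by exact_mod_cast t2
  have hsc : (s : ℤ) = c + 1 := by simp [s]
  push_cast at e1 e2 e3
  have key : (s : ℤ) * s * E =
      ((C1 : ℤ) - H1) - ((C2 : ℤ) - H2) - ((C3 : ℤ) - H3) := by
    rw [e1, e2, e3]; ring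
  have h4 : (s : ℤ) * s * 1 ≤ (s : ℤ) * s * E := mul_le_mul_of_nonneg_left he (by positivity)
  have h5 : (s : ℤ) * s ≤ s * c := by linarith
  have h6 : (s : ℤ) * s = s * c + s := by rw [hsc]; ring
  linarith [Int.natCast_nonneg c]

end Groth.L22.Monomial
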