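import Mathlib.RingTheory.PolynomialLaw.Basic
import Mathlib.LinearAlgebra.TensorProduct.Finiteness

/-!
Polynomial laws are determined by, and can be built from, their values on polynomial rings in
finitely many variables.
-/

universe u v w

open scoped TensorProduct

namespace Groth.L22.PolLawExt

variable {A : Type u} [CommRing A] {M : Type v} [AddCommGroup M] [Module A M]
  {N : Type w} [AddCommGroup N] [Module A N]

local notation "Pol" k => MvPolynomial (Fin k) A

variable (T : ∀ n : ℕ, MvPolynomial (Fin n) A ⊗[A] M → MvPolynomial (Fin n) A ⊗[A] N)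
  (hT : ∀ (n m : ℕ) (φ : MvPolynomial (Fin n) A →ₐ[A] MvPolynomial (Fin m) A),
    φ.toLinearMap.rTensor N ∘ T n = T m ∘ φ.toLinearMap.rTensor M)

include hT in
theorem compat_apply {n m : ℕ} (φ : (Pol n) →ₐ[A] (Pol m)) (x : (Pol n) ⊗[A] M) :
    φ.toLinearMap.rTensor N (T n x) = T m (φ.toLinearMap.rTensor M x) :=
  congr_fun (hT n m φ) x

include hT in
/-- Two points differing by the kernel of a map out of a polynomial ring have the same image. -/
theorem apply_eq_of_surjective {k : ℕ} {S : Type u} [CommSemiring S] [Algebra A S]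
    (χ : (Pol k) →ₐ[A] S) (hχ : Function.Surjective χ) (p q : (Pol k) ⊗[A] M)
    (h : χ.toLinearMap.rTensor M p = χ.toLinearMap.rTensor M q) :
    χ.toLinearMap.rTensor N (T k p) = χ.toLinearMap.rTensor N (T k q) := by
  classical
  letI : AddCommGroup S := Module.addCommMonoidToAddCommGroup A
  let K := LinearMap.ker χ.toLinearMap
  have hex : Function.Exact (K.subtype.rTensor M) (χ.toLinearMap.rTensor M) :=
    rTensor_exact M (LinearMap.exact_subtype_ker_map χ.toLinearMap) hχ
  obtain ⟨w, hw⟩ := (hex (p - q)).1 (by rw [map_sub, h, sub_self])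
  obtain ⟨r, a, m, rfl⟩ := TensorProduct.exists_sum_tmul_eq w
  -- the universal element in new variables
  let ι : (Pol k) →ₐ[A] (Pol (k + r)) := MvPolynomial.rename (Fin.castAdd r)
  let φ₀ : (Pol (k + r)) →ₐ[A] (Pol k) :=
    MvPolynomial.aeval (Fin.addCases MvPolynomial.X fun _ => 0)
  let φ₁ : (Pol (k + r)) →ₐ[A] (Pol k) :=
    MvPolynomial.aeval (Fin.addCases MvPolynomial.X fun i => (a i : Pol k))
  have h0ι : φ₀.comp ι = AlgHom.id A _ := by
    ext i; simp [ι, φ₀, MvPolynomial.rename_X, Fin.addCases_left]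
  have h1ι : φ₁.comp ι = AlgHom.id A _ := by
    ext i; simp [ι, φ₁, MvPolynomial.rename_X, Fin.addCases_left]
  let z : (Pol (k + r)) ⊗[A] M :=
    ι.toLinearMap.rTensor M q + ∑ i, MvPolynomial.X (Fin.natAdd k i) ⊗ₜ[A] m i
  have hz0 : φ₀.toLinearMap.rTensor M z = q := by
    simp only [z, map_add, map_sum, ← LinearMap.rTensor_comp_apply, ← AlgHom.comp_toLinearMap,
      h0ι, LinearMap.rTensor_tmul, AlgHom.toLinearMap_apply, AlgHom.toLinearMap_id,
      LinearMap.rTensor_id, LinearMap.id_apply]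
    simp [φ₀, Fin.addCases_right]
  have hz1 : φ₁.toLinearMap.rTensor M z = p := by
    simp only [z, map_add, map_sum, ← LinearMap.rTensor_comp_apply, ← AlgHom.comp_toLinearMap,
      h1ι, LinearMap.rTensor_tmul, AlgHom.toLinearMap_apply, AlgHom.toLinearMap_id,
      LinearMap.rTensor_id, LinearMap.id_apply]
    have : ∀ i, φ₁ (MvPolynomial.X (Fin.natAdd k i)) = (a i : Pol k) := fun i => by
      simp [φ₁, Fin.addCases_right]
    simp only [map_sum, LinearMap.rTensor_tmul, Submodule.subtype_apply] at hw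
    simp only [this, hw]
    abel
  have hχφ : χ.comp φ₀ = χ.comp φ₁ := by
    apply MvPolynomial.algHom_ext
    intro i
    refine Fin.addCases (fun j => ?_) (fun j => ?_) i
    · simp [φ₀, φ₁, Fin.addCases_left]
    · have ha : χ (a j : Pol k) = 0 := (a j).2
      simp [φ₀, φ₁, Fin.addCases_right, ha]
  calc χ.toLinearMap.rTensor N (T k p)
      = (χ.comp φ₁).toLinearMap.rTensor N (T (k + r) z) := by
        rw [AlgHom.comp_toLinearMap, LinearMap.rTensor_comp_apply, compat_apply T hT, hz1]
    _ = (χ.comp φ₀).toLinearMap.rTensor N (T (k + r) z) := by rw [hχφ]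
    _ = χ.toLinearMap.rTensor N (T k q) := by
        rw [AlgHom.comp_toLinearMap, LinearMap.rTensor_comp_apply, compat_apply T hT, hz0]

include hT in
theorem apply_eq_of_same {n : ℕ} {S : Type u} [CommSemiring S] [Algebra A S]
    (φ : (Pol n) →ₐ[A] S) (p q : (Pol n) ⊗[A] M)
    (h : φ.toLinearMap.rTensor M p = φ.toLinearMap.rTensor M q) :
    φ.toLinearMap.rTensor N (T n p) = φ.toLinearMap.rTensor N (T n q) := by
  have hfg : φ.range.FG := by
    rw [← Algebra.map_top]; exact Subalgebra.FG.map _ Algebra.FiniteType.out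
  have hsub : φ.range.val.comp φ.rangeRestrict = φ := φ.val_comp_rangeRestrict
  obtain ⟨B, hle, ⟨t, ht⟩, hB⟩ := TensorProduct.Algebra.eq_of_fg_of_subtype_eq (R := A) hfg
    (t := φ.rangeRestrict.toLinearMap.rTensor M p) (t' := φ.rangeRestrict.toLinearMap.rTensor M q)
    (by simp only [← LinearMap.rTensor_comp_apply, ← AlgHom.comp_toLinearMap, hsub, h])
  let χ : (Pol t.card) →ₐ[A] B :=
    (PolynomialLaw.φ A t).codRestrict B (fun x => by
      rw [← ht, ← PolynomialLaw.range_φ A t]; exact ⟨x, rfl⟩)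
  have hχ : Function.Surjective χ := by
    rintro ⟨b, hb⟩
    rw [← ht, ← PolynomialLaw.range_φ A t] at hb
    obtain ⟨x, hx⟩ := hb
    exact ⟨x, Subtype.ext hx⟩
  let ψ : (Pol n) →ₐ[A] B := (Subalgebra.inclusion hle).comp φ.rangeRestrict
  choose g hg using fun i => hχ (ψ (MvPolynomial.X i))
  let γ : (Pol n) →ₐ[A] (Pol t.card) := MvPolynomial.aeval g
  have hγ : χ.comp γ = ψ := MvPolynomial.algHom_ext fun i => by simp [γ, hg]
  have key := apply_eq_of_surjective T hT χ hχ (γ.toLinearMap.rTensor M p)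
    (γ.toLinearMap.rTensor M q) (by
      simp only [← LinearMap.rTensor_comp_apply, ← AlgHom.comp_toLinearMap, hγ, ψ]
      simp only [AlgHom.comp_toLinearMap, LinearMap.rTensor_comp_apply]
      exact hB)
  simp only [← compat_apply T hT, ← LinearMap.rTensor_comp_apply, ← AlgHom.comp_toLinearMap,
    hγ] at key
  have hBψ : B.val.comp ψ = φ := AlgHom.ext fun x => rfl
  rw [← hBψ, AlgHom.comp_toLinearMap, LinearMap.rTensor_comp_apply, key,
    ← LinearMap.rTensor_comp_apply]

include hT in
theorem apply_eq {n m : ℕ} {S : Type u} [CommSemiring S] [Algebra A S]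
    (φ : (Pol n) →ₐ[A] S) (ψ : (Pol m) →ₐ[A] S) (p : (Pol n) ⊗[A] M) (q : (Pol m) ⊗[A] M)
    (h : φ.toLinearMap.rTensor M p = ψ.toLinearMap.rTensor M q) :
    φ.toLinearMap.rTensor N (T n p) = ψ.toLinearMap.rTensor N (T m q) := by
  let ιn : (Pol n) →ₐ[A] (Pol (n + m)) := MvPolynomial.rename (Fin.castAdd m)
  let ιm : (Pol m) →ₐ[A] (Pol (n + m)) := MvPolynomial.rename (Fin.natAdd n)
  let Φ : (Pol (n + m)) →ₐ[A] S :=
    MvPolynomial.aeval (Fin.addCases (fun i => φ (MvPolynomial.X i)) fun i => ψ (MvPolynomial.X i))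
  have hn : Φ.comp ιn = φ := MvPolynomial.algHom_ext fun i => by
    simp [Φ, ιn, Fin.addCases_left]
  have hm : Φ.comp ιm = ψ := MvPolynomial.algHom_ext fun i => by
    simp [Φ, ιm, Fin.addCases_right]
  have key := apply_eq_of_same T hT Φ (ιn.toLinearMap.rTensor M p) (ιm.toLinearMap.rTensor M q)
    (by simp only [← LinearMap.rTensor_comp_apply, ← AlgHom.comp_toLinearMap, hn, hm]; exact h)
  simp only [← compat_apply T hT, ← LinearMap.rTensor_comp_apply, ← AlgHom.comp_toLinearMap,
    hn, hm] at key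
  exact key

end Groth.L22.PolLawExt
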