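import Groth.Agent.L06.LocalDimFlat
import Groth.Agent.L23.FibreDimBC
import Groth.Agent.L03.FibreLocalDim
import Groth.Agent.S1919
import Groth.Agent.L07.SyntOverField

/-!
Dimension of products and of base changes over a field.
-/

set_option autoImplicit false
set_option linter.style.haveILetI false
set_option backward.isDefEq.respectTransparency.types false
set_option backward.isDefEq.respectTransparency false
set_option maxSynthPendingDepth 3

universe u

open CategoryTheory CategoryTheory.Limits AlgebraicGeometry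

attribute [local instance] Curv2.resAlgebra

namespace Groth.L22.ProductDim

variable {k : Type u} [Field k]

/-- Over a field the fibre dimension is the local dimension. -/
theorem fibreDimAt_eq_localDim {X : Scheme.{u}} (f : X ⟶ Spec (CommRingCat.of k)) (x : X) :
    FlatMor.fibreDimAt f x = FlatMor.localDim X x := by
  have hs : Function.Surjective (f.fiberι (f x)) := fun a => by
    have h : a ∈ Set.range (f.fiberι (f x)) := by
      rw [f.range_fiberι]
      exact Subsingleton.elim (α := PrimeSpectrum k) _ _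
    exact h
  let e := ((f.fiberι (f x)).isEmbedding.toHomeomorphOfSurjective hs)
  have h := Groth.L03.FibreLocalDim.localDim_homeomorph e (f.asFiber x)
  rw [show e (f.asFiber x) = x from f.fiberι_asFiber x] at h
  exact h.symm

theorem rtrdeg_structure {X : Scheme.{u}} (f : X ⟶ Spec (CommRingCat.of k)) [LocallyOfFiniteType f] (x : X) :
    ∃ A B : ℕ, Cyc.rtrdeg f x = A ∧ ringKrullDim (X.presheaf.stalk x) = (B : WithBot ℕ∞) ∧
      FlatMor.localDim X x = ((A + B : ℕ) : WithBot ℕ∞) := by
  letI : X.Over (Spec (CommRingCat.of k)) := ⟨f⟩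
  haveI : LocallyOfFiniteType (X ↘ Spec (CommRingCat.of k)) := ‹LocallyOfFiniteType f›
  obtain ⟨A, B, hA, hB, h⟩ := SchemeDim.exists_localDim k X x
  exact ⟨A, B, (Groth.Agent.S1919.rtrdeg_eq_trdeg k X x).trans hA, hB, h⟩

theorem localDim_pullback {X Y Z : Scheme.{u}} {f : X ⟶ Spec (CommRingCat.of k)} {g : Y ⟶ Spec (CommRingCat.of k)}
    [LocallyOfFiniteType f] [LocallyOfFiniteType g] {q : Z ⟶ X} {p : Z ⟶ Y} (sq : IsPullback q p f g) (z : Z) :
    FlatMor.localDim Z z = FlatMor.localDim X (q z) + FlatMor.localDim Y (p z) := by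
  haveI : LocallyOfFiniteType p := MorphismProperty.of_isPullback sq ‹LocallyOfFiniteType f›
  haveI : IsLocallyNoetherian Y := LocallyOfFiniteType.isLocallyNoetherian g
  haveI : IsLocallyNoetherian Z := LocallyOfFiniteType.isLocallyNoetherian p
  haveI : Flat f := Groth.L07.SyntOverField.flat_over_field f
  haveI : Flat p := MorphismProperty.of_isPullback sq ‹Flat f›
  obtain ⟨a, b, ha, hb, hab⟩ := Groth.L07.DimToolkit.exists_fibreDimAt p z
  obtain ⟨a', ha1, ha2⟩ := Groth.L07.DimToolkit.exists_fdim_rtrdeg p z
  obtain rfl : a = a' := by exact_mod_cast ha.symm.trans ha1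
  rw [Groth.L23.fibreDimAt_of_isPullback sq, fibreDimAt_eq_localDim] at hab
  obtain ⟨A, B, hA, hB, hZ⟩ := rtrdeg_structure (p ≫ g) z
  obtain ⟨A', B', hA', hB', hY⟩ := rtrdeg_structure g (p z)
  have h1 := Cyc.rtrdeg_comp p g z
  rw [hA, hA', ha2] at h1
  have h2 := Groth.L06.LocalDimFlat.stalk_formula p z
  rw [hB, hB', hb] at h2
  have e1 : A = A' + a := by exact_mod_cast h1
  have e2 : B = B' + b := by exact_mod_cast h2
  rw [hZ, hY, hab, e1, e2]
  exact_mod_cast (show A' + a + (B' + b) = a + b + (A' + B') by omega)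

end Groth.L22.ProductDim
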