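import Groth.Agent.L22.SchemeDim
import Groth.Prelude.Def_RegImm
import Mathlib.RingTheory.Ideal.KrullsHeightTheorem
import Mathlib.AlgebraicGeometry.Morphisms.Immersion

/-!
Components of the preimage of a subvariety under a regular immersion.
-/

set_option autoImplicit false
set_option linter.style.haveILetI false
universe u

open CategoryTheory CategoryTheory.Limits AlgebraicGeometry TopologicalSpace Topology

noncomputable section

namespace Groth.L22.RegImmDim

/-- Over an affine open where a map is a closed immersion, the common zeros of the kernel are in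
the range. -/
theorem mem_range_of_ker_le {X Y : Scheme.{u}} (f : X ⟶ Y) {U : Y.Opens} (hU : IsAffineOpen U)
    [IsClosedImmersion (f ∣_ U)] {p : Spec Γ(Y, U)}
    (hp : RingHom.ker (f.app U).hom ≤ p.asIdeal) : hU.fromSpec p ∈ Set.range f := by
  haveI : IsAffine U := hU
  have hV : IsAffineOpen (f ⁻¹ᵁ U) := isAffine_of_isAffineHom (f ∣_ U)
  have hcomp : Spec.map (f.app U) ≫ hU.fromSpec = hV.fromSpec ≫ f := by
    rw [← IsAffineOpen.SpecMap_appLE_fromSpec f hU hV le_rfl, ← f.app_eq_appLE]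
  have hcl : IsClosed (hU.fromSpec ⁻¹' Set.range f) := by
    have h1 : IsClosed (Set.range (f ∣_ U)) := (f ∣_ U).isClosedEmbedding.isClosed_range
    have h2 : Set.range (f ∣_ U) = U.ι ⁻¹' Set.range f := by
      ext y
      constructor
      · rintro ⟨x, rfl⟩
        exact ⟨(f ⁻¹ᵁ U).ι x, by
          rw [← Scheme.Hom.comp_apply, ← Scheme.Hom.comp_apply, morphismRestrict_ι]⟩
      · rintro ⟨x, hx⟩
        refine ⟨⟨x, show f x ∈ U from hx ▸ y.2⟩, ?_⟩
        apply U.ι.isOpenEmbedding.injective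
        rw [← Scheme.Hom.comp_apply, morphismRestrict_ι, Scheme.Hom.comp_apply]
        exact hx
    rw [h2] at h1
    have h3 := h1.preimage hU.isoSpec.inv.continuous
    rwa [← Set.preimage_comp, show (U.ι : U.toScheme → Y) ∘ hU.isoSpec.inv = hU.fromSpec from rfl] at h3
  have hr : Set.range (PrimeSpectrum.comap (f.app U).hom) ⊆ hU.fromSpec ⁻¹' Set.range f := by
    rintro _ ⟨q, rfl⟩
    exact ⟨hV.fromSpec q, (congrArg (fun φ : Spec Γ(X, f ⁻¹ᵁ U) ⟶ Y => φ q) hcomp).symm⟩
  have hz := closure_minimal hr hcl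
  exact hz ((PrimeSpectrum.closure_range_comap (f.app U).hom).symm.subset hp)

theorem dim_component_preimage {k : Type u} [Field k] {X Y Z : Scheme.{u}}
    (gZ : Z ⟶ Spec (CommRingCat.of k)) [LocallyOfFiniteType gZ] [IsIntegral Z]
    (f : X ⟶ Y) {c : ℕ} (hreg : RegImm.IsRegularImmersionOfCodim RegImm.Kind.regular c f)
    (ι : Z ⟶ Y) [IsAffineHom ι] {d : ℕ} (hd : topologicalKrullDim Z = d)
    {T : Set ↥(pullback f ι)} (hT : T ∈ irreducibleComponents ↥(pullback f ι)) :
    (d : WithBot ℕ∞) ≤ topologicalKrullDim ↥T + c := by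
  haveI : IsImmersion f := hreg.1
  obtain ⟨τ, hτ⟩ := QuasiSober.sober hT.1 (isClosed_of_mem_irreducibleComponents T hT)
  rw [isGenericPoint_def] at hτ
  obtain ⟨U, hfU, hcl, rs, hlen, -, hker⟩ := hreg.2 (pullback.fst f ι τ)
  haveI := hcl
  let V := ι ⁻¹ᵁ U.1
  have hV : IsAffineOpen V := U.2.preimage ι
  set z := pullback.snd f ι τ with hz
  have hzV : z ∈ V := by
    change ι (pullback.snd f ι τ) ∈ U.1
    rw [← Scheme.Hom.comp_apply, ← pullback.condition, Scheme.Hom.comp_apply]
    exact hfU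
  set p := (hV.primeIdealOf ⟨z, hzV⟩) with hpdef
  have hp : hV.fromSpec p = z := hV.fromSpec_primeIdealOf ⟨z, hzV⟩
  haveI := p.2
  let J : Ideal Γ(Z, V) := Ideal.ofList (rs.map (ι.app U.1).hom)
  have hJ : J = (RingHom.ker (f.app U.1).hom).map (ι.app U.1).hom := by
    rw [hker, Ideal.map_ofList]
  have hcomp : Spec.map (ι.app U.1) ≫ U.2.fromSpec = hV.fromSpec ≫ ι := by
    rw [← IsAffineOpen.SpecMap_appLE_fromSpec ι U.2 hV le_rfl, ← ι.app_eq_appLE]
  have hmem : ∀ q : Spec Γ(Z, V), J ≤ q.asIdeal →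
      hV.fromSpec q ∈ Set.range (pullback.snd f ι) := by
    intro q hq
    rw [hJ, Ideal.map_le_iff_le_comap] at hq
    obtain ⟨x, hx⟩ := mem_range_of_ker_le f U.2 (p := Spec.map (ι.app U.1) q) hq
    obtain ⟨w, -, hw⟩ := Scheme.Pullback.exists_preimage_pullback x (hV.fromSpec q)
      (hx.trans (congrArg (fun φ : Spec Γ(Z, V) ⟶ Y => φ q) hcomp))
    exact ⟨w, hw⟩
  have hJp : J ≤ p.asIdeal := by
    rw [hJ, Ideal.map_le_iff_le_comap]
    intro r hr
    change (ι.app U.1).hom r ∈ p.asIdeal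
    by_contra hc
    have h1 : z ∈ Z.basicOpen ((ι.app U.1).hom r) := by
      rw [← hp]
      change p ∈ hV.fromSpec ⁻¹ᵁ Z.basicOpen ((ι.app U.1).hom r)
      rw [hV.fromSpec_preimage_basicOpen]
      exact hc
    rw [← Scheme.preimage_basicOpen] at h1
    have h2 : pullback.fst f ι τ ∈ f ⁻¹ᵁ (Y.basicOpen r) := by
      change f (pullback.fst f ι τ) ∈ Y.basicOpen r
      rw [← Scheme.Hom.comp_apply, pullback.condition, Scheme.Hom.comp_apply]
      exact h1
    rw [Scheme.preimage_basicOpen, RingHom.mem_ker.1 hr, Scheme.basicOpen_zero] at h2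
    exact h2
  have hmin : p.asIdeal ∈ J.minimalPrimes := by
    refine ⟨⟨p.2, hJp⟩, ?_⟩
    rintro q ⟨hq, hJq⟩ hqp
    obtain ⟨w, hw⟩ := hmem ⟨q, hq⟩ hJq
    have hs : hV.fromSpec ⟨q, hq⟩ ⤳ z := by
      rw [← hp]
      exact ((PrimeSpectrum.le_iff_specializes ⟨q, hq⟩ p).1 hqp).map hV.fromSpec.continuous
    have hwτ : w ⤳ τ := by
      rw [← (pullback.snd f ι).isEmbedding.isInducing.specializes_iff, hw]
      exact hs
    have hsub : T ⊆ closure {w} := hτ ▸ (specializes_iff_closure_subset.1 hwτ)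
    have hge : w ∈ closure ({τ} : Set ↥(pullback f ι)) :=
      hτ.symm ▸ hT.2 isIrreducible_singleton.closure hsub (subset_closure rfl)
    have heq : (⟨q, hq⟩ : Spec Γ(Z, V)) = p := by
      apply hV.fromSpec.isOpenEmbedding.injective
      rw [hp, ← hw, (hwτ.antisymm (specializes_iff_mem_closure.2 hge)).eq]
    exact (congrArg PrimeSpectrum.asIdeal heq).ge
  letI : Z.Over (Spec (CommRingCat.of k)) := ⟨gZ⟩
  haveI : LocallyOfFiniteType (Z ↘ Spec (CommRingCat.of k)) :=
    inferInstanceAs (LocallyOfFiniteType gZ)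
  letI : Algebra k Γ(Z, V) := (SchemeDim.sectHom k Z V).toAlgebra
  haveI : Algebra.FiniteType k Γ(Z, V) :=
    RingHom.finiteType_algebraMap.1 (SchemeDim.finiteType_sectHom k Z hV)
  haveI : IsNoetherianRing Γ(Z, V) := Algebra.FiniteType.isNoetherianRing k Γ(Z, V)
  haveI : Nonempty V := ⟨⟨z, hzV⟩⟩
  obtain ⟨h, e, D, hh, he, hD, hhe⟩ := AffineDim.dim_formula k Γ(Z, V) p.asIdeal
  have hhc : h ≤ c := by
    classical
    have h1 := Ideal.height_le_card_of_mem_minimalPrimes_span
      ((rs.map (ι.app U.1).hom).finite_toSet) hmin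
    rw [hh, ← List.coe_toFinset, Set.ncard_coe_finset] at h1
    have h2 := (List.toFinset_card_le (rs.map (ι.app U.1).hom)).trans_eq (List.length_map _)
    have h3 : h ≤ (rs.map (ι.app U.1).hom).toFinset.card := by exact_mod_cast h1
    omega
  have hDd : D = d := by
    have hgen : genericPoint Z ∈ V :=
      ((genericPoint_specializes z).mem_open V.2 hzV)
    obtain ⟨a, ha, hta⟩ := SchemeDim.exists_dim_closure_eq_trdeg k Z (genericPoint Z)
    obtain ⟨b, hb, htb⟩ := SchemeDim.exists_dim_quotient_eq_trdeg k Z hV hgen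
    have hab : a = b := by exact_mod_cast hta.symm.trans htb
    subst hab
    rw [(genericPoint_spec Z).def, (Homeomorph.Set.univ Z).isHomeomorph.topologicalKrullDim_eq, hd] at ha
    have hbot : (hV.primeIdealOf ⟨genericPoint Z, hgen⟩).asIdeal = ⊥ := by
      have hg := hV.primeIdealOf_genericPoint
      exact (congrArg PrimeSpectrum.asIdeal hg).trans (genericPoint_eq_bot_of_affine Γ(Z, V) ▸ rfl)
    rw [hbot, ringKrullDim_eq_of_ringEquiv (RingEquiv.quotientBot Γ(Z, V)), hD] at hb
    exact_mod_cast hb.trans ha.symm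
  have hTe : (e : WithBot ℕ∞) ≤ topologicalKrullDim ↥T := by
    rw [← he, ← SchemeDim.topologicalKrullDim_closure_inter hV hzV]
    have hsub : closure ({z} : Set Z) ∩ V ⊆ Set.range (fun t : T => pullback.snd f ι t.1) := by
      rintro y ⟨hy, hyV⟩
      let q := hV.primeIdealOf ⟨y, hyV⟩
      have hq : hV.fromSpec q = y := hV.fromSpec_primeIdealOf ⟨y, hyV⟩
      have hpq : p.asIdeal ≤ q.asIdeal := by
        refine (PrimeSpectrum.le_iff_specializes p q).2
          (hV.fromSpec.isOpenEmbedding.isInducing.specializes_iff.1 ?_)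
        rw [hp, hq]
        exact specializes_iff_mem_closure.2 hy
      obtain ⟨w, hw⟩ := hmem q (hJp.trans hpq)
      refine ⟨⟨w, ?_⟩, hw.trans hq⟩
      rw [← hτ, ← specializes_iff_mem_closure,
        ← (pullback.snd f ι).isEmbedding.isInducing.specializes_iff, hw, hq]
      exact specializes_iff_mem_closure.2 hy
    refine (SchemeDim.topologicalKrullDim_mono hsub).trans_eq ?_
    exact SchemeDim.topologicalKrullDim_eq_of_isEmbedding
      ((pullback.snd f ι).isEmbedding.comp IsEmbedding.subtypeVal) rfl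
  calc (d : WithBot ℕ∞) ≤ ((e + c : ℕ) : WithBot ℕ∞) := by exact_mod_cast (by omega : d ≤ e + c)
    _ ≤ _ := by push_cast; exact add_le_add hTe le_rfl

end Groth.L22.RegImmDim
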