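import Groth.Agent.L22.HopfBilinear
import Groth.Agent.L00.StalkFunctor
import Groth.Agent.L13.OrdSurf.Basic
import Groth.Agent.L21.RR.RingSections
import Groth.Agent.L18.LocFreeTilde
import Groth.Agent.L22.CurveDeg.Devissage
import Groth.Agent.L16.NegPow.Gen
import Groth.Agent.L29.DCoh.TensorPerfect

/-!
Hopf's inequality for sections of a tensor product of vector bundles.
-/

set_option autoImplicit false
set_option linter.style.haveILetI false
universe u

open CategoryTheory AlgebraicGeometry MonoidalCategory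
open scoped TensorProduct

noncomputable section

namespace Groth.L22.SecMul

theorem finrank_add_le_tensor (k : Type u) [Field k] [IsAlgClosed k]
    (X : Scheme.{u}) [X.Over (Spec (CommRingCat.of k))] [IsIntegral X] [IsProper (X ↘ (Spec (CommRingCat.of k)))]
    (E₁ E₂ : X.Modules) (h₁ : FlatMod.IsFinLocFree E₁) (h₂ : FlatMod.IsFinLocFree E₂)
    [Nontrivial (Coh.HH X E₁ 0)] [Nontrivial (Coh.HH X E₂ 0)] :
    Module.finrank k (Coh.HH X E₁ 0) + Module.finrank k (Coh.HH X E₂ 0) ≤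
      Module.finrank k (Coh.HH X (CohB1.tensorMod E₁ E₂) 0) + 1 := by
  classical
  haveI := Groth.L21.RR.isNoetherian_of_proper (X := X) k
  have hc₁ := Groth.L16.NegPow.isCoh_of_isFinLocFree h₁
  have hc₂ := Groth.L16.NegPow.isCoh_of_isFinLocFree h₂
  haveI := Groth.L16.ProperFinite.finite_HH k hc₁ 0
  haveI := Groth.L16.ProperFinite.finite_HH k hc₂ 0
  let T := CohB1.tensorMod E₁ E₂
  let e1 := Groth.L21.RR.e0 E₁
  let e2 := Groth.L21.RR.e0 E₂
  let eT := Groth.L21.RR.e0 T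
  let mul : Γ(E₁, ⊤) → Γ(E₂, ⊤) → Γ(T, ⊤) := fun m n =>
    (Groth.L00.Tensor.unit (Groth.L00.Tensor.pre E₁ ⊗ Groth.L00.Tensor.pre E₂)).app (Opposite.op ⊤)
      (m ⊗ₜ[X.sheaf.obj.obj (Opposite.op ⊤)] n)
  have mul_add_l : ∀ m m' n, mul (m + m') n = mul m n + mul m' n := fun m m' n =>
    (congrArg ((Groth.L00.Tensor.unit (Groth.L00.Tensor.pre E₁ ⊗ Groth.L00.Tensor.pre E₂)).app (Opposite.op ⊤)).hom (TensorProduct.add_tmul _ _ _)).trans (((Groth.L00.Tensor.unit (Groth.L00.Tensor.pre E₁ ⊗ Groth.L00.Tensor.pre E₂)).app (Opposite.op ⊤)).hom.map_add _ _)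
  have mul_add_r : ∀ m n n', mul m (n + n') = mul m n + mul m n' := fun m n n' =>
    (congrArg ((Groth.L00.Tensor.unit (Groth.L00.Tensor.pre E₁ ⊗ Groth.L00.Tensor.pre E₂)).app (Opposite.op ⊤)).hom (TensorProduct.tmul_add _ _ _)).trans (((Groth.L00.Tensor.unit (Groth.L00.Tensor.pre E₁ ⊗ Groth.L00.Tensor.pre E₂)).app (Opposite.op ⊤)).hom.map_add _ _)
  have mul_smul_l : ∀ (r : Γ(X, ⊤)) m n, mul (r • m) n = r • mul m n := fun r m n =>
    (congrArg ((Groth.L00.Tensor.unit (Groth.L00.Tensor.pre E₁ ⊗ Groth.L00.Tensor.pre E₂)).app (Opposite.op ⊤)).hom (TensorProduct.smul_tmul' (R := X.sheaf.obj.obj (Opposite.op ⊤))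
      (R' := X.sheaf.obj.obj (Opposite.op ⊤)) _ _ _).symm).trans
      (((Groth.L00.Tensor.unit (Groth.L00.Tensor.pre E₁ ⊗ Groth.L00.Tensor.pre E₂)).app (Opposite.op ⊤)).hom.map_smul _ _)
  have mul_smul_r : ∀ (r : Γ(X, ⊤)) m n, mul m (r • n) = r • mul m n := fun r m n =>
    (congrArg ((Groth.L00.Tensor.unit (Groth.L00.Tensor.pre E₁ ⊗ Groth.L00.Tensor.pre E₂)).app (Opposite.op ⊤)).hom (TensorProduct.tmul_smul (R := X.sheaf.obj.obj (Opposite.op ⊤))
      (R' := X.sheaf.obj.obj (Opposite.op ⊤)) _ _ _)).trans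
      (((Groth.L00.Tensor.unit (Groth.L00.Tensor.pre E₁ ⊗ Groth.L00.Tensor.pre E₂)).app (Opposite.op ⊤)).hom.map_smul _ _)
  let B : Coh.HH X E₁ 0 →ₗ[k] Coh.HH X E₂ 0 →ₗ[k] Coh.HH X T 0 :=
    LinearMap.mk₂ k (fun a b => eT.symm (mul (e1 a) (e2 b)))
      (fun a a' b => by rw [map_add, mul_add_l, map_add])
      (fun c a b => eT.injective (by
        rw [Groth.L21.RR.e0_smul k T, eT.apply_symm_apply, eT.apply_symm_apply,
          Groth.L21.RR.e0_smul k E₁]
        exact mul_smul_l _ _ _))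
      (fun a b b' => by rw [map_add, mul_add_r, map_add])
      (fun c a b => eT.injective (by
        rw [Groth.L21.RR.e0_smul k T, eT.apply_symm_apply, eT.apply_symm_apply,
          Groth.L21.RR.e0_smul k E₂]
        exact mul_smul_r _ _ _))
  have htf : ∀ E : X.Modules, FlatMod.IsFinLocFree E → TorSh.IsTorsionFree E := fun E hE x => by
    haveI := Groth.L18.LFP.free_stalk E hE x
    infer_instance
  have hB : ∀ a b, B a b = 0 → a = 0 ∨ b = 0 := by
    intro a b hab
    have h0 : mul (e1 a) (e2 b) = 0 := by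
      have := congrArg eT hab
      rwa [LinearMap.mk₂_apply, eT.apply_symm_apply, map_zero] at this
    by_contra hne
    rw [not_or] at hne
    haveI := hc₁.1
    haveI := hc₂.1
    let η := genericPoint X
    let v := E₁.presheaf.germ ⊤ η trivial (e1 a)
    let w := E₂.presheaf.germ ⊤ η trivial (e2 b)
    have hv : v ≠ 0 := fun h => hne.1 (e1.injective
      ((Groth.L13.OrdSurf.section_eq_zero_of_generic E₁ (htf E₁ h₁) _ _ h).trans (map_zero e1).symm))
    have hw : w ≠ 0 := fun h => hne.2 (e2.injective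
      ((Groth.L13.OrdSurf.section_eq_zero_of_generic E₂ (htf E₂ h₂) _ _ h).trans (map_zero e2).symm))
    have hvw : v ⊗ₜ[X.presheaf.stalk η] w = 0 := by
      apply (Groth.L00.Stk.τfun_bijective η E₁ E₂).injective
      refine ((Groth.L00.Stk.τfun_tmul η E₁ E₂ (U := ⊤) trivial (e1 a) (e2 b)).trans ?_).trans
        (Groth.L00.Stk.τfun η E₁ E₂).map_zero.symm
      exact (congrArg (Groth.L00.StalkTensor.germ (Groth.L00.Tensor.pre T) η (U := ⊤) trivial) h0).trans
        (map_zero _)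
    haveI := Groth.L18.LFP.free_stalk E₁ h₁ η
    haveI := Groth.L18.LFP.free_stalk E₂ h₂ η
    obtain ⟨φ, hφ⟩ : ∃ φ : Module.Dual (X.presheaf.stalk η) (E₁.presheaf.stalk η), φ v ≠ 0 := by
      by_contra hc
      push Not at hc
      exact hv ((Module.forall_dual_apply_eq_zero_iff _ v).1 hc)
    obtain ⟨ψ, hψ⟩ : ∃ ψ : Module.Dual (X.presheaf.stalk η) (E₂.presheaf.stalk η), ψ w ≠ 0 := by
      by_contra hc
      push Not at hc
      exact hw ((Module.forall_dual_apply_eq_zero_iff _ w).1 hc)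
    have := congrArg (TensorProduct.lift ((LinearMap.mul (X.presheaf.stalk η) (X.presheaf.stalk η)).compl₁₂ φ ψ)) hvw
    rw [map_zero, TensorProduct.lift.tmul, LinearMap.compl₁₂_apply, LinearMap.mul_apply'] at this
    exact (mul_ne_zero hφ hψ) this
  have hcT : Coh.IsCoh T := Groth.L16.NegPow.isCoh_of_isFinLocFree (Groth.L29.DC.isFinLocFree_tensor h₁ h₂)
  haveI := Groth.L16.ProperFinite.finite_HH k hcT 0
  exact Groth.L22.HopfBilinear.finrank_add_le k B hB


end Groth.L22.SecMul
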