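import Groth.Agent.L22.TensorDim
import Mathlib.RingTheory.Kaehler.Basic
import Mathlib.RingTheory.Finiteness.Nakayama

/-!
Dimension of intersections in an affine algebra whose differentials are generated by `n` elements
(reduction to the diagonal).
-/

set_option autoImplicit false
universe u

open scoped TensorProduct

namespace Groth.L22.SmoothInter

variable (k : Type u) [Field k] {B : Type u} [CommRing B] [Algebra k B] {κ : Type*} [Fintype κ]
  (y : κ → B) (hy : Submodule.span B (Set.range fun i => KaehlerDifferential.D k B (y i)) = ⊤)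

include hy in
/-- The diagonal ideal is generated by the `δ y i` up to its square. -/
theorem exists_sub_mem_sq (a : B ⊗[k] B) (ha : a ∈ KaehlerDifferential.ideal k B) :
    ∃ c : κ → B, a - ∑ i, (c i ⊗ₜ[k] (1 : B)) * (1 ⊗ₜ[k] y i - y i ⊗ₜ[k] 1) ∈
      KaehlerDifferential.ideal k B ^ 2 := by
  obtain ⟨c, hc⟩ := (Submodule.mem_span_range_iff_exists_fun B).1
    (hy.ge (Submodule.mem_top (x := KaehlerDifferential.fromIdeal k B ⟨a, ha⟩)))
  refine ⟨c, ?_⟩
  let b : KaehlerDifferential.ideal k B := ∑ i, (c i ⊗ₜ[k] (1 : B)) •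
    ⟨1 ⊗ₜ[k] y i - y i ⊗ₜ[k] 1, KaehlerDifferential.one_smul_sub_smul_one_mem_ideal k (y i)⟩
  have hb : KaehlerDifferential.fromIdeal k B b = KaehlerDifferential.fromIdeal k B ⟨a, ha⟩ := by
    rw [← hc, map_sum]
    refine Finset.sum_congr rfl fun i _ => ?_
    rw [map_smul]
    exact IsScalarTower.algebraMap_smul (B ⊗[k] B) (c i) (KaehlerDifferential.D k B (y i))
  have h := (Ideal.toCotangent_eq (KaehlerDifferential.ideal k B)).1 hb.symm
  simpa [b, smul_eq_mul] using h

include hy in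
/-- The kernel of the map to the diagonal has height at most the number of differentials. -/
theorem height_ker_le [Algebra.FiniteType k B] (P Q Z : Ideal B) [Z.IsPrime]
    (hZ : Z ∈ (P ⊔ Q).minimalPrimes) {T : Type u} [CommRing T] [Algebra k T] [IsNoetherianRing T]
    (iL iR : B →ₐ[k] T) (π : T →ₐ[k] B ⧸ Z)
    (hπL : ∀ r, π (iL r) = Ideal.Quotient.mk Z r) (hπR : ∀ r, π (iR r) = Ideal.Quotient.mk Z r)
    (hP : ∀ p ∈ P, iL p = 0) (hQ : ∀ q ∈ Q, iR q = 0)
    (hgen : ∀ t : T, t ∈ Algebra.adjoin k (Set.range iL ∪ Set.range iR)) :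
    (RingHom.ker π.toRingHom).height ≤ (Fintype.card κ : ℕ∞) := by
  classical
  haveI : (RingHom.ker π.toRingHom).IsPrime := RingHom.ker_isPrime _
  let J : Ideal T := Ideal.span (Set.range fun i : κ => iR (y i) - iL (y i))
  have hJ : J ≤ RingHom.ker π.toRingHom := Ideal.span_le.2 (by
    rintro _ ⟨i, rfl⟩
    change π _ = 0
    rw [map_sub, hπL, hπR, sub_self])
  have hmin : RingHom.ker π.toRingHom ∈ J.minimalPrimes := by
    refine ⟨⟨inferInstance, hJ⟩, ?_⟩
    rintro W ⟨hW, hJW⟩ hWZ t ht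
    haveI := hW
    let ψ : B ⊗[k] B →ₐ[k] T := Algebra.TensorProduct.lift iL iR fun _ _ => Commute.all _ _
    let χ : B ⊗[k] B →+* T ⧸ W := (Ideal.Quotient.mk W).comp ψ.toRingHom
    let K : Ideal (T ⧸ W) := (KaehlerDifferential.ideal k B).map χ
    have hψ : ∀ b c : B, ψ (b ⊗ₜ[k] c) = iL b * iR c :=
      fun b c => Algebra.TensorProduct.lift_tmul _ _ _ b c
    have hK2 : K ≤ K • K := by
      refine Ideal.map_le_iff_le_comap.2 fun a ha => ?_
      obtain ⟨c, hc⟩ := exists_sub_mem_sq k y hy a ha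
      have hmem := Ideal.mem_map_of_mem χ hc
      rw [pow_two, Ideal.map_mul] at hmem
      have hzero : χ (∑ i, (c i ⊗ₜ[k] (1 : B)) * (1 ⊗ₜ[k] y i - y i ⊗ₜ[k] 1)) = 0 := by
        rw [map_sum]
        refine Finset.sum_eq_zero fun i _ => ?_
        rw [map_mul]
        refine mul_eq_zero_of_right _ ?_
        change Ideal.Quotient.mk W (ψ (1 ⊗ₜ[k] y i - y i ⊗ₜ[k] 1)) = 0
        rw [Ideal.Quotient.eq_zero_iff_mem, map_sub, hψ, hψ, map_one, map_one, one_mul, mul_one]
        exact hJW (Ideal.subset_span ⟨i, rfl⟩)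
      rw [map_sub, hzero, sub_zero] at hmem
      exact hmem
    obtain ⟨r, hr, hr0⟩ := Submodule.exists_sub_one_mem_and_smul_eq_zero_of_fg_of_le_smul K K
      (IsNoetherian.noetherian K) hK2
    have hKq : K ≤ (RingHom.ker π.toRingHom).map (Ideal.Quotient.mk W) := by
      refine Ideal.map_le_iff_le_comap.2 fun a ha => ?_
      refine Ideal.mem_map_of_mem _ ?_
      change π (ψ a) = 0
      have hπψ : π.comp ψ = (Ideal.Quotient.mkₐ k Z).comp (Algebra.TensorProduct.lmul' k) := by
        refine Algebra.TensorProduct.ext' fun b c => ?_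
        change π (ψ (b ⊗ₜ[k] c)) = Ideal.Quotient.mk Z (Algebra.TensorProduct.lmul' k (b ⊗ₜ[k] c))
        rw [hψ, map_mul, hπL, hπR, Algebra.TensorProduct.lmul'_apply_tmul, map_mul]
      refine (AlgHom.congr_fun hπψ a).trans ?_
      have : Algebra.TensorProduct.lmul' k a = 0 := ha
      change Ideal.Quotient.mk Z (Algebra.TensorProduct.lmul' k a) = 0
      rw [this, map_zero]
    haveI hqp : ((RingHom.ker π.toRingHom).map (Ideal.Quotient.mk W)).IsPrime :=
      Ideal.map_isPrime_of_surjective Ideal.Quotient.mk_surjective (by rwa [Ideal.mk_ker])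
    have hr1 : r ≠ 0 := by
      rintro rfl
      refine hqp.ne_top ((Ideal.eq_top_iff_one _).2 ?_)
      simpa using hKq hr
    have hLR : ∀ b, iL b - iR b ∈ W := by
      intro b
      have h1 := hr0 _ (Ideal.mem_map_of_mem χ
        (KaehlerDifferential.one_smul_sub_smul_one_mem_ideal k b))
      rw [smul_eq_mul] at h1
      have h2 : Ideal.Quotient.mk W (ψ (1 ⊗ₜ[k] b - b ⊗ₜ[k] 1)) = 0 :=
        (mul_eq_zero.1 h1).resolve_left hr1
      rw [Ideal.Quotient.eq_zero_iff_mem, map_sub, hψ, hψ, map_one, map_one, one_mul, mul_one] at h2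
      rw [← neg_sub]
      exact W.neg_mem h2
    have hsurj : ∀ t : T, ∃ r, t - iL r ∈ W := by
      intro t
      induction hgen t using Algebra.adjoin_induction with
      | mem x hx =>
        rcases hx with ⟨r, rfl⟩ | ⟨r, rfl⟩
        · exact ⟨r, by simp⟩
        · exact ⟨r, by rw [← neg_sub]; exact W.neg_mem (hLR r)⟩
      | algebraMap c => exact ⟨algebraMap k _ c, by simp⟩
      | add x y _ _ hx hy =>
        obtain ⟨r, hr⟩ := hx
        obtain ⟨s, hs⟩ := hy
        exact ⟨r + s, by rw [map_add, add_sub_add_comm]; exact W.add_mem hr hs⟩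
      | mul x y _ _ hx hy =>
        obtain ⟨r, hr⟩ := hx
        obtain ⟨s, hs⟩ := hy
        refine ⟨r * s, ?_⟩
        rw [map_mul, show x * y - iL r * iL s = x * (y - iL s) + (x - iL r) * iL s by ring]
        exact W.add_mem (W.mul_mem_left _ hs) (W.mul_mem_right _ hr)
    have hw : W.comap iL = Z := by
      have hle : W.comap iL ≤ Z := fun r hr => by
        have : π (iL r) = 0 := hWZ hr
        rwa [hπL, Ideal.Quotient.eq_zero_iff_mem] at this
      refine le_antisymm hle (hZ.2 ⟨Ideal.comap_isPrime _ _, sup_le (fun p hp => ?_) fun p hp => ?_⟩ hle)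
      · change iL p ∈ W
        rw [hP p hp]; exact W.zero_mem
      · change iL p ∈ W
        have := hLR p
        rwa [hQ p hp, sub_zero] at this
    obtain ⟨r, hr⟩ := hsurj t
    have hrZ : r ∈ Z := by
      have h1 : π (t - iL r) = 0 := hWZ hr
      have h2 : π t = 0 := ht
      rw [map_sub, h2, zero_sub, neg_eq_zero, hπL, Ideal.Quotient.eq_zero_iff_mem] at h1
      exact h1
    rw [← hw] at hrZ
    have := W.add_mem hr (show iL r ∈ W from hrZ)
    rwa [sub_add_cancel] at this
  refine (Ideal.height_le_card_of_mem_minimalPrimes_span (Set.finite_range _) hmin).trans ?_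
  rw [Set.ncard_eq_toFinset_card', Set.toFinset_range]
  exact_mod_cast (Finset.card_image_le.trans (le_of_eq Finset.card_univ))

include hy in
theorem le_dim_add [Algebra.FiniteType k B] {s : ℕ} (P Q Z : Ideal B) [Z.IsPrime]
    (hZ : Z ∈ (P ⊔ Q).minimalPrimes) {T : Type u} [CommRing T] [Algebra k T]
    [Algebra.FiniteType k T]
    (hT : ∀ q ∈ minimalPrimes T, ringKrullDim (T ⧸ q) = (s : WithBot ℕ∞))
    (iL iR : B →ₐ[k] T) (π : T →ₐ[k] B ⧸ Z)
    (hπL : ∀ r, π (iL r) = Ideal.Quotient.mk Z r) (hπR : ∀ r, π (iR r) = Ideal.Quotient.mk Z r)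
    (hP : ∀ p ∈ P, iL p = 0) (hQ : ∀ q ∈ Q, iR q = 0)
    (hgen : ∀ t : T, t ∈ Algebra.adjoin k (Set.range iL ∪ Set.range iR)) :
    (s : WithBot ℕ∞) ≤ ringKrullDim (B ⧸ Z) + (Fintype.card κ : WithBot ℕ∞) := by
  haveI : IsNoetherianRing T := Algebra.FiniteType.isNoetherianRing k T
  haveI : (RingHom.ker π.toRingHom).IsPrime := RingHom.ker_isPrime _
  have hht := height_ker_le k y hy P Q Z hZ iL iR π hπL hπR hP hQ hgen
  obtain ⟨q, hq, hqZ⟩ := Ideal.exists_minimalPrimes_le (bot_le : ⊥ ≤ RingHom.ker π.toRingHom)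
  haveI := hq.1.1
  haveI : ((RingHom.ker π.toRingHom).map (Ideal.Quotient.mk q)).IsPrime :=
    Ideal.map_isPrime_of_surjective Ideal.Quotient.mk_surjective (by rwa [Ideal.mk_ker])
  obtain ⟨h, e, d, hh, he, hd, hhe⟩ :=
    AffineDim.dim_formula k (T ⧸ q) ((RingHom.ker π.toRingHom).map (Ideal.Quotient.mk q))
  have hde : d = s := by exact_mod_cast hd.symm.trans (hT q hq)
  obtain ⟨z, -, -, -, hz, -⟩ := AffineDim.exists_normalization k (B ⧸ Z)
  have hez : e = z := by
    rw [ringKrullDim_eq_of_ringEquiv (DoubleQuot.quotQuotEquivQuotOfLE hqZ)] at he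
    have hs : Function.Surjective π := fun w => by
      obtain ⟨r, rfl⟩ := Ideal.Quotient.mk_surjective w
      exact ⟨iL r, hπL r⟩
    rw [ringKrullDim_eq_of_ringEquiv
      (RingHom.quotientKerEquivOfSurjective (f := π.toRingHom) hs), hz] at he
    exact_mod_cast he.symm
  have hmono : StrictMono (PrimeSpectrum.comap (Ideal.Quotient.mk q)) :=
    RingHom.strictMono_comap_of_surjective Ideal.Quotient.mk_surjective
  have hle := Order.height_le_height_apply_of_strictMono _ hmono
    ⟨(RingHom.ker π.toRingHom).map (Ideal.Quotient.mk q), inferInstance⟩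
  rw [← PrimeSpectrum.height_eq_orderHeight, ← PrimeSpectrum.height_eq_orderHeight] at hle
  change _ ≤ Ideal.height (((RingHom.ker π.toRingHom).map (Ideal.Quotient.mk q)).comap _) at hle
  rw [Ideal.comap_map_of_surjective _ Ideal.Quotient.mk_surjective, ← RingHom.ker_eq_comap_bot,
    sup_eq_left.2 (Ideal.mk_ker.le.trans hqZ), hh] at hle
  have hhn : h ≤ Fintype.card κ := by exact_mod_cast hle.trans hht
  rw [hz]
  exact_mod_cast (show s ≤ z + Fintype.card κ by omega)

include hy in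
/-- Dimension of a component of the intersection of two subvarieties. -/
theorem dim_add_dim_le [Algebra.FiniteType k B] (P Q Z : Ideal B) [P.IsPrime] [Q.IsPrime]
    (hZ : Z ∈ (P ⊔ Q).minimalPrimes) :
    ringKrullDim (B ⧸ P) + ringKrullDim (B ⧸ Q) ≤
      ringKrullDim (B ⧸ Z) + (Fintype.card κ : WithBot ℕ∞) := by
  haveI : Z.IsPrime := hZ.1.1
  obtain ⟨a, -, -, -, ha, -⟩ := AffineDim.exists_normalization k (B ⧸ P)
  obtain ⟨b, -, -, -, hb, -⟩ := AffineDim.exists_normalization k (B ⧸ Q)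
  haveI := TensorDim.finiteType_tensor k (B ⧸ P) (B ⧸ Q)
  rw [ha, hb, ← Nat.cast_add]
  refine le_dim_add k y hy P Q Z hZ
    (fun q hq => TensorDim.ringKrullDim_quotient_minimalPrime k ha hb hq)
    (Algebra.TensorProduct.includeLeft.comp (Ideal.Quotient.mkₐ k P))
    (Algebra.TensorProduct.includeRight.comp (Ideal.Quotient.mkₐ k Q))
    (Algebra.TensorProduct.lift
      (Ideal.quotientMapₐ Z (AlgHom.id k _) (le_sup_left.trans hZ.1.2))
      (Ideal.quotientMapₐ Z (AlgHom.id k _) (le_sup_right.trans hZ.1.2))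
      fun _ _ => Commute.all _ _)
    (fun r => by simp) (fun r => by simp)
    (fun p hp => by simp [Ideal.Quotient.eq_zero_iff_mem.2 hp])
    (fun p hp => by simp [Ideal.Quotient.eq_zero_iff_mem.2 hp]) fun t => ?_
  refine Algebra.adjoin_mono (Set.union_subset_union ?_ ?_) (TensorDim.adjoin_tensor_eq_top k _ _ t)
  · rintro _ ⟨a, rfl⟩
    obtain ⟨r, rfl⟩ := Ideal.Quotient.mk_surjective a
    exact ⟨r, rfl⟩
  · rintro _ ⟨a, rfl⟩
    obtain ⟨r, rfl⟩ := Ideal.Quotient.mk_surjective a
    exact ⟨r, rfl⟩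

end Groth.L22.SmoothInter
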