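import Mathlib.Topology.KrullDimension
import Mathlib.Order.KrullDimension

/-!
Dimension of proper closed subspaces of irreducible spaces.
-/

universe u

open TopologicalSpace Order

namespace Groth.L22

theorem topologicalKrullDim_subspace_ne {X : Type u} [TopologicalSpace X] [IrreducibleSpace X]
    {Z : Set X} (hZ : IsClosed Z) (hne : Z ≠ Set.univ) (hfin : topologicalKrullDim X ≠ ⊤) :
    topologicalKrullDim Z ≠ topologicalKrullDim X := by
  intro h
  let f : IrreducibleCloseds Z → IrreducibleCloseds X :=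
    IrreducibleCloseds.map Subtype.val continuous_subtype_val
  have hf : StrictMono f :=
    IrreducibleCloseds.map_strictMono_of_isInducing Topology.IsInducing.subtypeVal
  let top : IrreducibleCloseds X :=
    ⟨Set.univ, IrreducibleSpace.isIrreducible_univ X, isClosed_univ⟩
  haveI : Nonempty (IrreducibleCloseds X) := ⟨top⟩
  obtain ⟨n, hn⟩ : ∃ n : ℕ, topologicalKrullDim X = n := by
    unfold topologicalKrullDim at hfin ⊢
    rw [Order.krullDim_eq_iSup_length] at hfin ⊢
    obtain ⟨n, hn⟩ := ENat.ne_top_iff_exists.1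
      (fun h => hfin (by rw [h]; rfl) :
        (⨆ p : LTSeries (IrreducibleCloseds X), (p.length : ℕ∞)) ≠ ⊤)
    exact ⟨n, by rw [← hn]; rfl⟩
  rw [hn] at h
  obtain ⟨s, hs⟩ := Order.le_krullDim_iff.1 (h.symm.le : (n : WithBot ℕ∞) ≤ krullDim _)
  have hlt : (s.map f hf).last < top := by
    refine lt_of_le_of_ne (fun x _ => trivial) fun e => hne ?_
    have e' : ((f s.last : IrreducibleCloseds X) : Set X) = Set.univ :=
      (congrArg SetLike.coe e : _)
    refine Set.eq_univ_of_univ_subset (e'.symm.subset.trans ?_)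
    change closure (Subtype.val '' (s.last : Set Z)) ⊆ Z
    exact hZ.closure_subset_iff.2 (by rintro _ ⟨y, -, rfl⟩; exact y.2)
  have h2 : ((n + 1 : ℕ) : WithBot ℕ∞) ≤ topologicalKrullDim X :=
    Order.le_krullDim_iff.2 ⟨(s.map f hf).snoc top hlt, by simp [RelSeries.snoc_length, hs]⟩
  rw [hn] at h2
  exact absurd h2 (by simp only [Nat.cast_le, not_le]; omega)

end Groth.L22
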