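import Mathlib.RingTheory.Valuation.LocalSubring
import Mathlib.RingTheory.TensorProduct.MvPolynomial
import Mathlib.RingTheory.AlgebraicIndependent.AlgebraicClosure
import Mathlib.RingTheory.Ideal.MinimalPrime.Localization
import Mathlib.RingTheory.Spectrum.Prime.Topology
import Mathlib.RingTheory.Flat.Basic
import Mathlib.RingTheory.LocalRing.ResidueField.Basic
import Mathlib.RingTheory.Localization.Integral

/-!
Universally open maps do not lose transcendence degree on generisation.
-/

set_option autoImplicit false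
set_option linter.style.haveILetI false
universe u

open scoped TensorProduct
open MvPolynomial

noncomputable section

namespace Groth.L22.UnivOpenAlg

/-- Scale a nonzero polynomial over a valuation ring to one with a unit coefficient. -/
theorem exists_eq_C_mul {V : Type u} [CommRing V] [IsDomain V] [ValuationRing V] {σ : Type}
    (P : MvPolynomial σ V) (hP : P ≠ 0) :
    ∃ (c : V) (P₁ : MvPolynomial σ V) (m : σ →₀ ℕ), c ≠ 0 ∧ P = C c * P₁ ∧ P₁.coeff m = 1 := by
  classical
  have key : ∀ s : Finset (σ →₀ ℕ), s.Nonempty → ∃ m ∈ s, ∀ m' ∈ s, P.coeff m ∣ P.coeff m' := by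
    intro s hs
    induction hs using Finset.Nonempty.cons_induction with
    | singleton a => exact ⟨a, Finset.mem_singleton_self a, fun m' hm' => by rw [Finset.mem_singleton.1 hm']⟩
    | cons a s ha hs ih =>
      obtain ⟨m, hm, hall⟩ := ih
      rcases ValuationRing.dvd_total (P.coeff a) (P.coeff m) with h | h
      · refine ⟨a, Finset.mem_cons_self a s, fun m' hm' => ?_⟩
        rcases Finset.mem_cons.1 hm' with rfl | h'
        · exact dvd_rfl
        · exact h.trans (hall m' h')
      · refine ⟨m, Finset.mem_cons_of_mem hm, fun m' hm' => ?_⟩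
        rcases Finset.mem_cons.1 hm' with rfl | h'
        · exact h
        · exact hall m' h'
  obtain ⟨m, hm, hall⟩ := key P.support (Finset.nonempty_iff_ne_empty.2 fun h => hP (support_eq_empty.1 h))
  have hdiv : ∀ m', P.coeff m ∣ P.coeff m' := fun m' => by
    by_cases h : m' ∈ P.support
    · exact hall m' h
    · rw [notMem_support_iff.1 h]; exact dvd_zero _
  obtain ⟨P₁, hP₁⟩ := (C_dvd_iff_dvd_coeff (P.coeff m) P).2 hdiv
  have hc : P.coeff m ≠ 0 := mem_support_iff.1 hm
  refine ⟨P.coeff m, P₁, m, hc, hP₁, mul_left_cancel₀ hc ?_⟩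
  rw [mul_one, ← coeff_C_mul, ← hP₁]

variable {A B : Type u} [CommRing A] [CommRing B] [Algebra A B]

/-- A prime with independent coordinates over a point generalises to one over any generalisation. -/
theorem exists_le_prime (p₀ p : Ideal A) [p₀.IsPrime] [p.IsPrime] (hp : p₀ ≤ p) (q : Ideal B) [q.IsPrime]
    (hq : q.comap (algebraMap A B) = p)
    (hopen : ∀ (V : Type u) [CommRing V] [Algebra A V],
      IsOpenMap (PrimeSpectrum.comap (algebraMap V (V ⊗[A] B))))
    {e : ℕ} (t : Fin e → B)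
    (ht : ∀ P : MvPolynomial (Fin e) A, aeval t P ∈ q → MvPolynomial.map (Ideal.Quotient.mk p) P = 0) :
    ∃ q₀ : Ideal B, q₀.IsPrime ∧ q₀ ≤ q ∧ q₀.comap (algebraMap A B) = p₀ ∧
      ∀ P : MvPolynomial (Fin e) A, aeval t P ∈ q₀ → MvPolynomial.map (Ideal.Quotient.mk p₀) P = 0 := by
  classical
  let A₀ := A ⧸ p₀
  let K := FractionRing A₀
  let a₀ : A →+* K := (algebraMap A₀ K).comp (Ideal.Quotient.mk p₀)
  have ha₀ : ∀ a, a₀ a = 0 ↔ a ∈ p₀ := fun a => by
    change algebraMap A₀ K (Ideal.Quotient.mk p₀ a) = 0 ↔ _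
    rw [map_eq_zero_iff _ (IsFractionRing.injective A₀ K), Ideal.Quotient.eq_zero_iff_mem]
  have hu : ∀ s : p.primeCompl, IsUnit (a₀ s) := fun s =>
    isUnit_iff_ne_zero.2 fun h => s.2 (hp ((ha₀ _).1 h))
  obtain ⟨V, hV, hloc⟩ := IsLocalRing.exists_factor_valuationRing
    (IsLocalization.lift (S := Localization.AtPrime p) hu)
  let τ : Localization.AtPrime p →+* V.toSubring := (IsLocalization.lift hu).codRestrict V.toSubring hV
  haveI : IsLocalHom τ := hloc
  let σ : A →+* V := τ.comp (algebraMap A (Localization.AtPrime p))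
  have hσK : ∀ a, ((σ a : V) : K) = a₀ a := fun a => IsLocalization.lift_eq hu a
  have hσm : ∀ a, σ a ∈ IsLocalRing.maximalIdeal V ↔ a ∈ p := fun a => by
    rw [IsLocalRing.mem_maximalIdeal, mem_nonunits_iff]
    change ¬ IsUnit (τ (algebraMap A (Localization.AtPrime p) a)) ↔ _
    rw [isUnit_map_iff, IsLocalization.AtPrime.isUnit_to_map_iff _ p]
    exact not_not
  letI : Algebra A V := σ.toAlgebra
  -- the residue fields
  let Ap := A ⧸ p
  let k₀ := FractionRing Ap
  let κ := IsLocalRing.ResidueField V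
  let κmap : Ap →+* κ := Ideal.Quotient.lift p ((IsLocalRing.residue V).comp σ) fun a ha =>
    (IsLocalRing.residue_eq_zero_iff _).2 ((hσm a).2 ha)
  have hκinj : Function.Injective κmap := by
    refine RingHom.lift_injective_of_ker_le_ideal _ _ fun a ha => ?_
    exact (hσm a).1 ((IsLocalRing.residue_eq_zero_iff _).1 ha)
  letI : Algebra k₀ κ := (IsFractionRing.lift (A := Ap) (K := k₀) (L := κ) hκinj).toAlgebra
  let Bq := B ⧸ q
  let L := FractionRing Bq
  let lmap : Ap →+* L := (algebraMap Bq L).comp (Ideal.quotientMap q (algebraMap A B) hq.ge)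
  have hlinj : Function.Injective lmap :=
    (IsFractionRing.injective Bq L).comp (Ideal.quotientMap_injective' (H := hq.ge) hq.le)
  letI : Algebra Ap L := lmap.toAlgebra
  letI : Algebra k₀ L := (IsFractionRing.lift (A := Ap) (K := k₀) (L := L) hlinj).toAlgebra
  haveI : IsScalarTower Ap k₀ L := IsScalarTower.of_algebraMap_eq fun a =>
    (IsFractionRing.lift_algebraMap (K := k₀) hlinj a).symm
  let x : Fin e → L := fun i => algebraMap Bq L (Ideal.Quotient.mk q (t i))
  let bL : B →+* L := (algebraMap Bq L).comp (Ideal.Quotient.mk q)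
  have hx₀ : AlgebraicIndependent Ap x := by
    rw [algebraicIndependent_iff]
    intro P hP
    obtain ⟨P', rfl⟩ := map_surjective _ (Ideal.Quotient.mk_surjective (I := p)) P
    refine ht P' (Ideal.Quotient.eq_zero_iff_mem.1 (IsFractionRing.injective Bq L ?_))
    rw [map_zero, ← hP]
    change bL (aeval t P') = _
    rw [aeval_def, aeval_def, eval₂_map, eval₂_comp_left]
    rfl
  haveI : Algebra.IsAlgebraic Ap k₀ := IsLocalization.isAlgebraic _ (nonZeroDivisors Ap)
  have hx : AlgebraicIndependent k₀ x := hx₀.extendScalars k₀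
  -- the prime over the closed point
  let R := κ ⊗[k₀] L
  let j : MvPolynomial (Fin e) κ →ₐ[κ] R := aeval fun i => (1 : κ) ⊗ₜ[k₀] x i
  have hj : Function.Injective j := by
    have hje : j = (Algebra.TensorProduct.map (AlgHom.id κ κ) (aeval x : MvPolynomial (Fin e) k₀ →ₐ[k₀] L)).comp
        (MvPolynomial.algebraTensorAlgEquiv k₀ κ).symm.toAlgHom := by
      refine algHom_ext fun i => ?_
      simp [j]
    rw [hje, AlgHom.coe_comp]
    refine Function.Injective.comp ?_ (MvPolynomial.algebraTensorAlgEquiv k₀ κ).symm.injective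
    exact Module.Flat.lTensor_preserves_injective_linearMap (M := κ)
      (aeval x : MvPolynomial (Fin e) k₀ →ₐ[k₀] L).toLinearMap hx
  obtain ⟨𝔔, hQp, -, hQd⟩ := Ideal.exists_le_prime_disjoint (⊥ : Ideal R)
    ((nonZeroDivisors (MvPolynomial (Fin e) κ)).map j.toRingHom.toMonoidHom) (Set.disjoint_left.2 fun z hz hz' => by
      obtain ⟨P, hP, rfl⟩ := hz'
      exact nonZeroDivisors.ne_zero hP (hj (((Ideal.mem_bot).1 hz).trans (map_zero j).symm)))
  have hj𝔔 : ∀ P, j P ∈ 𝔔 → P = 0 := fun P hP => by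
    by_contra hne
    exact Set.disjoint_left.1 hQd hP ⟨P, mem_nonZeroDivisors_of_ne_zero hne, rfl⟩
  let vR : V →+* R := (Algebra.TensorProduct.includeLeftRingHom (R := k₀) (A := κ) (B := L)).comp (IsLocalRing.residue V)
  let bR : B →+* R := (Algebra.TensorProduct.includeRight (R := k₀) (A := κ) (B := L)).toRingHom.comp bL
  have hagree : vR.comp σ = bR.comp (algebraMap A B) := by
    refine RingHom.ext fun a => ?_
    change IsLocalRing.residue V (σ a) ⊗ₜ[k₀] (1 : L) = (1 : κ) ⊗ₜ[k₀] bL (algebraMap A B a)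
    have e1 : IsLocalRing.residue V (σ a) = algebraMap k₀ κ (algebraMap Ap k₀ (Ideal.Quotient.mk p a)) :=
      (IsFractionRing.lift_algebraMap (K := k₀) hκinj (Ideal.Quotient.mk p a)).symm
    have e2 : bL (algebraMap A B a) = algebraMap k₀ L (algebraMap Ap k₀ (Ideal.Quotient.mk p a)) :=
      (IsFractionRing.lift_algebraMap (K := k₀) hlinj (Ideal.Quotient.mk p a)).symm
    rw [e1, e2]
    generalize algebraMap Ap k₀ (Ideal.Quotient.mk p a) = c
    rw [Algebra.algebraMap_eq_smul_one, Algebra.algebraMap_eq_smul_one, TensorProduct.smul_tmul]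
  let fV : V →ₐ[A] R := { vR with commutes' := fun a => rfl }
  let fB : B →ₐ[A] R := { bR with commutes' := fun a => (RingHom.congr_fun hagree a).symm }
  let T := V ⊗[A] B
  let ψ : T →ₐ[A] R := Algebra.TensorProduct.lift fV fB fun _ _ => Commute.all _ _
  let Q : Ideal T := 𝔔.comap ψ
  haveI : Q.IsPrime := Ideal.comap_isPrime _ _
  have hψV : ∀ v : V, ψ (v ⊗ₜ 1) = vR v := fun v =>
    ((Algebra.TensorProduct.lift_tmul fV fB _ v 1).trans (by rw [map_one, mul_one]; rfl))
  have hψB : ∀ b : B, ψ (1 ⊗ₜ b) = bR b := fun b =>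
    ((Algebra.TensorProduct.lift_tmul fV fB _ 1 b).trans (by rw [map_one, one_mul]; rfl))
  have hQm : ∀ v : V, v ⊗ₜ[A] (1 : B) ∈ Q ↔ v ∈ IsLocalRing.maximalIdeal V := fun v => by
    rw [Ideal.mem_comap, hψV, ← IsLocalRing.residue_eq_zero_iff]
    constructor
    · intro h
      by_contra hne
      exact hQp.ne_top (Ideal.eq_top_of_isUnit_mem _ h ((isUnit_iff_ne_zero.2 hne).map
        (Algebra.TensorProduct.includeLeftRingHom (R := k₀) (A := κ) (B := L))))
    · intro h
      change IsLocalRing.residue V v ⊗ₜ[k₀] (1 : L) ∈ 𝔔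
      rw [h, TensorProduct.zero_tmul]
      exact 𝔔.zero_mem
  have hQB : ∀ b : B, (1 : V) ⊗ₜ[A] b ∈ Q → b ∈ q := fun b h => by
    rw [Ideal.mem_comap, hψB] at h
    by_contra hne
    have hu' : IsUnit (bL b) := isUnit_iff_ne_zero.2 fun h0 => hne (Ideal.Quotient.eq_zero_iff_mem.1
      (IsFractionRing.injective Bq L (h0.trans (map_zero _).symm)))
    exact hQp.ne_top (Ideal.eq_top_of_isUnit_mem _ h
      (hu'.map (Algebra.TensorProduct.includeRight (R := k₀) (A := κ) (B := L))))
  have hQpoly : ∀ P : MvPolynomial (Fin e) V, aeval (fun i => (1 : V) ⊗ₜ[A] t i) P ∈ Q →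
      ∀ m, P.coeff m ∈ IsLocalRing.maximalIdeal V := by
    intro P hP m
    have hcalc : ψ (aeval (fun i => (1 : V) ⊗ₜ[A] t i) P) = j (MvPolynomial.map (IsLocalRing.residue V) P) := by
      change ψ.toRingHom (aeval (fun i => (1 : V) ⊗ₜ[A] t i) P) = _
      rw [aeval_def, eval₂_comp_left, show j (MvPolynomial.map (IsLocalRing.residue V) P) =
        eval₂ (algebraMap κ R) (fun i => (1 : κ) ⊗ₜ[k₀] x i) (MvPolynomial.map (IsLocalRing.residue V) P) from rfl,
        eval₂_map]
      have e₁ : ψ.toRingHom.comp (algebraMap V T) = (algebraMap κ R).comp (IsLocalRing.residue V) :=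
        RingHom.ext fun v => hψV v
      have e₂ : ψ.toRingHom ∘ (fun i => (1 : V) ⊗ₜ[A] t i) = fun i => (1 : κ) ⊗ₜ[k₀] x i :=
        funext fun i => hψB (t i)
      rw [e₁, e₂]
    rw [Ideal.mem_comap, hcalc] at hP
    have := congrArg (coeff m) (hj𝔔 _ hP)
    rw [coeff_map, coeff_zero] at this
    exact (IsLocalRing.residue_eq_zero_iff _).1 this
  -- generisation
  let c₀ : PrimeSpectrum V := ⟨⊥, Ideal.isPrime_bot⟩
  let S : Set (PrimeSpectrum T) := PrimeSpectrum.comap (algebraMap V T) ⁻¹' {c₀}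
  have hQS : (⟨Q, inferInstance⟩ : PrimeSpectrum T) ∈ closure S := by
    rw [mem_closure_iff]
    intro O hO hQO
    have himg := hopen V O hO
    have h0 : c₀ ∈ PrimeSpectrum.comap (algebraMap V T) '' O :=
      ((PrimeSpectrum.le_iff_specializes c₀ (PrimeSpectrum.comap (algebraMap V T) ⟨Q, inferInstance⟩)).1 bot_le).mem_open
        himg ⟨_, hQO, rfl⟩
    obtain ⟨w, hw, hwc⟩ := h0
    exact ⟨w, hw, hwc⟩
  let I : Ideal T := PrimeSpectrum.vanishingIdeal S
  have hIQ : I ≤ Q := by
    rw [← PrimeSpectrum.zeroLocus_vanishingIdeal_eq_closure] at hQS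
    exact hQS
  obtain ⟨Q₀, hQ₀, hQ₀Q⟩ := Ideal.exists_minimalPrimes_le hIQ
  haveI := hQ₀.1.1
  have hV0 : ∀ c : V, algebraMap V T c ∈ Q₀ → c = 0 := by
    intro c hc
    by_contra hne
    obtain ⟨y, hy, hxy⟩ := Ideal.exists_mul_mem_of_mem_minimalPrimes hQ₀ hc
    refine hy ((PrimeSpectrum.mem_vanishingIdeal _ _).2 fun w hw => ?_)
    refine (w.2.mem_or_mem ((PrimeSpectrum.mem_vanishingIdeal _ _).1 hxy w hw)).resolve_left fun hcw => hne ?_
    have : c ∈ (PrimeSpectrum.comap (algebraMap V T) w).asIdeal := hcw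
    rw [show PrimeSpectrum.comap (algebraMap V T) w = c₀ from hw] at this
    exact this
  refine ⟨Q₀.comap (Algebra.TensorProduct.includeRight (R := A) (A := V) (B := B)), Ideal.comap_isPrime _ _,
    fun b hb => hQB b (hQ₀Q hb), Ideal.ext fun a => ?_, fun P hP => ?_⟩
  · have hcomm : (1 : V) ⊗ₜ[A] algebraMap A B a = algebraMap V T (σ a) := by
      change (1 : V) ⊗ₜ[A] algebraMap A B a = σ a ⊗ₜ[A] (1 : B)
      rw [Algebra.algebraMap_eq_smul_one, ← TensorProduct.smul_tmul, Algebra.smul_def, mul_one]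
      rfl
    rw [Ideal.mem_comap, Ideal.mem_comap, ← ha₀]
    change (1 : V) ⊗ₜ[A] algebraMap A B a ∈ Q₀ ↔ _
    rw [hcomm, ← hσK]
    refine ⟨fun h => ?_, fun h => ?_⟩
    · rw [hV0 _ h]; rfl
    · rw [show σ a = 0 from Subtype.ext h, map_zero]; exact Q₀.zero_mem
  · let PV := MvPolynomial.map σ P
    have hPV : aeval (fun i => (1 : V) ⊗ₜ[A] t i) PV ∈ Q₀ := by
      have h1 : aeval (fun i => (1 : V) ⊗ₜ[A] t i) PV =
          Algebra.TensorProduct.includeRight (R := A) (A := V) (B := B) (aeval t P) := by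
        change aeval _ (MvPolynomial.map σ P) = _
        rw [show σ = algebraMap A V from rfl, aeval_map_algebraMap]
        exact (comp_aeval_apply t (Algebra.TensorProduct.includeRight (R := A) (A := V) (B := B)) P).symm
      rw [h1]
      exact hP
    have hPV0 : PV = 0 := by
      by_contra hne
      obtain ⟨c, P₁, m, hc, hPc, hm⟩ := exists_eq_C_mul PV hne
      rw [hPc, map_mul, aeval_C] at hPV
      have h1 := (hQ₀.1.1.mem_or_mem hPV).resolve_left fun h => hc (hV0 c h)
      have := hQpoly P₁ (hQ₀Q h1) m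
      rw [hm] at this
      exact (IsLocalRing.maximalIdeal.isMaximal V).ne_top ((Ideal.eq_top_iff_one _).2 this)
    ext m
    rw [coeff_map, coeff_zero, Ideal.Quotient.eq_zero_iff_mem, ← ha₀, ← hσK]
    have := congrArg (coeff m) hPV0
    rw [coeff_map, coeff_zero] at this
    rw [this]
    rfl

end Groth.L22.UnivOpenAlg
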