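import Groth.Agent.L22.CondT
import Groth.Agent.L22.UnivOpenAlg
import Groth.Agent.L22.DimFormulaScheme
import Mathlib.AlgebraicGeometry.Morphisms.UniversallyOpen

/-!
Universally open morphisms do not lose fibre dimension on generisation.
-/

set_option autoImplicit false
set_option linter.style.haveILetI false
universe u

open CategoryTheory CategoryTheory.Limits AlgebraicGeometry TopologicalSpace Topology
open scoped TensorProduct
open MvPolynomial

noncomputable section

namespace Groth.L22.UnivOpenDim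

open Groth.L07.Equidim (fdim exists_maximal_generization)

variable {X S : Scheme.{u}} (f : X ⟶ S)

theorem evaluation_eq_zero_iff {U : X.Opens} (hU : IsAffineOpen U) {x : X} (hx : x ∈ U) (r : Γ(X, U)) :
    X.evaluation U x hx r = 0 ↔ r ∈ (hU.primeIdealOf ⟨x, hx⟩).asIdeal := by
  rw [X.evaluation_eq_zero_iff_notMem_basicOpen x hx r]
  have hp : hU.fromSpec (hU.primeIdealOf ⟨x, hx⟩) = x := hU.fromSpec_primeIdealOf ⟨x, hx⟩
  have : x ∈ X.basicOpen r ↔ hU.primeIdealOf ⟨x, hx⟩ ∈ hU.fromSpec ⁻¹ᵁ X.basicOpen r :=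
    Iff.of_eq (congrArg (· ∈ X.basicOpen r) hp.symm)
  rw [this, hU.fromSpec_preimage_basicOpen]
  exact not_not

theorem exists_fraction {U : X.Opens} (hU : IsAffineOpen U) {x : X} (hx : x ∈ U) (z : X.residueField x) :
    ∃ s t : Γ(X, U), X.evaluation U x hx s ≠ 0 ∧ z * X.evaluation U x hx s = X.evaluation U x hx t := by
  obtain ⟨z, rfl⟩ := X.residue_surjective x z
  letI := X.presheaf.algebra_section_stalk ⟨x, hx⟩
  haveI := hU.isLocalization_stalk ⟨x, hx⟩
  obtain ⟨⟨t, s⟩, hst⟩ := IsLocalization.surj (hU.primeIdealOf ⟨x, hx⟩).asIdeal.primeCompl z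
  refine ⟨s.1, t, fun h => s.2 ((evaluation_eq_zero_iff hU hx _).1 h), ?_⟩
  change X.residue x z * X.residue x (algebraMap Γ(X, U) (X.presheaf.stalk x) (s : Γ(X, U))) =
    X.residue x (algebraMap Γ(X, U) (X.presheaf.stalk x) t)
  rw [← map_mul]
  exact congrArg _ hst

variable {W : S.Opens} {U : X.Opens} (hUW : U ≤ f ⁻¹ᵁ W)

theorem residueFieldMap_evaluation {x : X} (hx : x ∈ U) (a : Γ(S, W)) :
    f.residueFieldMap x (S.evaluation W (f x) (hUW hx) a) = X.evaluation U x hx (f.appLE W U hUW a) := by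
  rw [Scheme.evaluation_naturality_apply]
  change X.residue x (X.presheaf.germ (f ⁻¹ᵁ W) x (hUW hx) (f.app W a)) =
    X.residue x (X.presheaf.germ U x hx ((f.app W ≫ X.presheaf.map (homOfLE hUW).op) a))
  rw [CommRingCat.comp_apply, TopCat.Presheaf.germ_res_apply]

theorem aeval_evaluation {x : X} (hx : x ∈ U) {e : ℕ} (t : Fin e → Γ(X, U)) (P : MvPolynomial (Fin e) Γ(S, W)) :
    X.evaluation U x hx (eval₂ (f.appLE W U hUW).hom t P) =
      eval₂ (f.residueFieldMap x).hom (fun i => X.evaluation U x hx (t i))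
        (MvPolynomial.map (S.evaluation W (f x) (hUW hx)).hom P) := by
  rw [eval₂_map]
  refine (eval₂_comp_left (X.evaluation U x hx).hom _ _ P).trans ?_
  congr 1
  exact RingHom.ext fun a => (residueFieldMap_evaluation f hUW hx a).symm

theorem map_eq_zero_iff_mk (hW : IsAffineOpen W) {y : S} (hy : y ∈ W) {e : ℕ} (P : MvPolynomial (Fin e) Γ(S, W)) :
    MvPolynomial.map (S.evaluation W y hy).hom P = 0 ↔
      MvPolynomial.map (Ideal.Quotient.mk (hW.primeIdealOf ⟨y, hy⟩).asIdeal) P = 0 := by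
  simp only [MvPolynomial.ext_iff, coeff_map, coeff_zero, Ideal.Quotient.eq_zero_iff_mem]
  exact forall_congr' fun m => evaluation_eq_zero_iff hW hy _

/-- Coordinates realising the transcendence degree of a point. -/
theorem exists_coords (hW : IsAffineOpen W) (hU : IsAffineOpen U) {x : X} (hx : x ∈ U) {e : ℕ}
    (he : Cyc.rtrdeg f x = (e : Cardinal.{u})) :
    ∃ t : Fin e → Γ(X, U), ∀ P : MvPolynomial (Fin e) Γ(S, W),
      eval₂ (f.appLE W U hUW).hom t P ∈ (hU.primeIdealOf ⟨x, hx⟩).asIdeal →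
        MvPolynomial.map (Ideal.Quotient.mk (hW.primeIdealOf ⟨f x, hUW hx⟩).asIdeal) P = 0 := by
  letI := (f.residueFieldMap x).hom.toAlgebra
  let s : Set (X.residueField x) := Set.range (X.evaluation U x hx)
  haveI : Algebra.IsAlgebraic (Algebra.adjoin (S.residueField (f x)) s) (X.residueField x) := by
    refine Groth.L22.DimFormula.isAlgebraic_of_fractions fun z => ?_
    obtain ⟨a, b, ha, hab⟩ := exists_fraction hU hx z
    exact ⟨⟨_, Algebra.subset_adjoin ⟨a, rfl⟩⟩, ⟨_, Algebra.subset_adjoin ⟨b, rfl⟩⟩,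
      fun h => ha (congrArg Subtype.val h), hab⟩
  obtain ⟨T, hTs, hT⟩ := exists_isTranscendenceBasis_subset (R := S.residueField (f x)) s
  have hcard : Cardinal.mk T = (e : Cardinal.{u}) := hT.cardinalMk_eq_trdeg.trans he
  obtain ⟨eqv⟩ : Nonempty (Fin e ≃ T) := by
    rw [← Cardinal.lift_mk_eq', hcard]
    simp
  choose t ht using fun i => hTs (eqv i).2
  refine ⟨t, fun P hP => (map_eq_zero_iff_mk hW (hUW hx) P).1 ?_⟩
  have hind := (algebraicIndependent_iff.1 (hT.1.comp _ eqv.injective))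
    (MvPolynomial.map (S.evaluation W (f x) (hUW hx)).hom P)
  refine hind ?_
  rw [aeval_def]
  refine Eq.trans ?_ ((evaluation_eq_zero_iff hU hx _).2 hP)
  rw [aeval_evaluation f hUW hx]
  congr 1
  funext i
  exact (ht i).symm

/-- Independent coordinates bound the transcendence degree of a point. -/
theorem le_rtrdeg (hW : IsAffineOpen W) (hU : IsAffineOpen U) {x : X} (hx : x ∈ U) {e : ℕ}
    (t : Fin e → Γ(X, U))
    (h : ∀ P : MvPolynomial (Fin e) Γ(S, W),
      eval₂ (f.appLE W U hUW).hom t P ∈ (hU.primeIdealOf ⟨x, hx⟩).asIdeal →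
        MvPolynomial.map (Ideal.Quotient.mk (hW.primeIdealOf ⟨f x, hUW hx⟩).asIdeal) P = 0) :
    (e : Cardinal.{u}) ≤ Cyc.rtrdeg f x := by
  letI := (f.residueFieldMap x).hom.toAlgebra
  let R₀ := (S.evaluation W (f x) (hUW hx)).hom.range
  haveI : Algebra.IsAlgebraic R₀ (S.residueField (f x)) := by
    refine Groth.L22.DimFormula.isAlgebraic_of_fractions fun z => ?_
    obtain ⟨a, b, ha, hab⟩ := exists_fraction hW (hUW hx) z
    exact ⟨⟨_, a, rfl⟩, ⟨_, b, rfl⟩, fun h => ha (congrArg Subtype.val h), hab⟩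
  letI : Algebra R₀ (X.residueField x) := ((f.residueFieldMap x).hom.comp R₀.subtype).toAlgebra
  haveI : IsScalarTower R₀ (S.residueField (f x)) (X.residueField x) := IsScalarTower.of_algebraMap_eq fun _ => rfl
  have hind : AlgebraicIndependent R₀ fun i => X.evaluation U x hx (t i) := by
    rw [algebraicIndependent_iff]
    intro P hP
    obtain ⟨P', rfl⟩ := map_surjective _ (S.evaluation W (f x) (hUW hx)).hom.rangeRestrict_surjective P
    have h1 : X.evaluation U x hx (eval₂ (f.appLE W U hUW).hom t P') = 0 := by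
      rw [aeval_evaluation f hUW hx, ← hP, aeval_def, eval₂_map, eval₂_map]
      rfl
    have h2 := (map_eq_zero_iff_mk hW (hUW hx) P').2 (h P' ((evaluation_eq_zero_iff hU hx _).1 h1))
    ext1 m
    rw [coeff_map, coeff_zero]
    refine Subtype.ext ?_
    have h3 := congrArg (coeff m) h2
    rw [coeff_map, coeff_zero] at h3
    exact h3
  have := (hind.extendScalars (S.residueField (f x))).lift_cardinalMk_le_trdeg
  simpa [Cyc.rtrdeg] using this

include hUW in
theorem universallyOpen_appLE [UniversallyOpen f] (hW : IsAffineOpen W) (hU : IsAffineOpen U) :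
    UniversallyOpen (Spec.map (f.appLE W U hUW)) := by
  have h : UniversallyOpen (Spec.map (f.appLE W U hUW) ≫ hW.fromSpec) := by
    rw [IsAffineOpen.SpecMap_appLE_fromSpec f hW hU hUW]
    infer_instance
  exact MorphismProperty.of_isPullback (P := @UniversallyOpen)
    (IsPullback.of_horiz_isIso_mono (fst := 𝟙 _) (snd := Spec.map (f.appLE W U hUW))
      (f := Spec.map (f.appLE W U hUW) ≫ hW.fromSpec) (g := hW.fromSpec) (by constructor; simp)) h

/-- A fibre point generises to a point over a given generisation with no smaller dimension. -/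
theorem exists_generisation [UniversallyOpen f] [LocallyOfFiniteType f] {z : X} {y : S} (hy : y ⤳ f z) :
    ∃ ξ : X, ξ ⤳ z ∧ f ξ = y ∧ fdim f z ≤ fdim f ξ := by
  obtain ⟨_, ⟨W, hW, rfl⟩, hzW, -⟩ :=
    S.isBasis_affineOpens.exists_subset_of_mem_open (Set.mem_univ (f z)) isOpen_univ
  obtain ⟨_, ⟨U, hU, rfl⟩, hzU, hUW⟩ :=
    X.isBasis_affineOpens.exists_subset_of_mem_open (show z ∈ f ⁻¹ᵁ W from hzW) (f ⁻¹ᵁ W).2
  have hyW : y ∈ W := hy.mem_open W.2 hzW
  obtain ⟨n, hn, hn'⟩ := Groth.L07.DimToolkit.exists_fdim_rtrdeg f z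
  obtain ⟨t, ht⟩ := exists_coords f hUW hW hU hzU hn'
  letI : Algebra Γ(S, W) Γ(X, U) := (f.appLE W U hUW).hom.toAlgebra
  set q := hU.primeIdealOf ⟨z, hzU⟩ with hqdef
  set p := hW.primeIdealOf ⟨f z, hzW⟩ with hpdef
  set p₀ := hW.primeIdealOf ⟨y, hyW⟩ with hp₀def
  haveI := p.2; haveI := p₀.2; haveI := q.2
  have hpp : p₀.asIdeal ≤ p.asIdeal := by
    refine (PrimeSpectrum.le_iff_specializes p₀ p).2 ?_
    refine hW.fromSpec.isOpenEmbedding.isInducing.specializes_iff.1 ?_
    rw [hW.fromSpec_primeIdealOf ⟨y, hyW⟩, hW.fromSpec_primeIdealOf ⟨f z, hzW⟩]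
    exact hy
  have hqp : q.asIdeal.comap (algebraMap Γ(S, W) Γ(X, U)) = p.asIdeal :=
    congrArg PrimeSpectrum.asIdeal (IsAffineOpen.comap_primeIdealOf_appLE W hW U hU hUW hzU)
  haveI := universallyOpen_appLE f hUW hW hU
  have hopen : ∀ (V : Type u) [CommRing V] [Algebra Γ(S, W) V],
      IsOpenMap (PrimeSpectrum.comap (algebraMap V (V ⊗[Γ(S, W)] Γ(X, U)))) := by
    intro V _ _
    have hpb := isPullback_SpecMap_of_isPushout _ _ _ _
      (CommRingCat.isPushout_tensorProduct Γ(S, W) V Γ(X, U))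
    haveI : UniversallyOpen (Spec.map (CommRingCat.ofHom (algebraMap Γ(S, W) Γ(X, U)))) :=
      universallyOpen_appLE f hUW hW hU
    haveI : UniversallyOpen (Spec.map (CommRingCat.ofHom
        (Algebra.TensorProduct.includeLeftRingHom : V →+* V ⊗[Γ(S, W)] Γ(X, U)))) :=
      MorphismProperty.of_isPullback (P := @UniversallyOpen) hpb.flip inferInstance
    exact (Spec.map (CommRingCat.ofHom
      (Algebra.TensorProduct.includeLeftRingHom : V →+* V ⊗[Γ(S, W)] Γ(X, U)))).isOpenMap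
  obtain ⟨q₀, hq₀, hle, hcomap, hindep⟩ :=
    UnivOpenAlg.exists_le_prime p₀.asIdeal p.asIdeal hpp q.asIdeal hqp hopen t ht
  let w : Spec Γ(X, U) := ⟨q₀, hq₀⟩
  set ξ := hU.fromSpec w with hξ
  have hξU : ξ ∈ U := hU.range_fromSpec.subset ⟨w, rfl⟩
  have hw : hU.primeIdealOf ⟨ξ, hξU⟩ = w :=
    hU.fromSpec.isOpenEmbedding.injective (hU.fromSpec_primeIdealOf ⟨ξ, hξU⟩)
  have hfy : f ξ = y := by
    have hc := IsAffineOpen.comap_primeIdealOf_appLE (f := f) W hW U hU hUW hξU
    rw [hw] at hc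
    have hc' : hW.primeIdealOf ⟨f ξ, hUW hξU⟩ = p₀ := hc.symm.trans (PrimeSpectrum.ext hcomap)
    have := congrArg hW.fromSpec hc'
    rwa [hW.fromSpec_primeIdealOf, hW.fromSpec_primeIdealOf ⟨y, hyW⟩] at this
  have hsp : ξ ⤳ z := by
    have := ((PrimeSpectrum.le_iff_specializes w q).1 hle).map hU.fromSpec.continuous
    rwa [hU.fromSpec_primeIdealOf ⟨z, hzU⟩] at this
  refine ⟨ξ, hsp, hfy, ?_⟩
  have hle' : (n : Cardinal.{u}) ≤ Cyc.rtrdeg f ξ := by
    refine le_rtrdeg f hUW hW hU hξU t fun P hP => ?_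
    rw [hw] at hP
    have := hindep P hP
    have heq : (hW.primeIdealOf ⟨f ξ, hUW hξU⟩).asIdeal = p₀.asIdeal := congrArg PrimeSpectrum.asIdeal
      (hW.fromSpec.isOpenEmbedding.injective (by
        rw [hW.fromSpec_primeIdealOf, hW.fromSpec_primeIdealOf ⟨y, hyW⟩]; exact hfy))
    ext1 m
    have h3 := congrArg (coeff m) this
    rw [coeff_map, coeff_zero, Ideal.Quotient.eq_zero_iff_mem] at h3 ⊢
    rw [heq]
    exact h3
  obtain ⟨m, hm, hm'⟩ := Groth.L07.DimToolkit.exists_fdim_rtrdeg f ξ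
  rw [hm'] at hle'
  rw [hn, hm]
  exact_mod_cast (show n ≤ m by exact_mod_cast hle')

theorem exists_component [UniversallyOpen f] [LocallyOfFiniteType f] (x : X) :
    ∃ W : TopologicalSpace.Closeds X, (W : Set X) ∈ irreducibleComponents (X : Type u) ∧
      ∃ w : ↥((Scheme.IdealSheafData.vanishingIdeal W).subscheme),
        (Scheme.IdealSheafData.vanishingIdeal W).subschemeι.base w = x ∧
        EGA43.IsEquidimAt ((Scheme.IdealSheafData.vanishingIdeal W).subschemeι ≫ f) w := by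
  obtain ⟨z, hzx, hfz, -, hzd⟩ := Groth.L07.OpenEquiv.exists_maximal_fdim_eq f x
  obtain ⟨y, hy, hymax⟩ := exists_maximal_generization (f z)
  obtain ⟨ξ₀, hξ₀, hfξ₀, hle⟩ := exists_generisation f hy
  obtain ⟨ξ, hξ, hξmax⟩ := exists_maximal_generization ξ₀
  have hfξ : f ξ = y := hymax _ (hfξ₀ ▸ hξ.map f.continuous)
  obtain ⟨e, he, -⟩ := Groth.L07.DimToolkit.exists_fdim_rtrdeg f ξ
  refine CondT.exists_component_equidim f x ξ ((hξ.trans hξ₀).trans hzx) hξmax e ?_ he ?_
  · rw [hfξ]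
    exact (Groth.L07.EquidimQF.closure_singleton_mem_irreducibleComponents_iff y).2 hymax
  · rw [← hzd, ← he]
    exact hle.trans (Groth.L07.OpenEquiv.fdim_mono f hξ (hfξ.trans hfξ₀.symm))

end Groth.L22.UnivOpenDim
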