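import Groth.Agent.L22.CondT
import Groth.Agent.L07.ChevalleyNormal
import Groth.Agent.L07.Count.Unibranch

/-!
Chevalley's criterion of universal openness with finitely many components.
-/

set_option autoImplicit false
set_option linter.style.haveILetI false
set_option backward.isDefEq.respectTransparency false
universe u

open CategoryTheory CategoryTheory.Limits AlgebraicGeometry TopologicalSpace Topology

noncomputable section

namespace Groth.L22.UnivOpenUnibranch

open Groth.L07.EquidimQF (closure_singleton_mem_irreducibleComponents_iff)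
open Groth.L07.Equidim (fdim fdim_comp)

variable {S : Scheme.{u}}

theorem eq_component (hS : ∀ s : S, CAlg2.IsUnibranch (S.presheaf.stalk s)) {s : S} {Z Z' : Set S}
    (hZ : Z ∈ irreducibleComponents ↥S) (hZ' : Z' ∈ irreducibleComponents ↥S) (h : s ∈ Z) (h' : s ∈ Z') :
    Z = Z' := by
  obtain ⟨η, hη⟩ := QuasiSober.sober hZ.1 (isClosed_of_mem_irreducibleComponents Z hZ)
  obtain ⟨η', hη'⟩ := QuasiSober.sober hZ'.1 (isClosed_of_mem_irreducibleComponents Z' hZ')
  rw [← hη.def, ← hη'.def, Groth.L07.Count.eq_of_maximal_of_unibranch (hS s) (hη.specializes h)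
    (hη'.specializes h') ((closure_singleton_mem_irreducibleComponents_iff η).1 (hη.def.symm ▸ hZ))
    ((closure_singleton_mem_irreducibleComponents_iff η').1 (hη'.def.symm ▸ hZ'))]

theorem isOpen_component (hS : ∀ s : S, CAlg2.IsUnibranch (S.presheaf.stalk s))
    (hfin : (irreducibleComponents (S : Type u)).Finite) {Z : Set S} (hZ : Z ∈ irreducibleComponents ↥S) :
    IsOpen Z := by
  have hc : Zᶜ = ⋃ Z' ∈ irreducibleComponents (S : Type u) \ {Z}, Z' := by
    ext s
    simp only [Set.mem_compl_iff, Set.mem_iUnion, Set.mem_sdiff, Set.mem_singleton_iff, exists_prop]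
    refine ⟨fun hs => ?_, ?_⟩
    · exact ⟨irreducibleComponent s, ⟨irreducibleComponent_mem_irreducibleComponents s,
        fun h => hs (h ▸ mem_irreducibleComponent)⟩, mem_irreducibleComponent⟩
    · rintro ⟨Z', ⟨hZ', hne⟩, hs⟩ hsZ
      exact hne (eq_component hS hZ' hZ hs hsZ)
  rw [← isClosed_compl_iff, hc]
  exact hfin.sdiff.isClosed_biUnion fun Z' h => isClosed_of_mem_irreducibleComponents Z' h.1

theorem isGeomUnibranch_stalk_opens (hS : ∀ s : S, CAlg2.IsGeomUnibranch (S.presheaf.stalk s)) (V : S.Opens)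
    (v : (V : Scheme.{u})) : CAlg2.IsGeomUnibranch ((V : Scheme.{u}).presheaf.stalk v) := by
  refine Groth.L07.Chevalley.isGeomUnibranch_of_surjective (V.ι.stalkMap v).hom
    (ConcreteCategory.bijective_of_isIso (V.ι.stalkMap v)).2 (fun a ha => ?_) (hS _)
  have h0 : a = 0 := (ConcreteCategory.bijective_of_isIso (V.ι.stalkMap v)).1
    ((RingHom.mem_ker.mp ha).trans (map_zero (V.ι.stalkMap v).hom).symm)
  rw [h0]; exact zero_mem _

theorem fdim_comp_injective {U V : Scheme.{u}} (h : U ⟶ V) (i : V ⟶ S) (hi : Function.Injective i) (u : U) :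
    fdim (h ≫ i) u = fdim h u := by
  have : (h ≫ i) ⁻¹' {(h ≫ i) u} = h ⁻¹' {h u} := by
    ext v
    simp only [Set.mem_preimage, Set.mem_singleton_iff, Scheme.Hom.comp_apply]
    exact hi.eq_iff
  unfold fdim
  rw [this]

theorem fibreDimAt_le_of_comp_injective {U V : Scheme.{u}} (h : U ⟶ V) (i : V ⟶ S) (hi : Function.Injective i)
    (u : U) (n : WithBot ℕ∞) (hn : FlatMor.fibreDimAt (h ≫ i) u ≤ n) : FlatMor.fibreDimAt h u ≤ n := by
  obtain ⟨W, hW, hd⟩ := (Groth.L07.FibreDim.fibreDimAt_le_iff (h ≫ i) u n).1 hn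
  refine (Groth.L07.FibreDim.fibreDimAt_le_iff h u n).2 ⟨W, hW, ?_⟩
  have : (h ≫ i) ⁻¹' {(h ≫ i) u} = h ⁻¹' {h u} := by
    ext v
    simp only [Set.mem_preimage, Set.mem_singleton_iff, Scheme.Hom.comp_apply]
    exact hi.eq_iff
  rwa [this] at hd

/-- An equidimensional irreducible neighbourhood is universally open over the base. -/
theorem exists_univOpen_nhd (hS : ∀ s : S, CAlg2.IsGeomUnibranch (S.presheaf.stalk s))
    (hfin : (irreducibleComponents (S : Type u)).Finite) {W : Scheme.{u}} [IrreducibleSpace W]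
    (g : W ⟶ S) [LocallyOfFiniteType g] (w : W) (hw : EGA43.IsEquidimAt g w) :
    ∃ U : W.Opens, w ∈ U ∧ UniversallyOpen (U.ι ≫ g) := by
  obtain ⟨e, hwe, hall⟩ := Groth.L22.CondT.data_of_isEquidimAt g w hw
  have hmax : ∀ q, q ⤳ genericPoint W → q = genericPoint W :=
    fun q hq => (hq.antisymm (genericPoint_specializes q)).eq
  obtain ⟨hc, he⟩ := hall _ (genericPoint_specializes w) hmax
  set Z : Set S := closure {g (genericPoint W)} with hZdef
  let V : S.Opens := ⟨Z, isOpen_component (fun s => (hS s).1) hfin hc⟩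
  let U : W.Opens := ⟨{v | FlatMor.fibreDimAt g v ≤ (e : WithBot ℕ∞)}, Groth.L07.FibreDim.isOpen_fibreDimAt_le g e⟩
  refine ⟨U, hwe, ?_⟩
  haveI hlft : LocallyOfFiniteType (U.ι ≫ g) := inferInstance
  have hgZ : ∀ v, g v ∈ Z := fun v => ((genericPoint_specializes v).map g.continuous).mem_closure
  let h : (U : Scheme.{u}) ⟶ (V : Scheme.{u}) := IsOpenImmersion.lift V.ι (U.ι ≫ g) (by
    rintro _ ⟨v, rfl⟩
    rw [Scheme.Opens.range_ι]
    exact hgZ _)
  have hh : h ≫ V.ι = U.ι ≫ g := IsOpenImmersion.lift_fac _ _ _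
  haveI : LocallyOfFiniteType (h ≫ V.ι) := hh ▸ hlft
  haveI : LocallyOfFiniteType h := locallyOfFiniteType_of_comp h V.ι
  let η : (U : Scheme.{u}) := ⟨genericPoint W, (genericPoint_specializes w).mem_open U.2 hwe⟩
  have hηs : ∀ v : (U : Scheme.{u}), η ⤳ v := fun v =>
    U.ι.isOpenEmbedding.isInducing.specializes_iff.1 (genericPoint_specializes _)
  have hgpU : IsGenericPoint η Set.univ := Set.eq_univ_of_forall fun v => (hηs v).mem_closure
  haveI : IrreducibleSpace ↥(U : Scheme.{u}) :=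
    { toPreirreducibleSpace := ⟨hgpU.isIrreducible.2⟩, toNonempty := ⟨η⟩ }
  have hηV : V.ι (h η) = g (genericPoint W) := by rw [← Scheme.Hom.comp_apply, hh]; rfl
  have hgpV : IsGenericPoint (h η) Set.univ := Set.eq_univ_of_forall fun v => by
    refine Specializes.mem_closure (V.ι.isOpenEmbedding.isInducing.specializes_iff.1 ?_)
    rw [hηV, specializes_iff_mem_closure]
    exact v.2
  haveI : IrreducibleSpace ↥(V : Scheme.{u}) :=
    { toPreirreducibleSpace := ⟨hgpV.isIrreducible.2⟩, toNonempty := ⟨h η⟩ }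
  haveI : IsDominant h := ⟨dense_iff_closure_eq.2 <| Set.eq_univ_of_univ_subset <| by
    rw [← hgpV.def]
    exact closure_mono (Set.singleton_subset_iff.2 ⟨η, rfl⟩)⟩
  have hge : genericPoint ↥(U : Scheme.{u}) = η := (genericPoint_spec _).eq hgpU
  have hfd : fdim h η = (e : WithBot ℕ∞) := by
    rw [← fdim_comp_injective h V.ι V.ι.isOpenEmbedding.injective, hh, fdim_comp U.ι g (U.ι ≫ g) rfl]
    exact he
  haveI : UniversallyOpen h := by
    refine Groth.L07.Chevalley.universallyOpen_of_fibreDim (isGeomUnibranch_stalk_opens hS V) h fun x => ?_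
    rw [← Groth.L07.Chevalley.fdim_genericPoint, hge, hfd]
    refine le_antisymm (fibreDimAt_le_of_comp_injective h V.ι V.ι.isOpenEmbedding.injective _ _ ?_)
      (hfd ▸ Groth.L07.DimToolkit.fdim_le_fibreDimAt_of_specializes h (hηs x))
    rw [hh]
    obtain ⟨U', hU', hd⟩ := (Groth.L07.FibreDim.fibreDimAt_le_iff g (U.ι x) _).1 x.2
    refine (Groth.L07.FibreDim.fibreDimAt_le_iff (U.ι ≫ g) x _).2 ⟨U.ι ⁻¹ᵁ U', hU', le_trans ?_ hd⟩
    refine (IsEmbedding.isInducing ?_).topologicalKrullDim_le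
      (f := Set.MapsTo.restrict U.ι _ _ (fun v hv => ⟨hv.1, hv.2⟩))
    exact (U.ι.isOpenEmbedding.isEmbedding.comp IsEmbedding.subtypeVal).codRestrict _ _
  rw [← hh]
  infer_instance

/-- A morphism covered pointwise by universally open morphisms is universally open. -/
theorem universallyOpen_of_cover {X : Scheme.{u}} (f : X ⟶ S)
    (h : ∀ x : X, ∃ (U : Scheme.{u}) (j : U ⟶ X), UniversallyOpen (j ≫ f) ∧ x ∈ Set.range j) :
    UniversallyOpen f := by
  refine ⟨fun X' S' i₁ i₂ f' H => ?_⟩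
  show IsOpenMap f'
  intro O hO
  rw [isOpen_iff_mem_nhds]
  rintro _ ⟨a, ha, rfl⟩
  obtain ⟨U, j, hj, hx⟩ := h (i₁ a)
  haveI := hj
  let q := pullback.fst i₁ j
  have H' : IsPullback (pullback.fst i₁ j ≫ f') (pullback.snd i₁ j) i₂ (j ≫ f) :=
    (IsPullback.of_hasPullback i₁ j).paste_horiz H
  haveI : UniversallyOpen (q ≫ f') :=
    MorphismProperty.of_isPullback (P := @UniversallyOpen) H'.flip hj
  obtain ⟨b, hb⟩ : a ∈ Set.range q := by
    rw [Scheme.Pullback.range_fst]
    exact hx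
  refine Filter.mem_of_superset (((q ≫ f').isOpenMap _ (hO.preimage q.continuous)).mem_nhds
    ⟨b, show q b ∈ O from hb ▸ ha, by rw [Scheme.Hom.comp_apply, hb]⟩) ?_
  rintro _ ⟨c, hc, rfl⟩
  exact ⟨q c, hc, rfl⟩

theorem main {X : Scheme.{u}}
    (hS : ∀ s : S, CAlg2.IsGeomUnibranch (S.presheaf.stalk s))
    (hfin : (irreducibleComponents (S : Type u)).Finite)
    (f : X ⟶ S) [LocallyOfFiniteType f]
    (hT : ∀ x : X, ∃ W : TopologicalSpace.Closeds X, (W : Set X) ∈ irreducibleComponents (X : Type u) ∧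
      ∃ w : ↥((Scheme.IdealSheafData.vanishingIdeal W).subscheme),
        (Scheme.IdealSheafData.vanishingIdeal W).subschemeι.base w = x ∧
        EGA43.IsEquidimAt ((Scheme.IdealSheafData.vanishingIdeal W).subschemeι ≫ f) w) :
    UniversallyOpen f := by
  refine universallyOpen_of_cover f fun x => ?_
  obtain ⟨W, hW, w, rfl, hw⟩ := hT x
  let i := (Scheme.IdealSheafData.vanishingIdeal W).subschemeι
  have hr : Set.range i = (W : Set X) := by
    show Set.range (Scheme.IdealSheafData.vanishingIdeal W).subschemeι = _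
    rw [Scheme.IdealSheafData.range_subschemeι, Scheme.IdealSheafData.coe_support_vanishingIdeal]
  haveI : IrreducibleSpace ↥((Scheme.IdealSheafData.vanishingIdeal W).subscheme) := by
    obtain ⟨ξ, hξ⟩ := QuasiSober.sober hW.1 W.isClosed
    obtain ⟨η, hη⟩ : ξ ∈ Set.range i := hr ▸ hξ.mem
    have hgp : IsGenericPoint η Set.univ := Set.eq_univ_of_forall fun v =>
      (i.isEmbedding.isInducing.specializes_iff.1 (hη ▸ hξ.specializes (hr ▸ ⟨v, rfl⟩))).mem_closure
    exact { toPreirreducibleSpace := ⟨hgp.isIrreducible.2⟩, toNonempty := ⟨η⟩ }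
  obtain ⟨U, hwU, hU⟩ := exists_univOpen_nhd hS hfin (i ≫ f) w hw
  exact ⟨_, U.ι ≫ i, by rwa [Category.assoc], ⟨⟨w, hwU⟩, rfl⟩⟩

end Groth.L22.UnivOpenUnibranch
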