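import Groth.Agent.L22.SchemeDim
import Groth.Agent.L22.FibreDim
import Groth.Agent.L03.Euler.Dim
import Mathlib.RingTheory.NoetherNormalization
import Mathlib.Algebra.MvPolynomial.Equiv
import Mathlib.RingTheory.Ideal.GoingUp
import Mathlib.Topology.JacobsonSpace
import Mathlib.AlgebraicGeometry.Morphisms.Finite
import Mathlib.RingTheory.Polynomial.Basic

/-!
Over an uncountable field a variety is not a countable union of proper closed subsets.
-/

set_option autoImplicit false
set_option linter.style.haveILetI false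
universe u

open CategoryTheory AlgebraicGeometry TopologicalSpace

noncomputable section

namespace Groth.L22.VeryGeneral

theorem exists_eval_ne_zero {k : Type u} [Field k] [Uncountable k] :
    ∀ (d : ℕ) (S : Set (MvPolynomial (Fin d) k)), S.Countable → (0 : MvPolynomial (Fin d) k) ∉ S →
      ∃ a : Fin d → k, ∀ g ∈ S, MvPolynomial.eval a g ≠ 0
  | 0, S, _, h0 => ⟨Fin.elim0, fun g hg h => h0 (by
      rw [MvPolynomial.eq_C_of_isEmpty g, MvPolynomial.eval_C] at h
      have hg0 : g = 0 := by rw [MvPolynomial.eq_C_of_isEmpty g, h, map_zero]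
      rwa [← hg0])⟩
  | d + 1, S, hS, h0 => by
    classical
    let E := MvPolynomial.finSuccEquiv k d
    obtain ⟨a, ha⟩ := exists_eval_ne_zero d ((fun g => (E g).leadingCoeff) '' S) (hS.image _) (by
      rintro ⟨g, hg, hg0⟩
      exact h0 (by rwa [← (E.toEquiv.injective.eq_iff (a := g) (b := 0)).1 (by
        simpa using Polynomial.leadingCoeff_eq_zero.1 hg0)]))
    have hne : ∀ g ∈ S, (E g).map (MvPolynomial.eval a) ≠ 0 := fun g hg h => ha _ ⟨g, hg, rfl⟩ (by
      have := congrArg (fun q => Polynomial.coeff q (E g).natDegree) h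
      simpa using this)
    obtain ⟨y, hy⟩ : ∃ y : k, y ∉ ⋃ g ∈ S, {y | ((E g).map (MvPolynomial.eval a)).eval y = 0} := by
      by_contra hc
      push Not at hc
      exact not_countable (α := k) (Set.countable_univ_iff.1 ((Set.Countable.biUnion hS fun g hg =>
        (Polynomial.finite_setOf_isRoot (hne g hg)).countable).mono fun y _ => hc y))
    refine ⟨Fin.cons y a, fun g hg h => hy (Set.mem_iUnion₂.2 ⟨g, hg, ?_⟩)⟩
    rwa [MvPolynomial.eval_eq_eval_mv_eval'] at h

/-- A domain of finite type over an uncountable field has a maximal ideal avoiding countably many nonzero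
elements. -/
theorem exists_maximal_notMem (k : Type u) [Field k] [Uncountable k] (B : Type u) [CommRing B] [IsDomain B]
    [Algebra k B] [Algebra.FiniteType k B] (b : ℕ → B) (hb : ∀ n, b n ≠ 0) :
    ∃ m : Ideal B, m.IsMaximal ∧ ∀ n, b n ∉ m := by
  obtain ⟨d, g, hinj, hint⟩ := exists_integral_inj_algHom_of_fg k B
  letI : Algebra (MvPolynomial (Fin d) k) B := g.toRingHom.toAlgebra
  haveI : Algebra.IsIntegral (MvPolynomial (Fin d) k) B := ⟨hint⟩
  haveI : FaithfulSMul (MvPolynomial (Fin d) k) B := (faithfulSMul_iff_algebraMap_injective _ _).2 hinj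
  have hc : ∀ n, ∃ c : MvPolynomial (Fin d) k, c ≠ 0 ∧
      algebraMap (MvPolynomial (Fin d) k) B c ∈ Ideal.span {b n} := fun n => by
    have hne := Ideal.comap_ne_bot_of_integral_mem (R := MvPolynomial (Fin d) k) (hb n)
      (Ideal.mem_span_singleton_self (b n)) (Algebra.IsIntegral.isIntegral (b n))
    obtain ⟨c, hc, hc0⟩ := Submodule.exists_mem_ne_zero_of_ne_bot hne
    exact ⟨c, hc0, hc⟩
  choose c hc0 hc using hc
  obtain ⟨a, ha⟩ := exists_eval_ne_zero d (Set.range c) (Set.countable_range c) (by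
    rintro ⟨n, hn⟩; exact hc0 n hn)
  let q : Ideal (MvPolynomial (Fin d) k) := RingHom.ker (MvPolynomial.eval a)
  haveI hq : q.IsMaximal := RingHom.ker_isMaximal_of_surjective _ fun x => ⟨MvPolynomial.C x, MvPolynomial.eval_C x⟩
  obtain ⟨m, hm, hmq⟩ := Ideal.exists_maximal_ideal_liesOver_of_isIntegral (S := B) q
  refine ⟨m, hm, fun n hn => ha (c n) ⟨n, rfl⟩ ?_⟩
  have h1 : algebraMap (MvPolynomial (Fin d) k) B (c n) ∈ m :=
    (Ideal.span_singleton_le_iff_mem _).2 hn (hc n)
  have h2 : c n ∈ q := by rw [hmq.over]; exact h1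
  exact h2

/-- A closed point of the closure of `η`, in a given neighbourhood, avoiding countably many closed sets. -/
theorem exists_closedPoint {k : Type u} [Field k] [Uncountable k] {X : Scheme.{u}}
    (sX : X ⟶ Spec (CommRingCat.of k)) [LocallyOfFiniteType sX] (η : X) (W : X.Opens) (hW : η ∈ W)
    (Z : ℕ → Closeds X) (hZ : ∀ n, η ∉ Z n) :
    ∃ x : X, IsClosed ({x} : Set X) ∧ η ⤳ x ∧ x ∈ W ∧ ∀ n, x ∉ Z n := by
  letI : X.Over (Spec (CommRingCat.of k)) := ⟨sX⟩
  haveI : LocallyOfFiniteType (X ↘ Spec (CommRingCat.of k)) := ‹LocallyOfFiniteType sX›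
  haveI : JacobsonSpace X := LocallyOfFiniteType.jacobsonSpace sX
  obtain ⟨_, ⟨U, hU, rfl⟩, hηU, hUW⟩ := X.isBasis_affineOpens.exists_subset_of_mem_open hW W.2
  letI : Algebra k Γ(X, U) := (Groth.L22.SchemeDim.sectHom k X U).toAlgebra
  haveI : Algebra.FiniteType k Γ(X, U) :=
    RingHom.finiteType_algebraMap.1 (Groth.L22.SchemeDim.finiteType_sectHom k X hU)
  let p : PrimeSpectrum Γ(X, U) := hU.primeIdealOf ⟨η, hηU⟩
  haveI := p.2
  have hf : ∀ n, ∃ f : Γ(X, U), f ∉ p.asIdeal ∧ ∀ q : PrimeSpectrum Γ(X, U),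
      hU.fromSpec q ∈ Z n → f ∈ q.asIdeal := fun n => by
    obtain ⟨f, hf, hpf⟩ := PrimeSpectrum.isTopologicalBasis_basic_opens.exists_subset_of_mem_open
      (a := p) (u := hU.fromSpec ⁻¹' (Z n : Set X)ᶜ)
      (show hU.fromSpec p ∈ (Z n : Set X)ᶜ by rw [hU.fromSpec_primeIdealOf]; exact hZ n)
      ((Z n).isClosed.isOpen_compl.preimage hU.fromSpec.continuous)
    obtain ⟨r, rfl⟩ := hf
    exact ⟨r, hpf.1, fun q hq => by_contra fun h => hpf.2 h hq⟩
  choose f hfp hfZ using hf
  haveI : Algebra.FiniteType k (Γ(X, U) ⧸ p.asIdeal) :=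
    Algebra.FiniteType.of_surjective (Ideal.Quotient.mkₐ k p.asIdeal) Ideal.Quotient.mk_surjective
  obtain ⟨m, hm, hmf⟩ := exists_maximal_notMem k (Γ(X, U) ⧸ p.asIdeal) (fun n => Ideal.Quotient.mk p.asIdeal (f n))
    fun n h => hfp n (Ideal.Quotient.eq_zero_iff_mem.1 h)
  let q : PrimeSpectrum Γ(X, U) := ⟨m.comap (Ideal.Quotient.mk p.asIdeal), inferInstance⟩
  haveI hqm : q.asIdeal.IsMaximal := Ideal.comap_isMaximal_of_surjective _ Ideal.Quotient.mk_surjective
  let x := hU.fromSpec q
  have hxU : x ∈ U := hU.range_fromSpec.le ⟨q, rfl⟩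
  refine ⟨x, ?_, ?_, hUW hxU, fun n hn => hmf n (hfZ n q hn)⟩
  · have h1 : IsClosed ({q} : Set (Spec Γ(X, U))) := (PrimeSpectrum.isClosed_singleton_iff_isMaximal q).2 hqm
    have h2 := h1.isLocallyClosed.image hU.fromSpec.isOpenEmbedding.isInducing
      hU.fromSpec.isOpenEmbedding.isOpen_range.isLocallyClosed
    replace h2 : IsLocallyClosed ({x} : Set X) := (Set.image_singleton (f := hU.fromSpec) (a := q)) ▸ h2
    exact isClosed_singleton_of_isLocallyClosed_singleton h2
  · have he : hU.fromSpec p = η := hU.fromSpec_primeIdealOf ⟨η, hηU⟩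
    rw [← he]
    refine ((PrimeSpectrum.le_iff_specializes p q).1 ?_).map hU.fromSpec.continuous
    intro r hr
    show Ideal.Quotient.mk p.asIdeal r ∈ m
    rw [Ideal.Quotient.eq_zero_iff_mem.2 hr]
    exact zero_mem m

/-- An irreducible closed set covered on closed points by countably many closed sets lies in one of them. -/
theorem exists_subset {k : Type u} [Field k] [Uncountable k] {X : Scheme.{u}}
    (sX : X ⟶ Spec (CommRingCat.of k)) [LocallyOfFiniteType sX] {T : Set X} (hTi : IsIrreducible T) (hTc : IsClosed T)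
    {S : Set (Closeds X)} (hS : S.Countable)
    (h : ∀ x ∈ T, IsClosed ({x} : Set X) → ∃ Z ∈ S, x ∈ Z) : ∃ Z ∈ S, T ⊆ (Z : Set X) := by
  obtain ⟨η, hη⟩ := QuasiSober.sober hTi hTc
  by_contra hc
  push Not at hc
  obtain ⟨f, hf⟩ := (hS.insert (⊥ : Closeds X)).exists_eq_range (Set.insert_nonempty _ _)
  have hn : ∀ n, η ∉ f n := fun n hmem => by
    rcases (hf ▸ ⟨n, rfl⟩ : f n ∈ insert (⊥ : Closeds X) S) with e | hS'
    · rw [e] at hmem; exact hmem
    · exact hc _ hS' (hη.def ▸ closure_minimal (Set.singleton_subset_iff.2 hmem) (f n).isClosed)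
  obtain ⟨x, hx, hηx, -, hxn⟩ := exists_closedPoint sX η ⊤ trivial f hn
  obtain ⟨Z, hZ, hxZ⟩ := h x (hηx.mem_closed hTc hη.mem) hx
  obtain ⟨n, rfl⟩ : Z ∈ Set.range f := hf ▸ Or.inr hZ
  exact hxn n hxZ

/-- Schemes of finite type over a field are finite dimensional. -/
theorem exists_dim_le (k : Type u) [Field k] (X : Scheme.{u}) [X.Over (Spec (CommRingCat.of k))]
    [LocallyOfFiniteType (X ↘ Spec (CommRingCat.of k))] [CompactSpace X] :
    ∃ N : ℕ, topologicalKrullDim X ≤ (N : WithBot ℕ∞) := by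
  classical
  haveI : IsLocallyNoetherian X := LocallyOfFiniteType.isLocallyNoetherian (X ↘ Spec (CommRingCat.of k))
  haveI : AlgebraicGeometry.IsNoetherian X := ⟨⟩
  choose d hd using fun x : X => Groth.L22.SchemeDim.exists_dim_closure_eq_trdeg k X x
  have hfin : {x : X | closure {x} ∈ irreducibleComponents X}.Finite := by
    refine Set.Finite.of_finite_image (f := fun x : X => closure ({x} : Set X))
      ((NoetherianSpace.finite_irreducibleComponents (α := X)).subset ?_) fun y _ y' _ h => ?_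
    · rintro _ ⟨y, hy, rfl⟩
      exact hy
    · exact (inseparable_iff_closure_eq.2 h).eq
  refine ⟨hfin.toFinset.sup d, ?_⟩
  rw [Groth.L22.FibreDim.topologicalKrullDim_eq_iSup_closure]
  refine iSup_le fun x => ?_
  obtain ⟨W, hW, hxW⟩ := exists_mem_irreducibleComponents_subset_of_isIrreducible _ (isIrreducible_singleton (x := x))
  obtain ⟨ξ, hξ⟩ := QuasiSober.sober hW.1 (isClosed_of_mem_irreducibleComponents W hW)
  have hsub : closure ({x} : Set X) ⊆ closure ({ξ} : Set X) := by
    rw [hξ.def]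
    exact closure_minimal hxW (isClosed_of_mem_irreducibleComponents W hW)
  refine (Topology.IsEmbedding.inclusion hsub).isInducing.topologicalKrullDim_le.trans ((hd ξ).1.le.trans ?_)
  exact Nat.cast_le.2 (Finset.le_sup (f := d) (hfin.mem_toFinset.2
    (Eq.mpr (congrArg (· ∈ irreducibleComponents X) hξ.def) hW : closure {ξ} ∈ irreducibleComponents X)))

end Groth.L22.VeryGeneral
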